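import Cfsg.Agent.Lib.Perm.Trans.ThreeDim.HeisComplex
import Cfsg.Agent.Lib.Char.LiftCoprime

/-!
# Groups of two by two matrices over a prime field containing a diagonal element and a swap

Such a group with an element of order `p` contains all elementary matrices; its subgroups normalised
by them and containing a nonscalar contain elementary matrices; and if its order is prime to `p`,
then every symmetric element of it is monomial.
-/

set_option autoImplicit false
set_option linter.all false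

namespace CfsgLib.Perm.Trans.FiveDim.Pauli

open Matrix

variable {F : Type*} [Field F]

/-- upper elementary matrices -/
def xu (s : F) : GL (Fin 2) F :=
  Matrix.GeneralLinearGroup.mkOfDetNeZero !![1, s; 0, 1] (by simp [Matrix.det_fin_two])

/-- lower elementary matrices -/
def yl (s : F) : GL (Fin 2) F :=
  Matrix.GeneralLinearGroup.mkOfDetNeZero !![1, 0; s, 1] (by simp [Matrix.det_fin_two])

theorem val_xu (s : F) : (xu s : Matrix (Fin 2) (Fin 2) F) = !![1, s; 0, 1] := rfl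

theorem val_yl (s : F) : (yl s : Matrix (Fin 2) (Fin 2) F) = !![1, 0; s, 1] := rfl

theorem xu_add (a b : F) : xu a * xu b = xu (a + b) := Units.ext (by
  rw [Units.val_mul, val_xu, val_xu, val_xu]
  ext i j; fin_cases i <;> fin_cases j <;> simp [Matrix.mul_apply, Fin.sum_univ_two, add_comm])

theorem yl_add (a b : F) : yl a * yl b = yl (a + b) := Units.ext (by
  rw [Units.val_mul, val_yl, val_yl, val_yl]
  ext i j; fin_cases i <;> fin_cases j <;> simp [Matrix.mul_apply, Fin.sum_univ_two, add_comm])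

theorem xu_zero : (xu 0 : GL (Fin 2) F) = 1 := Units.ext (by
  rw [val_xu, Units.val_one]; ext i j; fin_cases i <;> fin_cases j <;> simp)

theorem yl_zero : (yl 0 : GL (Fin 2) F) = 1 := Units.ext (by
  rw [val_yl, Units.val_one]; ext i j; fin_cases i <;> fin_cases j <;> simp)

theorem xu_inv (a : F) : (xu a)⁻¹ = xu (-a) :=
  inv_eq_of_mul_eq_one_right (by rw [xu_add, add_neg_cancel, xu_zero])

theorem yl_inv (a : F) : (yl a)⁻¹ = yl (-a) :=
  inv_eq_of_mul_eq_one_right (by rw [yl_add, add_neg_cancel, yl_zero])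

/-- all elements of determinant one come from elementary matrices -/
theorem mem_of_det_one {G : Subgroup (GL (Fin 2) F)} (hx : ∀ s, xu s ∈ G) (hy : ∀ s, yl s ∈ G)
    {g : GL (Fin 2) F} (hg : (g : Matrix (Fin 2) (Fin 2) F).det = 1) : g ∈ G := by
  have key : ∀ h : GL (Fin 2) F, (h : Matrix (Fin 2) (Fin 2) F).det = 1 →
      (h : Matrix (Fin 2) (Fin 2) F) 1 0 ≠ 0 → h ∈ G := by
    intro h hd hc
    obtain ⟨a, b, c, d, hh⟩ : ∃ a b c d, (h : Matrix (Fin 2) (Fin 2) F) = !![a, b; c, d] :=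
      ⟨_, _, _, _, Matrix.eta_fin_two _⟩
    rw [hh] at hd hc
    simp [Matrix.det_fin_two] at hd hc
    have : h = xu ((a - 1) / c) * yl c * xu ((d - 1) / c) := Units.ext (by
      rw [Units.val_mul, Units.val_mul, val_xu, val_yl, val_xu, hh]
      ext i j
      fin_cases i <;> fin_cases j <;> simp [Matrix.mul_apply, Fin.sum_univ_two] <;> field_simp <;> grind)
    rw [this]
    exact mul_mem (mul_mem (hx _) (hy _)) (hx _)
  by_cases hc : (g : Matrix (Fin 2) (Fin 2) F) 1 0 = 0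
  · have h1 : yl 1 * g ∈ G := key _ (by rw [Units.val_mul, Matrix.det_mul, hg, val_yl, Matrix.det_fin_two_of]; ring)
      (by
        rw [Units.val_mul, val_yl, Matrix.mul_apply, Fin.sum_univ_two]
        simp [hc]
        intro e
        rw [Matrix.det_fin_two, hc, e, zero_mul, mul_zero, sub_zero] at hg
        exact zero_ne_one hg)
    simpa [← mul_assoc] using mul_mem (inv_mem (hy 1)) h1
  · exact key g hg hc

section Prime

variable {p : ℕ} [hp : Fact p.Prime] [CharP F p]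

/-- an element of order `p` is `1 + N` with `N` of square zero -/
theorem unip_two {u : GL (Fin 2) F} (hup : u ^ p = 1) :
    ((u : Matrix (Fin 2) (Fin 2) F) - 1) * ((u : Matrix (Fin 2) (Fin 2) F) - 1) = 0 := by
  have hnil : IsNilpotent ((u : Matrix (Fin 2) (Fin 2) F) - 1) := ⟨p, by
    haveI : CharP (Matrix (Fin 2) (Fin 2) F) p :=
      charP_of_injective_ringHom (f := Matrix.scalar (Fin 2)) (fun a b h => Matrix.scalar_inj.1 h) p
    rw [sub_pow_char_of_commute p (Commute.one_right _), one_pow, ← Units.val_pow_eq_pow_val, hup, Units.val_one, sub_self]⟩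
  have h := Matrix.aeval_self_charpoly ((u : Matrix (Fin 2) (Fin 2) F) - 1)
  rw [sub_eq_zero.1 (IsNilpotent.eq_zero (Matrix.isNilpotent_charpoly_sub_pow_of_isNilpotent hnil)),
    Polynomial.aeval_X_pow, Fintype.card_fin, pow_two] at h
  exact h

omit hp [CharP F p] in
theorem pow_one_add_sq_zero {n : ℕ} {u : GL (Fin n) F} {N : Matrix (Fin n) (Fin n) F}
    (hu : (u : Matrix (Fin n) (Fin n) F) = 1 + N) (hN : N * N = 0) (k : ℕ) :
    ((u ^ k : GL (Fin n) F) : Matrix (Fin n) (Fin n) F) = 1 + (k : F) • N := by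
  induction k with
  | zero => simp
  | succ k ih =>
    rw [pow_succ, Units.val_mul, ih, hu, Nat.cast_succ]
    simp only [mul_add, add_mul, mul_one, one_mul, Matrix.smul_mul, hN, smul_zero, add_zero, add_smul, one_smul]
    abel

/-- a group with a diagonal element, a swap and an element of order `p` contains all elementary matrices -/
theorem elem_mem {G : Subgroup (GL (Fin 2) F)} (hsurj : ∀ x : F, ∃ k : ℕ, x = (k : F)) {D J u : GL (Fin 2) F}
    (hD : D ∈ G) {ν₁ ν₂ : F} (hDv : (D : Matrix (Fin 2) (Fin 2) F) = Matrix.diagonal ![ν₁, ν₂]) (hν : ν₁ ≠ ν₂)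
    (hJ : J ∈ G) {ε : F} (hε : ε ≠ 0) (hJv : (J : Matrix (Fin 2) (Fin 2) F) = !![0, 1; ε, 0])
    (hu : u ∈ G) (hu1 : u ≠ 1) (hup : u ^ p = 1) : (∀ s, xu s ∈ G) ∧ (∀ s, yl s ∈ G) := by
  obtain ⟨N, hN⟩ : ∃ N, N = (u : Matrix (Fin 2) (Fin 2) F) - 1 := ⟨_, rfl⟩
  have hNN : N * N = 0 := hN ▸ unip_two hup
  have huN : (u : Matrix (Fin 2) (Fin 2) F) = 1 + N := by rw [hN]; abel
  have hall : ∀ t : F, ∃ g ∈ G, (g : Matrix (Fin 2) (Fin 2) F) = 1 + t • N := fun t => by
    obtain ⟨k, rfl⟩ := hsurj t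
    exact ⟨u ^ k, pow_mem hu k, pow_one_add_sq_zero huN hNN k⟩
  obtain ⟨a, b, c, d, hNe⟩ : ∃ a b c d, N = !![a, b; c, d] := ⟨_, _, _, _, Matrix.eta_fin_two _⟩
  have hN0 : ¬ (a = 0 ∧ b = 0 ∧ c = 0 ∧ d = 0) := fun ⟨h1, h2, h3, h4⟩ => hu1 (Units.ext (by
    rw [huN, hNe, h1, h2, h3, h4, Units.val_one]
    ext i j; fin_cases i <;> fin_cases j <;> simp))
  have e00 := congrFun (congrFun hNN 0) 0
  have e01 := congrFun (congrFun hNN 0) 1
  have e10 := congrFun (congrFun hNN 1) 0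
  have e11 := congrFun (congrFun hNN 1) 1
  simp [hNe, Matrix.mul_apply, Fin.sum_univ_two] at e00 e01 e10 e11
  obtain rfl : d = -a := by
    by_contra hne
    have hs : a + d ≠ 0 := fun h => hne (by linear_combination h)
    have hb : b = 0 := (mul_eq_zero.1 (show (a + d) * b = 0 by linear_combination e01)).resolve_left hs
    have hc : c = 0 := (mul_eq_zero.1 (show (a + d) * c = 0 by linear_combination e10)).resolve_left hs
    subst hb hc
    simp at e00 e11
    exact hN0 ⟨e00, rfl, rfl, e11⟩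
  -- conjugation by the swap
  have hflip : (∀ s, xu s ∈ G) ↔ (∀ s, yl s ∈ G) := by
    have e : ∀ s, J * xu s = yl (ε * s) * J := fun s => Units.ext (by
      rw [Units.val_mul, Units.val_mul, hJv, val_xu, val_yl]
      ext i j; fin_cases i <;> fin_cases j <;> simp [Matrix.mul_apply, Fin.sum_univ_two, mul_comm])
    constructor
    · intro h s
      have := mul_mem (mul_mem hJ (h (ε⁻¹ * s))) (inv_mem hJ)
      rwa [e, mul_inv_cancel_right, ← mul_assoc, mul_inv_cancel₀ hε, one_mul] at this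
    · intro h s
      have := mul_mem (mul_mem (inv_mem hJ) (h (ε * s))) hJ
      rwa [mul_assoc, ← e, inv_mul_cancel_left] at this
  -- a nonzero multiple of an elementary nilpotent
  have hpure : ∀ g ∈ G, ∀ b', b' ≠ 0 → (g : Matrix (Fin 2) (Fin 2) F) = !![1, b'; 0, 1] → ∀ s, xu s ∈ G := by
    intro g hg b' hb' hgv s
    obtain rfl : g = xu b' := Units.ext hgv
    have hk : ∀ k : ℕ, xu ((k : F) * b') ∈ G := fun k => by
      induction k with
      | zero => simp [xu_zero]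
      | succ k ih => rw [Nat.cast_succ, add_mul, one_mul, ← xu_add]; exact mul_mem ih hg
    obtain ⟨k, hk'⟩ := hsurj (s / b')
    have := hk k
    rwa [← hk', div_mul_cancel₀ _ hb'] at this
  by_cases hc : c = 0
  · subst hc
    simp at e00
    subst e00
    have hb : b ≠ 0 := fun h => hN0 ⟨rfl, h, rfl, neg_zero⟩
    have hx := hpure u hu b hb (by rw [huN, hNe]; ext i j; fin_cases i <;> fin_cases j <;> simp)
    exact ⟨hx, hflip.1 hx⟩
  by_cases ha : a = 0
  · subst ha
    obtain rfl : b = 0 := (mul_eq_zero.1 (show b * c = 0 by linear_combination e00)).resolve_right hc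
    obtain rfl : u = yl c := Units.ext (by rw [huN, hNe, val_yl]; ext i j; fin_cases i <;> fin_cases j <;> simp)
    have hy : ∀ s, yl s ∈ G := fun s => by
      have hk : ∀ k : ℕ, yl ((k : F) * c) ∈ G := fun k => by
        induction k with
        | zero => simp [yl_zero]
        | succ k ih => rw [Nat.cast_succ, add_mul, one_mul, ← yl_add]; exact mul_mem ih hu
      obtain ⟨k, hk'⟩ := hsurj (s / c)
      have := hk k
      rwa [← hk', div_mul_cancel₀ _ hc] at this
    exact ⟨hflip.2 hy, hy⟩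
  have hν₁ : ν₁ ≠ 0 := fun h => by
    have := Matrix.GeneralLinearGroup.det_ne_zero D
    rw [hDv, Matrix.det_diagonal, Fin.prod_univ_two] at this
    simp [h] at this
  have hν₂ : ν₂ ≠ 0 := fun h => by
    have := Matrix.GeneralLinearGroup.det_ne_zero D
    rw [hDv, Matrix.det_diagonal, Fin.prod_univ_two] at this
    simp [h] at this
  obtain ⟨N', hN'⟩ : ∃ N', N' = !![a, b * ν₁ / ν₂; c * ν₂ / ν₁, -a] := ⟨_, rfl⟩
  obtain ⟨t, ht⟩ : ∃ t, t = ν₁ / (a * (ν₁ - ν₂)) := ⟨_, rfl⟩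
  obtain ⟨g₀, hg₀, hg₀v⟩ := hall t
  set g := D * g₀ * D⁻¹ with hg
  have hDi : ((D⁻¹ : GL (Fin 2) F) : Matrix (Fin 2) (Fin 2) F) = Matrix.diagonal ![ν₁⁻¹, ν₂⁻¹] := by
    refine left_inv_eq_right_inv (a := (D : Matrix (Fin 2) (Fin 2) F)) (Units.inv_mul D) ?_
    rw [hDv, Matrix.diagonal_mul_diagonal, ← Matrix.diagonal_one]
    congr 1; funext i; fin_cases i <;> simp [hν₁, hν₂]
  have hgv : (g : Matrix (Fin 2) (Fin 2) F) = 1 + t • N' := by
    rw [hg, Units.val_mul, Units.val_mul, hg₀v, hDv, hDi, hN', hNe]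
    ext i j
    fin_cases i <;> fin_cases j <;>
      simp [Matrix.mul_apply, Matrix.diagonal_apply, Matrix.vecMul_diagonal, Fin.sum_univ_two] <;> field_simp
  have hN'N : N' * N' = 0 := by
    rw [hN']
    ext i j
    fin_cases i <;> fin_cases j <;> simp [Matrix.mul_apply, Fin.sum_univ_two] <;> field_simp <;> grind
  have hgi : ((g⁻¹ : GL (Fin 2) F) : Matrix (Fin 2) (Fin 2) F) = 1 - t • N' := by
    refine left_inv_eq_right_inv (a := (g : Matrix (Fin 2) (Fin 2) F)) (Units.inv_mul g) ?_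
    rw [hgv]
    simp only [mul_sub, add_mul, one_mul, mul_one, Matrix.smul_mul, Matrix.mul_smul, hN'N, smul_zero, add_zero]
    abel
  have hs : ν₁ - ν₂ ≠ 0 := sub_ne_zero.2 hν
  obtain ⟨b', hb'⟩ : ∃ b', (1 + t • N') * N * (1 - t • N') = !![0, b'; 0, 0] := by
    refine ⟨((1 + t • N') * N * (1 - t • N')) 0 1, ?_⟩
    ext i j
    fin_cases i <;> fin_cases j <;>
      simp [hNe, hN', ht, Matrix.mul_apply, Fin.sum_univ_two] <;> field_simp <;> grind
  have hmem : g * u * g⁻¹ ∈ G :=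
    mul_mem (mul_mem (mul_mem (mul_mem hD hg₀) (inv_mem hD)) hu) (inv_mem (mul_mem (mul_mem hD hg₀) (inv_mem hD)))
  have hval : ((g * u * g⁻¹ : GL (Fin 2) F) : Matrix (Fin 2) (Fin 2) F) = !![1, b'; 0, 1] := by
    rw [Units.val_mul, Units.val_mul, huN, mul_add, mul_one, add_mul, Units.mul_inv, hgv, hgi, hb']
    ext i j; fin_cases i <;> fin_cases j <;> simp
  have hb0 : b' ≠ 0 := fun h => hu1 (by
    have : g * u * g⁻¹ = 1 := Units.ext (by
      rw [hval, h, Units.val_one]; ext i j; fin_cases i <;> fin_cases j <;> simp)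
    simpa using this)
  have hx := hpure _ hmem b' hb0 hval
  exact ⟨hx, hflip.1 hx⟩

end Prime

/-- a normalised subgroup with a nonscalar contains the lower elementary matrices -/
theorem normal_elem {G L : Subgroup (GL (Fin 2) F)} (hx : ∀ s, xu s ∈ G) (hy : ∀ s, yl s ∈ G)
    (hn : ∀ g ∈ G, ∀ l ∈ L, g * l * g⁻¹ ∈ L) {Z : GL (Fin 2) F} (hZ : Z ∈ L)
    (hns : ¬ ((Z : Matrix (Fin 2) (Fin 2) F) 0 1 = 0 ∧ (Z : Matrix (Fin 2) (Fin 2) F) 1 0 = 0 ∧
      (Z : Matrix (Fin 2) (Fin 2) F) 0 0 = (Z : Matrix (Fin 2) (Fin 2) F) 1 1))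
    {a : F} (ha0 : a ≠ 0) (ha : a ^ 4 ≠ 1) : yl 1 ∈ L := by
  -- a conjugate with first diagonal entry zero
  have h10 : ∀ Z ∈ L, (Z : Matrix (Fin 2) (Fin 2) F) 1 0 ≠ 0 → ∃ W ∈ L, (W : Matrix (Fin 2) (Fin 2) F) 0 0 = 0 := by
    intro Z hZ h
    refine ⟨_, hn _ (hx (-(Z : Matrix (Fin 2) (Fin 2) F) 0 0 / (Z : Matrix (Fin 2) (Fin 2) F) 1 0)) Z hZ, ?_⟩
    rw [Units.val_mul, Units.val_mul, xu_inv, val_xu, val_xu, Matrix.eta_fin_two (Z : Matrix (Fin 2) (Fin 2) F)]
    simp [Matrix.mul_apply, Fin.sum_univ_two]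
    field_simp
    ring
  obtain ⟨W, hW, hW0⟩ : ∃ W ∈ L, (W : Matrix (Fin 2) (Fin 2) F) 0 0 = 0 := by
    by_cases h : (Z : Matrix (Fin 2) (Fin 2) F) 1 0 = 0
    · by_cases h' : (Z : Matrix (Fin 2) (Fin 2) F) 0 1 = 0
      · have hd : (Z : Matrix (Fin 2) (Fin 2) F) 0 0 - (Z : Matrix (Fin 2) (Fin 2) F) 1 1 ≠ 0 :=
          sub_ne_zero.2 fun e => hns ⟨h', h, e⟩
        refine h10 _ (hn _ (hy 1) Z hZ) ?_
        rw [Units.val_mul, Units.val_mul, yl_inv, val_yl, val_yl, Matrix.eta_fin_two (Z : Matrix (Fin 2) (Fin 2) F)]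
        simp [Matrix.mul_apply, Fin.sum_univ_two, h, h']
        intro e
        exact hd (by linear_combination e)
      · refine h10 _ (hn _ (mem_of_det_one hx hy (g := xu 1 * yl (-1) * xu 1) (by
          simp [val_xu, val_yl, Matrix.det_fin_two_of])) Z hZ) ?_
        simp only [_root_.mul_inv_rev, xu_inv, yl_inv, Units.val_mul, val_xu, val_yl]
        rw [Matrix.eta_fin_two (Z : Matrix (Fin 2) (Fin 2) F)]
        simp [Matrix.mul_apply, Fin.sum_univ_two, h]
        simpa using h'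
    · exact h10 Z hZ h
  obtain ⟨w, b, c, d, hWe⟩ : ∃ w b c d, (W : Matrix (Fin 2) (Fin 2) F) = !![w, b; c, d] :=
    ⟨_, _, _, _, Matrix.eta_fin_two _⟩
  obtain rfl : w = 0 := by rw [hWe] at hW0; simpa using hW0
  have hdet := Matrix.GeneralLinearGroup.det_ne_zero W
  rw [hWe, Matrix.det_fin_two_of] at hdet
  have hb : b ≠ 0 := fun h => hdet (by rw [h]; ring)
  have hc : c ≠ 0 := fun h => hdet (by rw [h]; ring)
  have hWx : ∀ s, W * xu s = yl (c / b * s) * W := fun s => Units.ext (by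
    rw [Units.val_mul, Units.val_mul, hWe, val_xu, val_yl]
    ext i j; fin_cases i <;> fin_cases j <;> simp [Matrix.mul_apply, Fin.sum_univ_two] <;> field_simp)
  have hcs : ∀ s, yl (c / b * s) * xu (-s) ∈ L := fun s => by
    have h := mul_mem hW (hn _ (hx s) _ (inv_mem hW))
    have e : W * (xu s * W⁻¹ * (xu s)⁻¹) = yl (c / b * s) * xu (-s) := by
      rw [← mul_assoc, ← mul_assoc, hWx, mul_inv_cancel_right, xu_inv]
    rwa [e] at h
  obtain ⟨t, ht⟩ : ∃ t : GL (Fin 2) F, (t : Matrix (Fin 2) (Fin 2) F) = !![a, 0; 0, a⁻¹] :=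
    ⟨Matrix.GeneralLinearGroup.mkOfDetNeZero !![a, 0; 0, a⁻¹] (by simp [Matrix.det_fin_two, ha0]), rfl⟩
  have htG : t ∈ G := mem_of_det_one hx hy (by simp [ht, Matrix.det_fin_two, ha0])
  have htx : ∀ s, t * xu s = xu (a * a * s) * t := fun s => Units.ext (by
    rw [Units.val_mul, Units.val_mul, ht, val_xu, val_xu]
    ext i j; fin_cases i <;> fin_cases j <;> simp [Matrix.mul_apply, Fin.sum_univ_two] <;> field_simp)
  have hty : ∀ s, t * yl s = yl (s / (a * a)) * t := fun s => Units.ext (by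
    rw [Units.val_mul, Units.val_mul, ht, val_yl, val_yl]
    ext i j; fin_cases i <;> fin_cases j <;> simp [Matrix.mul_apply, Fin.sum_univ_two] <;> field_simp)
  have h4 : 1 - a ^ 4 ≠ 0 := sub_ne_zero.2 (Ne.symm ha)
  obtain ⟨s, hs⟩ : ∃ s, s = a * a * b / (c * (1 - a ^ 4)) := ⟨_, rfl⟩
  have h := mul_mem (hn _ htG _ (hcs s)) (inv_mem (hcs (a * a * s)))
  have e : t * (yl (c / b * s) * xu (-s)) * t⁻¹ * (yl (c / b * (a * a * s)) * xu (-(a * a * s)))⁻¹ = yl 1 := by
    rw [← mul_assoc, hty, mul_assoc _ t, htx, ← mul_assoc, mul_inv_cancel_right, mul_neg, _root_.mul_inv_rev,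
      ← mul_assoc, mul_inv_cancel_right, yl_inv, yl_add]
    congr 1
    rw [hs]
    field_simp
    ring
  rwa [e] at h

/-- two by two Cayley–Hamilton -/
theorem sq_eq_trace {R : Type*} [CommRing R] (A : Matrix (Fin 2) (Fin 2) R) :
    A * A = A.trace • A - A.det • 1 := by
  ext i j
  fin_cases i <;> fin_cases j <;>
    simp [Matrix.mul_apply, Fin.sum_univ_two, Matrix.trace, Matrix.det_fin_two] <;> ring

/-- a symmetric element of a group of order prime to `p` with the pair frame is monomial -/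
theorem mul_eq_zero_of_coprime [Finite F] {p : ℕ} [hp : Fact p.Prime] [CharP F p] (h2 : (2 : F) ≠ 0)
    {G : Subgroup (GL (Fin 2) F)} (hG : ¬ p ∣ Nat.card G) {D J Y : GL (Fin 2) F} (hD : D ∈ G) (hJ : J ∈ G)
    (hY : Y ∈ G) {ν : F} (hν5 : ν ^ 5 = 1) (hν1 : ν ≠ 1)
    (hDv : (D : Matrix (Fin 2) (Fin 2) F) = Matrix.diagonal ![ν, ν ^ 4])
    (hJv : (J : Matrix (Fin 2) (Fin 2) F) = !![0, 1; 1, 0]) {α β : F}
    (hYv : (Y : Matrix (Fin 2) (Fin 2) F) = !![α, β; β, α]) : α * β = 0 := by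
  classical
  haveI : Finite (GL (Fin 2) F) := inferInstance
  obtain ⟨ρ, hρ⟩ := CfsgLib.Char.LiftCoprime.exists_complex (F := F) (p := p) hp.out hG
    ((Units.coeHom (Matrix (Fin 2) (Fin 2) F)).comp G.subtype) (Units.val_injective.comp Subtype.val_injective)
  have hν4 : ν ^ 4 ≠ ν := fun h => hν1 (by
    have h3 : ν ^ 3 = 1 := mul_right_cancel₀ (b := ν) (fun e => by rw [e] at hν5; simp at hν5) (by linear_combination h)
    linear_combination (ν ^ 3 + 1) * h3 - ν * hν5)
  set A := ρ ⟨D, hD⟩ with hAdef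
  set Jc := ρ ⟨J, hJ⟩ with hJdef
  set M := ρ ⟨Y, hY⟩ with hMdef
  have hA5 : A ^ 5 = 1 := by
    rw [hAdef, ← map_pow, show (⟨D, hD⟩ : G) ^ 5 = 1 from Subtype.ext (Units.ext (by
      show ((D ^ 5 : GL (Fin 2) F) : Matrix (Fin 2) (Fin 2) F) = 1
      rw [Units.val_pow_eq_pow_val, hDv, Matrix.diagonal_pow, ← Matrix.diagonal_one]
      congr 1; funext i; fin_cases i <;> simp [hν5, ← pow_mul]
      linear_combination (ν ^ 15 + ν ^ 10 + ν ^ 5 + 1) * hν5)), map_one]
  have hJJ : Jc * Jc = 1 := by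
    rw [hJdef, ← map_mul, show (⟨J, hJ⟩ : G) * ⟨J, hJ⟩ = 1 from Subtype.ext (Units.ext (by
      show ((J * J : GL (Fin 2) F) : Matrix (Fin 2) (Fin 2) F) = 1
      rw [Units.val_mul, hJv]
      ext i j; fin_cases i <;> fin_cases j <;> simp [Matrix.mul_apply, Fin.sum_univ_two])), map_one]
  have hJAJ : A * (Jc * A * Jc) = 1 := by
    rw [hAdef, hJdef, ← map_mul, ← map_mul, ← map_mul, show (⟨D, hD⟩ : G) * (⟨J, hJ⟩ * ⟨D, hD⟩ * ⟨J, hJ⟩) = 1 from
      Subtype.ext (Units.ext (by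
      show ((D * (J * D * J) : GL (Fin 2) F) : Matrix (Fin 2) (Fin 2) F) = 1
      rw [Units.val_mul, Units.val_mul, Units.val_mul, hJv, hDv]
      ext i j; fin_cases i <;> fin_cases j <;>
        simp [Matrix.mul_apply, Matrix.diagonal_apply, Matrix.vecMul, dotProduct, Fin.sum_univ_two] <;>
        linear_combination hν5)), map_one]
  have hMJ : M * Jc = Jc * M := by
    rw [hMdef, hJdef, ← map_mul, ← map_mul]
    congr 1
    refine Subtype.ext (Units.ext ?_)
    show ((Y * J : GL (Fin 2) F) : Matrix (Fin 2) (Fin 2) F) = ((J * Y : GL (Fin 2) F) : Matrix (Fin 2) (Fin 2) F)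
    rw [Units.val_mul, Units.val_mul, hJv, hYv]
    ext i j; fin_cases i <;> fin_cases j <;> simp [Matrix.mul_apply, Fin.sum_univ_two]
  have hback : ∀ g h : G, ρ g * ρ h = ρ h * ρ g →
      ((g : GL (Fin 2) F) : Matrix (Fin 2) (Fin 2) F) * ((h : GL (Fin 2) F) : Matrix (Fin 2) (Fin 2) F) =
      ((h : GL (Fin 2) F) : Matrix (Fin 2) (Fin 2) F) * ((g : GL (Fin 2) F) : Matrix (Fin 2) (Fin 2) F) := fun g h e => by
    rw [← map_mul, ← map_mul] at e
    have := congrArg (fun x : G => ((x : GL (Fin 2) F) : Matrix (Fin 2) (Fin 2) F)) (hρ e)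
    simpa using this
  have hns : ∀ c : ℂ, A ≠ c • 1 := fun c h => hν4 (by
    have := hback ⟨D, hD⟩ ⟨J, hJ⟩ (by rw [← hAdef, ← hJdef, h]; simp)
    have h01 := congrFun (congrFun this 0) 1
    simp [hDv, hJv, Matrix.mul_apply, Fin.sum_univ_two] at h01
    exact h01.symm)
  obtain ⟨τ, hτ⟩ : ∃ τ, τ = A.trace := ⟨_, rfl⟩
  have hdetA : A.det = 1 := by
    have h5 : A.det ^ 5 = 1 := by rw [← Matrix.det_pow, hA5, Matrix.det_one]
    have h' : A.det * A.det = 1 := by
      have h1 := congrArg Matrix.det hJAJ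
      have h2 := congrArg Matrix.det hJJ
      rw [Matrix.det_mul, Matrix.det_mul, Matrix.det_mul, Matrix.det_one] at h1
      rw [Matrix.det_mul, Matrix.det_one] at h2
      linear_combination h1 - A.det * A.det * h2
    linear_combination h5 - A.det * (A.det * A.det + 1) * h'
  have hCH : A * A = τ • A - 1 := by rw [sq_eq_trace, hdetA, one_smul, hτ]
  have hττ : τ * (τ + 1) = 1 := by
    have e5 : A ^ 5 = (τ ^ 4 - 3 * τ ^ 2 + 1) • A - (τ ^ 3 - 2 * τ) • (1 : Matrix (Fin 2) (Fin 2) ℂ) := by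
      have e3 : A ^ 3 = (τ ^ 2 - 1) • A - τ • (1 : Matrix (Fin 2) (Fin 2) ℂ) := by
        rw [pow_succ, pow_two A, hCH, sub_mul, Matrix.smul_mul, hCH, one_mul]
        module
      rw [show (5 : ℕ) = 3 + 2 from rfl, pow_add, e3, pow_two A, hCH, sub_mul, Matrix.smul_mul, Matrix.smul_mul,
        mul_sub, one_mul, mul_one, Matrix.mul_smul, hCH]
      module
    rw [hA5] at e5
    by_cases hc : τ ^ 4 - 3 * τ ^ 2 + 1 = 0
    · rw [hc, zero_smul, zero_sub] at e5
      have := congrFun (congrFun e5 0) 0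
      simp at this
      rcases eq_or_ne τ 1 with rfl | hne
      · norm_num at hc
      · have : (τ - 1) * (τ * (τ + 1) - 1) = 0 := by linear_combination this
        exact sub_eq_zero.1 ((mul_eq_zero.1 this).resolve_left (sub_ne_zero.2 hne))
    · refine absurd ?_ (hns ((1 + (τ ^ 3 - 2 * τ)) / (τ ^ 4 - 3 * τ ^ 2 + 1)))
      have : (τ ^ 4 - 3 * τ ^ 2 + 1) • A = (1 + (τ ^ 3 - 2 * τ)) • (1 : Matrix (Fin 2) (Fin 2) ℂ) := by
        linear_combination (norm := module) -e5
      rw [div_eq_inv_mul, ← smul_smul, ← this, smul_smul, inv_mul_cancel₀ hc, one_smul]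
  have htr : τ * M.trace = 2 * (M * A).trace := by
    have hinv : τ • (1 : Matrix (Fin 2) (Fin 2) ℂ) - A = Jc * A * Jc := by
      refine left_inv_eq_right_inv (a := A) ?_ hJAJ
      rw [sub_mul, Matrix.smul_mul, one_mul, hCH, sub_sub_cancel]
    have h : (M * (Jc * A * Jc)).trace = (M * A).trace := by
      rw [← mul_assoc, Matrix.trace_mul_comm, ← mul_assoc, ← mul_assoc, ← hMJ, mul_assoc M, hJJ, mul_one]
    rw [← hinv, mul_sub, Matrix.trace_sub, Matrix.mul_smul, mul_one, Matrix.trace_smul, smul_eq_mul] at h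
    linear_combination h
  have hfin : ∀ g : G, IsOfFinOrder (ρ g) := fun g => MonoidHom.isOfFinOrder ρ (isOfFinOrder_of_finite g)
  have hhalf : IsIntegral ℤ (M.trace / 2) := by
    rw [show M.trace / 2 = (τ + 1) * (M * A).trace by linear_combination -(M.trace / 2) * hττ + ((τ + 1) / 2) * htr]
    refine ((hτ ▸ ThreeDim.Heis.isIntegral_trace (hfin _)).add isIntegral_one).mul ?_
    rw [hMdef, hAdef, ← map_mul]
    exact ThreeDim.Heis.isIntegral_trace (hfin _)
  obtain ⟨n, hn, hMn⟩ := isOfFinOrder_iff_pow_eq_one.1 (hfin ⟨Y, hY⟩)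
  rw [← hMdef] at hMn
  obtain ⟨s, hs⟩ := IsAlgClosed.exists_pow_nat_eq (M.trace ^ 2 - 4 * M.det) (by norm_num : 0 < 2)
  obtain ⟨e₁, he₁⟩ : ∃ e, e = (M.trace + s) / 2 := ⟨_, rfl⟩
  obtain ⟨e₂, he₂⟩ : ∃ e, e = (M.trace - s) / 2 := ⟨_, rfl⟩
  have hroot : ∀ t, (t - e₁) * (t - e₂) = (Matrix.scalar (Fin 2) t - M).det := fun t => by
    rw [he₁, he₂, Matrix.trace_fin_two, Matrix.det_fin_two]
    rw [Matrix.trace_fin_two, Matrix.det_fin_two] at hs
    simp
    linear_combination (-(1 : ℂ) / 4) * hs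
  have he₁n : e₁ ^ n = 1 := ThreeDim.Heis.pow_eq_one_of_root hMn (by rw [← hroot, sub_self, zero_mul])
  have he₂n : e₂ ^ n = 1 := ThreeDim.Heis.pow_eq_one_of_root hMn (by rw [← hroot, sub_self, mul_zero])
  have he0 : e₁ ≠ 0 := fun h => by rw [h, zero_pow hn.ne'] at he₁n; exact zero_ne_one he₁n
  have hinv : IsIntegral ℤ e₁⁻¹ := IsIntegral.of_pow hn (by rw [inv_pow, he₁n, inv_one]; exact isIntegral_one)
  have hrr : (e₂ / e₁) ^ 2 = 1 := by
    refine ThreeDim.Heis.sq_eq_one_of_congr (isOfFinOrder_iff_pow_eq_one.2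
      ⟨n, hn, by rw [div_pow, he₁n, he₂n, div_one]⟩) ?_
    rw [show (e₂ / e₁ - 1) / 2 = M.trace / 2 * e₁⁻¹ - 1 by
      rw [show M.trace = e₁ + e₂ by rw [he₁, he₂]; ring]; field_simp; ring]
    exact (hhalf.mul hinv).sub isIntegral_one
  have hMM := sq_eq_trace M
  have hν' : ν - ν ^ 4 ≠ 0 := sub_ne_zero.2 (Ne.symm hν4)
  rcases sq_eq_one_iff.1 hrr with h | h
  · -- equal eigenvalues
    rw [div_eq_one_iff_eq he0] at h
    have htr1 : M.trace = 2 * e₁ := by rw [show M.trace = e₁ + e₂ by rw [he₁, he₂]; ring, h]; ring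
    have hdet1 : M.det = e₁ * e₁ := by
      have := hroot 0
      rw [h, map_zero, zero_sub, zero_sub, Matrix.det_neg, Fintype.card_fin] at this
      linear_combination -this
    obtain ⟨N, hN⟩ : ∃ N, N = M - e₁ • (1 : Matrix (Fin 2) (Fin 2) ℂ) := ⟨_, rfl⟩
    have hNN : N * N = 0 := by
      rw [hN, sub_mul, mul_sub, mul_sub, hMM, htr1, hdet1]
      simp only [Matrix.smul_mul, Matrix.mul_smul, one_mul, mul_one]
      module
    have hk : ∀ k : ℕ, M ^ k = e₁ ^ k • (1 : Matrix (Fin 2) (Fin 2) ℂ) + ((k : ℂ) * e₁ ^ k / e₁) • N := fun k => by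
      induction k with
      | zero => simp
      | succ k ih =>
        rw [pow_succ, ih, show M = e₁ • (1 : Matrix (Fin 2) (Fin 2) ℂ) + N by rw [hN]; abel]
        simp only [add_mul, mul_add, Matrix.smul_mul, Matrix.mul_smul, one_mul, mul_one, hNN, smul_zero, add_zero,
          Nat.cast_succ]
        match_scalars <;> field_simp <;> ring
    have hN0 : N = 0 := by
      have h1 := hk n
      rw [hMn, he₁n, one_smul, left_eq_add, mul_one, smul_eq_zero] at h1
      refine h1.resolve_left (div_ne_zero ?_ he0)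
      exact_mod_cast hn.ne'
    have hc := hback ⟨Y, hY⟩ ⟨D, hD⟩ (by
      rw [← hMdef, show M = e₁ • (1 : Matrix (Fin 2) (Fin 2) ℂ) by rw [← sub_eq_zero, ← hN, hN0]]; simp)
    have h01 := congrFun (congrFun hc 0) 1
    simp [hYv, hDv, Matrix.mul_apply, Fin.sum_univ_two, Matrix.diagonal_apply, Matrix.vecMul_diagonal] at h01
    have : (ν - ν ^ 4) * β = 0 := by linear_combination -h01
    rw [(mul_eq_zero.1 this).resolve_left hν', mul_zero]
  · -- opposite eigenvalues
    have htr0 : M.trace = 0 := by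
      rw [show M.trace = e₁ + e₂ by rw [he₁, he₂]; ring]
      field_simp at h
      linear_combination h
    rw [htr0, zero_smul, zero_sub] at hMM
    have hc := hback (⟨Y, hY⟩ * ⟨Y, hY⟩) ⟨D, hD⟩ (by rw [map_mul, ← hMdef, hMM]; simp)
    have h01 := congrFun (congrFun hc 0) 1
    simp [hYv, hDv, Matrix.mul_apply, Fin.sum_univ_two, Matrix.diagonal_apply, Matrix.vecMul_diagonal] at h01
    have : (2 * (ν - ν ^ 4)) * (α * β) = 0 := by linear_combination -h01
    exact (mul_eq_zero.1 this).resolve_left (mul_ne_zero h2 hν')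

end CfsgLib.Perm.Trans.FiveDim.Pauli
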