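import Cfsg.Agent.Lib.Perm.Trans.FiveDim.Pauli.Frame
import Cfsg.Agent.Lib.Perm.Trans.FiveDim.Pauli.TwoByTwo

/-!
# Overgroups without elementary transvections: the centraliser of the phase

Elements commuting with the quadratic phase and with the parity are monomial.
-/

set_option autoImplicit false
set_option linter.all false

namespace CfsgLib.Perm.Trans.FiveDim.Pauli

open Matrix

variable {F : Type*} [Field F] (ω : Root F)

local notation "M5" => Matrix (Fin 5) (Fin 5) F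
local notation "G5" => GL (Fin 5) F

/-- `D` -/
def gD : G5 := Matrix.GeneralLinearGroup.mkOfDetNeZero (dm ω.μ) (by rw [det_dm ω.pow5]; exact one_ne_zero)

/-- `S` -/
def gS : G5 := Matrix.GeneralLinearGroup.mkOfDetNeZero sm (by rw [det_sm ω]; exact one_ne_zero)

/-- `Q` -/
def gQ : G5 := Matrix.GeneralLinearGroup.mkOfDetNeZero (qd ω.μ) (by rw [det_qd ω.pow5]; exact one_ne_zero)

/-- `W` -/
def gW : G5 := Matrix.GeneralLinearGroup.mkOfDetNeZero wm (by rw [det_wm ω.two]; exact one_ne_zero)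

/-- `P` -/
def gP : G5 := Matrix.GeneralLinearGroup.mkOfDetNeZero (fm ω) (by rw [det_fm]; exact one_ne_zero)

/-- `T` -/
def gT : G5 := Matrix.GeneralLinearGroup.mkOfDetNeZero tm (by rw [det_tm ω.two]; exact one_ne_zero)

theorem val_gD : (gD ω : M5) = dm ω.μ := rfl
theorem val_gS : (gS ω : M5) = sm := rfl
theorem val_gQ : (gQ ω : M5) = qd ω.μ := rfl
theorem val_gW : (gW ω : M5) = wm := rfl
theorem val_gP : (gP ω : M5) = fm ω := rfl
theorem val_gT : (gT ω : M5) = tm := rfl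

theorem gW_sq : gW ω * gW ω = gT ω := Units.ext (by rw [Units.val_mul, val_gW, val_gT, wm_sq])

theorem gP_sq : gP ω * gP ω = gT ω := Units.ext (by rw [Units.val_mul, val_gP, val_gT, fm_sq])

theorem gT_sq : gT ω * gT ω = 1 := Units.ext (by rw [Units.val_mul, val_gT, Units.val_one, tm_sq])

theorem val_gQ_pow (k : ℕ) : ((gQ ω ^ k : G5) : M5) = qd (ω.μ ^ k) := by
  induction k with
  | zero => rw [pow_zero, pow_zero, qd_one, Units.val_one]
  | succ k ih => rw [pow_succ, Units.val_mul, ih, val_gQ, qd_mul, ← pow_succ]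

theorem val_gD_pow (k : ℕ) : ((gD ω ^ k : G5) : M5) = dm (ω.μ ^ k) := by
  induction k with
  | zero => rw [pow_zero, pow_zero, dm_one, Units.val_one]
  | succ k ih => rw [pow_succ, Units.val_mul, ih, val_gD, dm_mul, ← pow_succ]

theorem gQ_pow_five : gQ ω ^ 5 = 1 := Units.ext (by rw [val_gQ_pow, ω.pow5, qd_one, Units.val_one])

theorem gD_pow_five : gD ω ^ 5 = 1 := Units.ext (by rw [val_gD_pow, ω.pow5, dm_one, Units.val_one])

theorem gW_mul_gQ : gW ω * gQ ω = gQ ω ^ 4 * gW ω := Units.ext (by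
  rw [Units.val_mul, Units.val_mul, val_gQ_pow, val_gW, val_gQ, wm_mul_qd ω])

/-- the standing hypotheses: no elementary transvections over the frame -/
structure Ctx (p : ℕ) (H : Subgroup G5) : Prop where
  prime : p.Prime
  char : CharP F p
  surj : ∀ x : F, ∃ k : ℕ, x = (k : F)
  big : ∃ a : F, a ≠ 0 ∧ a ^ 4 ≠ 1
  det : ∀ g ∈ H, (g : M5).det = 1
  memD : gD ω ∈ H
  memS : gS ω ∈ H
  memQ : gQ ω ∈ H
  memW : gW ω ∈ H
  memP : gP ω ∈ H
  noElem : ∀ g ∈ H, ∀ i j : Fin 5, i ≠ j → ∀ s : F, (g : M5) = Matrix.transvection i j s → s = 0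

variable {ω} {p : ℕ}
variable {H : Subgroup (GL (Fin 5) F)}

theorem Ctx.memT (hC : Ctx ω p H) : gT ω ∈ H := gW_sq ω ▸ mul_mem hC.memW hC.memW

/-- the shape of matrices commuting with the phase -/
def Blocked (g : M5) : Prop :=
  g 0 1 = 0 ∧ g 0 2 = 0 ∧ g 0 3 = 0 ∧ g 0 4 = 0 ∧ g 1 0 = 0 ∧ g 2 0 = 0 ∧ g 3 0 = 0 ∧ g 4 0 = 0 ∧
    g 1 2 = 0 ∧ g 1 3 = 0 ∧ g 4 2 = 0 ∧ g 4 3 = 0 ∧ g 2 1 = 0 ∧ g 2 4 = 0 ∧ g 3 1 = 0 ∧ g 3 4 = 0

theorem blocked_of_comm {g : M5} (h : g * qd ω.μ = qd ω.μ * g) : Blocked g := by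
  have hk : ∀ i j : Fin 5, (![1, ω.μ, ω.μ ^ 4, ω.μ ^ 4, ω.μ] j - ![1, ω.μ, ω.μ ^ 4, ω.μ ^ 4, ω.μ] i) * g i j = 0 := fun i j => by
    have := congrFun (congrFun h i) j
    rw [qd, Matrix.mul_diagonal, Matrix.diagonal_mul] at this
    linear_combination this
  have h1 : ω.μ - 1 ≠ 0 := sub_ne_zero.2 ω.ne_one
  have h4 : ω.μ ^ 4 - 1 ≠ 0 := sub_ne_zero.2 (ω.pow_ne_one (by norm_num))
  have h3 : ω.μ ^ 4 - ω.μ ≠ 0 := sub_ne_zero.2 fun e => ω.pow_ne_one (k := 3) (by norm_num)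
    (mul_right_cancel₀ ω.ne_zero (by linear_combination e))
  have go : ∀ {a b : F}, a ≠ 0 → a * b = 0 → b = 0 := fun ha e => (mul_eq_zero.1 e).resolve_left ha
  refine ⟨go h1 ?_, go h4 ?_, go h4 ?_, go h1 ?_, go h1 ?_, go h4 ?_, go h4 ?_, go h1 ?_, go h3 ?_, go h3 ?_,
    go h3 ?_, go h3 ?_, go h3 ?_, go h3 ?_, go h3 ?_, go h3 ?_⟩
  all_goals first
    | (have := hk 0 1; simp at this ⊢; grind)
    | (have := hk 0 2; simp at this ⊢; grind)
    | (have := hk 0 3; simp at this ⊢; grind)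
    | (have := hk 0 4; simp at this ⊢; grind)
    | (have := hk 1 0; simp at this ⊢; grind)
    | (have := hk 2 0; simp at this ⊢; grind)
    | (have := hk 3 0; simp at this ⊢; grind)
    | (have := hk 4 0; simp at this ⊢; grind)
    | (have := hk 1 2; simp at this ⊢; grind)
    | (have := hk 1 3; simp at this ⊢; grind)
    | (have := hk 4 2; simp at this ⊢; grind)
    | (have := hk 4 3; simp at this ⊢; grind)
    | (have := hk 2 1; simp at this ⊢; grind)
    | (have := hk 2 4; simp at this ⊢; grind)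
    | (have := hk 3 1; simp at this ⊢; grind)
    | (have := hk 3 4; simp at this ⊢; grind)

/-- the first pair -/
def p1 (g : M5) : Matrix (Fin 2) (Fin 2) F := !![g 1 1, g 1 4; g 4 1, g 4 4]

/-- the second pair -/
def p2 (g : M5) : Matrix (Fin 2) (Fin 2) F := !![g 2 2, g 2 3; g 3 2, g 3 3]

theorem p_mul (g : M5) {h : M5} (hh : Blocked h) :
    p1 (g * h) = p1 g * p1 h ∧ p2 (g * h) = p2 g * p2 h ∧ (g * h) 0 0 = g 0 0 * h 0 0 := by
  obtain ⟨a1, a2, a3, a4, a5, a6, a7, a8, a9, b1, b2, b3, b4, b5, b6, b7⟩ := hh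
  refine ⟨?_, ?_, ?_⟩
  · ext i j
    fin_cases i <;> fin_cases j <;>
      simp [p1, Matrix.mul_apply, Fin.sum_univ_five, Fin.sum_univ_two, *]
  · ext i j
    fin_cases i <;> fin_cases j <;>
      simp [p2, Matrix.mul_apply, Fin.sum_univ_five, Fin.sum_univ_two, *]
  · simp [Matrix.mul_apply, Fin.sum_univ_five, *]

theorem blocked_ext {g h : M5} (hg : Blocked g) (hh : Blocked h) (h0 : g 0 0 = h 0 0) (h1 : p1 g = p1 h)
    (h2 : p2 g = p2 h) : g = h := by
  obtain ⟨a1, a2, a3, a4, a5, a6, a7, a8, a9, b1, b2, b3, b4, b5, b6, b7⟩ := hg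
  obtain ⟨c1, c2, c3, c4, c5, c6, c7, c8, c9, d1, d2, d3, d4, d5, d6, d7⟩ := hh
  have e11 := congrFun (congrFun h1 0) 0
  have e14 := congrFun (congrFun h1 0) 1
  have e41 := congrFun (congrFun h1 1) 0
  have e44 := congrFun (congrFun h1 1) 1
  have e22 := congrFun (congrFun h2 0) 0
  have e23 := congrFun (congrFun h2 0) 1
  have e32 := congrFun (congrFun h2 1) 0
  have e33 := congrFun (congrFun h2 1) 1
  simp [p1] at e11 e14 e41 e44
  simp [p2] at e22 e23 e32 e33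
  ext i j
  fin_cases i <;> fin_cases j <;> simp [*]

/-- the centraliser of the phase -/
def Cq (ω : Root F) (H : Subgroup G5) : Subgroup G5 := H ⊓ Subgroup.centralizer {gQ ω}

theorem mem_Cq {g : G5} : g ∈ Cq ω H ↔ g ∈ H ∧ g * gQ ω = gQ ω * g := by
  rw [Cq, Subgroup.mem_inf, Subgroup.mem_centralizer_singleton_iff]

theorem blocked_Cq (g : Cq ω H) : Blocked ((g : G5) : M5) :=
  blocked_of_comm (ω := ω) (by simpa [val_gQ] using congrArg Units.val (mem_Cq.1 g.2).2)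

/-- the first pair as a homomorphism -/
def pr1 (ω : Root F) (H : Subgroup G5) : Cq ω H →* GL (Fin 2) F :=
  MonoidHom.toHomUnits
    { toFun := fun g => p1 ((g : G5) : M5)
      map_one' := by ext i j; fin_cases i <;> fin_cases j <;> simp [p1]
      map_mul' := fun g h => by rw [Subgroup.coe_mul, Units.val_mul]; exact (p_mul _ (blocked_Cq h)).1 }

/-- the second pair as a homomorphism -/
def pr2 (ω : Root F) (H : Subgroup G5) : Cq ω H →* GL (Fin 2) F :=
  MonoidHom.toHomUnits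
    { toFun := fun g => p2 ((g : G5) : M5)
      map_one' := by ext i j; fin_cases i <;> fin_cases j <;> simp [p2]
      map_mul' := fun g h => by rw [Subgroup.coe_mul, Units.val_mul]; exact (p_mul _ (blocked_Cq h)).2.1 }

/-- the fixed coordinate as a homomorphism -/
def pr0 (ω : Root F) (H : Subgroup G5) : Cq ω H →* Fˣ :=
  MonoidHom.toHomUnits
    { toFun := fun g => ((g : G5) : M5) 0 0
      map_one' := by simp
      map_mul' := fun g h => by rw [Subgroup.coe_mul, Units.val_mul]; exact (p_mul _ (blocked_Cq h)).2.2 }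

theorem val_pr1 (g : Cq ω H) : (pr1 ω H g : Matrix (Fin 2) (Fin 2) F) = p1 ((g : G5) : M5) := rfl
theorem val_pr2 (g : Cq ω H) : (pr2 ω H g : Matrix (Fin 2) (Fin 2) F) = p2 ((g : G5) : M5) := rfl
theorem val_pr0 (g : Cq ω H) : (pr0 ω H g : F) = ((g : G5) : M5) 0 0 := rfl

theorem xu_pow (s : F) (k : ℕ) : xu s ^ k = xu ((k : F) * s) := by
  induction k with
  | zero => simp [xu_zero]
  | succ k ih => rw [pow_succ, ih, xu_add, Nat.cast_succ, add_mul, one_mul]

variable [Finite F]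

/-- the first pair of a symmetric element in the centraliser of the phase is monomial -/
theorem Ctx.first_pair (hC : Ctx ω p H) {y : G5} (hy : y ∈ H) (hq : y * gQ ω = gQ ω * y)
    (hs : Sym (y : M5)) : (y : M5) 1 1 * (y : M5) 1 4 = 0 := by
  classical
  haveI : Fact p.Prime := ⟨hC.prime⟩
  haveI := hC.char
  have h5 := ω.pow5
  let D : Cq ω H := ⟨gD ω, mem_Cq.2 ⟨hC.memD, Units.ext (by
    rw [Units.val_mul, Units.val_mul, val_gD, val_gQ, qd_comm_dm])⟩⟩
  let T : Cq ω H := ⟨gT ω, mem_Cq.2 ⟨hC.memT, Units.ext (by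
    rw [Units.val_mul, Units.val_mul, val_gT, val_gQ, ← comm_of_sym (sym_qd _)])⟩⟩
  let Y : Cq ω H := ⟨y, mem_Cq.2 ⟨hy, hq⟩⟩
  have hD1 : (pr1 ω H D : Matrix (Fin 2) (Fin 2) F) = Matrix.diagonal ![ω.μ, ω.μ ^ 4] := by
    rw [val_pr1]; ext i j; fin_cases i <;> fin_cases j <;> simp [D, val_gD, p1, dm]
  have hD2 : (pr2 ω H D : Matrix (Fin 2) (Fin 2) F) = Matrix.diagonal ![ω.μ ^ 2, ω.μ ^ 3] := by
    rw [val_pr2]; ext i j; fin_cases i <;> fin_cases j <;> simp [D, val_gD, p2, dm]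
  have hT1 : (pr1 ω H T : Matrix (Fin 2) (Fin 2) F) = !![0, 1; 1, 0] := by
    rw [val_pr1]; ext i j; fin_cases i <;> fin_cases j <;> simp [T, val_gT, p1, tm]
  have hT2 : (pr2 ω H T : Matrix (Fin 2) (Fin 2) F) = !![0, 1; 1, 0] := by
    rw [val_pr2]; ext i j; fin_cases i <;> fin_cases j <;> simp [T, val_gT, p2, tm]
  have hY1 : (pr1 ω H Y : Matrix (Fin 2) (Fin 2) F) = !![(y : M5) 1 1, (y : M5) 1 4; (y : M5) 1 4, (y : M5) 1 1] := by
    obtain ⟨-, -, -, -, e44, e41, -⟩ := hs.vals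
    rw [val_pr1]; ext i j; fin_cases i <;> fin_cases j <;> simp [Y, p1, e44, e41]
  by_cases hdvd : p ∣ Nat.card (pr1 ω H).range
  swap
  · exact mul_eq_zero_of_coprime ω.two hdvd ⟨D, rfl⟩ ⟨T, rfl⟩ ⟨Y, rfl⟩ ω.pow5 ω.ne_one hD1 hT1 hY1
  exfalso
  have h14 : ω.μ ≠ ω.μ ^ 4 := fun e => ω.pow_ne_one (k := 3) (by norm_num)
    (mul_right_cancel₀ ω.ne_zero (by linear_combination -e))
  have h23 : ω.μ ^ 2 ≠ ω.μ ^ 3 := fun e => ω.ne_one
    (mul_right_cancel₀ (pow_ne_zero 2 ω.ne_zero) (by linear_combination -e))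
  obtain ⟨e0, he0⟩ := exists_prime_orderOf_dvd_card' p hdvd
  have he1 : (e0 : GL (Fin 2) F) ≠ 1 := fun e => hC.prime.ne_one (by
    rw [← he0, ← Subgroup.orderOf_coe, e, orderOf_one])
  have hep : (e0 : GL (Fin 2) F) ^ p = 1 := by
    rw [← SubgroupClass.coe_pow, ← he0, pow_orderOf_eq_one]; rfl
  obtain ⟨hx, -⟩ := elem_mem hC.surj (G := (pr1 ω H).range) ⟨D, rfl⟩ hD1 h14 ⟨T, rfl⟩ one_ne_zero hT1 e0.2 he1 hep
  obtain ⟨g, hg⟩ := hx 1
  obtain ⟨e, m, hm, hgo⟩ := Nat.exists_eq_pow_mul_and_not_dvd (orderOf_pos g).ne' p hC.prime.ne_one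
  obtain ⟨u, hu⟩ : ∃ u, u = g ^ (m ^ (p - 1)) := ⟨_, rfl⟩
  have hpe : u ^ (p ^ e) = 1 := by
    rw [hu, ← pow_mul, ← orderOf_dvd_iff_pow_eq_one, hgo, mul_comm]
    exact Nat.mul_dvd_mul (dvd_pow_self m (by have := hC.prime.two_le; omega)) dvd_rfl
  have hm1 : ((m ^ (p - 1) : ℕ) : F) = 1 := by
    have h0 : (m : ZMod p) ≠ 0 := fun h => hm ((ZMod.natCast_eq_zero_iff _ _).1 h)
    have h1 := congrArg (ZMod.castHom dvd_rfl F) (ZMod.pow_card_sub_one_eq_one h0)
    rw [map_pow, map_one, map_natCast] at h1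
    rwa [Nat.cast_pow]
  have hu1 : pr1 ω H u = xu 1 := by
    rw [hu, map_pow, hg, xu_pow, hm1, one_mul]
  have hu0 : pr0 ω H u = 1 := by
    refine Units.ext ?_
    have h1 : (pr0 ω H u : F) ^ (p ^ e) = 1 := by
      rw [← Units.val_pow_eq_pow_val, ← map_pow, hpe, map_one, Units.val_one]
    have h2 : ((pr0 ω H u : F) - 1) ^ (p ^ e) = 0 := by rw [sub_pow_char_pow, one_pow, h1, sub_self]
    exact sub_eq_zero.1 (eq_zero_of_pow_eq_zero h2)
  by_cases hu2 : pr2 ω H u = 1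
  · refine one_ne_zero (α := F) (hC.noElem _ (mem_Cq.1 u.2).1 1 4 (by decide) 1 ?_)
    refine blocked_ext (blocked_Cq u) ?_ ?_ ?_ ?_
    · simp [Blocked, Matrix.transvection, Matrix.single]
    · have := congrArg Units.val hu0
      rw [val_pr0, Units.val_one] at this
      rw [this]
      simp [Matrix.transvection, Matrix.single]
    · rw [← val_pr1, hu1, val_xu]
      ext i j; fin_cases i <;> fin_cases j <;> simp [p1, Matrix.transvection, Matrix.single]
    · rw [← val_pr2, hu2, Units.val_one]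
      ext i j; fin_cases i <;> fin_cases j <;> simp [p2, Matrix.transvection, Matrix.single]
  -- the second pair
  obtain ⟨Yu, hYu⟩ : ∃ Yu, Yu = pr2 ω H u := ⟨_, rfl⟩
  rw [← hYu] at hu2
  have hYp : Yu ^ p = 1 := by
    haveI : CharP (Matrix (Fin 2) (Fin 2) F) p :=
      charP_of_injective_ringHom (f := Matrix.scalar (Fin 2)) (fun a b h => Matrix.scalar_inj.1 h) p
    obtain ⟨N, hN⟩ : ∃ N, N = (Yu : Matrix (Fin 2) (Fin 2) F) - 1 := ⟨_, rfl⟩
    have hnil : IsNilpotent N := ⟨p ^ e, by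
      rw [hN, sub_pow_char_pow_of_commute p e (Commute.one_right _), one_pow, ← Units.val_pow_eq_pow_val, hYu,
        ← map_pow, hpe, map_one, Units.val_one, sub_self]⟩
    have hNN : N * N = 0 := by
      have h := Matrix.aeval_self_charpoly N
      rw [sub_eq_zero.1 (IsNilpotent.eq_zero (Matrix.isNilpotent_charpoly_sub_pow_of_isNilpotent hnil)),
        Polynomial.aeval_X_pow, Fintype.card_fin, pow_two] at h
      exact h
    refine Units.ext ?_
    rw [pow_one_add_sq_zero (N := N) (by rw [hN]; abel) hNN, CharP.cast_eq_zero F p, zero_smul, add_zero, Units.val_one]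
  obtain ⟨hx2, hy2⟩ := elem_mem hC.surj (G := (pr2 ω H).range) ⟨D, rfl⟩ hD2 h23 ⟨T, rfl⟩ one_ne_zero hT2 ⟨u, hYu.symm⟩ hu2 hYp
  let L : Subgroup (GL (Fin 2) F) := ((pr1 ω H).ker ⊓ (pr0 ω H).ker).map (pr2 ω H)
  have hn : ∀ g ∈ (pr2 ω H).range, ∀ l ∈ L, g * l * g⁻¹ ∈ L := by
    rintro _ ⟨g, rfl⟩ _ ⟨l, hl, rfl⟩
    refine ⟨g * l * g⁻¹, ⟨?_, ?_⟩, by simp⟩
    · exact (inferInstance : (pr1 ω H).ker.Normal).conj_mem l hl.1 g
    · exact (inferInstance : (pr0 ω H).ker.Normal).conj_mem l hl.2 g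
  obtain ⟨k, hk⟩ := hC.surj (ω.μ ^ 2)
  set v := D * u * D⁻¹ * (u ^ k)⁻¹ with hv
  have hconj : pr1 ω H D * xu 1 = xu (ω.μ ^ 2) * pr1 ω H D := Units.ext (by
    rw [Units.val_mul, Units.val_mul, hD1, val_xu, val_xu]
    ext i j; fin_cases i <;> fin_cases j <;>
      simp [Matrix.mul_apply, Matrix.diagonal_apply, Matrix.vecMul, dotProduct, Fin.sum_univ_two] <;>
      linear_combination -ω.μ * h5)
  have hv1 : pr1 ω H v = 1 := by
    rw [hv, map_mul, map_mul, map_mul, map_inv, map_inv, map_pow, hu1, hconj, mul_inv_cancel_right, xu_pow,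
      mul_one, ← hk, mul_inv_cancel]
  have hv0 : pr0 ω H v = 1 := by
    rw [hv, map_mul, map_mul, map_mul, map_inv, map_inv, map_pow, hu0, mul_one, mul_inv_cancel, one_pow, inv_one,
      one_mul]
  have hns : ¬ ((pr2 ω H v : Matrix (Fin 2) (Fin 2) F) 0 1 = 0 ∧ (pr2 ω H v : Matrix (Fin 2) (Fin 2) F) 1 0 = 0 ∧
      (pr2 ω H v : Matrix (Fin 2) (Fin 2) F) 0 0 = (pr2 ω H v : Matrix (Fin 2) (Fin 2) F) 1 1) := by
    rintro ⟨c01, c10, c11⟩
    set l := (pr2 ω H v : Matrix (Fin 2) (Fin 2) F) 0 0 with hl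
    have hvl : (pr2 ω H v : Matrix (Fin 2) (Fin 2) F) = !![l, 0; 0, l] := by
      rw [Matrix.eta_fin_two (pr2 ω H v : Matrix (Fin 2) (Fin 2) F), c01, c10, ← hl, ← c11]
    obtain ⟨a, b, c, d, hN⟩ : ∃ a b c d, (Yu : Matrix (Fin 2) (Fin 2) F) - 1 = !![a, b; c, d] :=
      ⟨_, _, _, _, Matrix.eta_fin_two _⟩
    have hNN := unip_two hYp
    have hY : (Yu : Matrix (Fin 2) (Fin 2) F) = 1 + !![a, b; c, d] := by rw [← hN]; abel
    have e : pr2 ω H D * Yu = pr2 ω H v * Yu ^ k * pr2 ω H D := by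
      rw [hv, map_mul, map_mul, map_mul, map_inv, map_inv, map_pow, ← hYu, inv_mul_cancel_right,
        inv_mul_cancel_right]
    have e' := congrArg (fun z : GL (Fin 2) F => (z : Matrix (Fin 2) (Fin 2) F)) e
    simp only [Units.val_mul] at e'
    rw [pow_one_add_sq_zero (N := !![a, b; c, d]) hY (hN ▸ hNN), hY, hD2, hvl, ← hk] at e'
    rw [hN] at hNN
    have n00 := congrFun (congrFun hNN 0) 0
    have n01 := congrFun (congrFun hNN 0) 1
    have n10 := congrFun (congrFun hNN 1) 0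
    have n11 := congrFun (congrFun hNN 1) 1
    have q00 := congrFun (congrFun e' 0) 0
    have q01 := congrFun (congrFun e' 0) 1
    have q10 := congrFun (congrFun e' 1) 0
    have q11 := congrFun (congrFun e' 1) 1
    simp [Matrix.mul_apply, Fin.sum_univ_two, Matrix.diagonal_apply, Matrix.vecMul, dotProduct] at n00 n01 n10 n11 q00 q01 q10 q11
    have hw := ω.ne_zero
    have had : a + d = 0 := by grind
    have f00 : 1 + a = l * (1 + ω.μ ^ 2 * a) :=
      mul_left_cancel₀ (pow_ne_zero 2 hw) (by linear_combination q00)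
    have f11 : 1 + d = l * (1 + ω.μ ^ 2 * d) :=
      mul_left_cancel₀ (pow_ne_zero 3 hw) (by linear_combination q11)
    have hl1 : l = 1 := mul_left_cancel₀ ω.two (by linear_combination (1 - l * ω.μ ^ 2) * had - f00 - f11)
    rw [hl1] at f00 q01 q10
    have h21 : (1 : F) - ω.μ ^ 2 ≠ 0 := sub_ne_zero.2 (Ne.symm (ω.pow_ne_one (by norm_num)))
    have ha : a = 0 := (mul_eq_zero.1 (show (1 - ω.μ ^ 2) * a = 0 by linear_combination f00)).resolve_left h21
    have hd : d = 0 := by linear_combination had - ha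
    have hb : b = 0 := by
      refine (mul_eq_zero.1 (show (ω.μ ^ 2 * (1 - ω.μ ^ 3)) * b = 0 by linear_combination q01)).resolve_left
        (mul_ne_zero (pow_ne_zero _ hw) (sub_ne_zero.2 (Ne.symm (ω.pow_ne_one (by norm_num)))))
    have hc : c = 0 := by
      refine (mul_eq_zero.1 (show (ω.μ ^ 3 * (1 - ω.μ)) * c = 0 by linear_combination q10)).resolve_left
        (mul_ne_zero (pow_ne_zero _ hw) (sub_ne_zero.2 (Ne.symm ω.ne_one)))
    refine hu2 (Units.ext ?_)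
    rw [hY, ha, hb, hc, hd, Units.val_one]
    ext i j; fin_cases i <;> fin_cases j <;> simp
  obtain ⟨a, ha0, ha⟩ := hC.big
  obtain ⟨w, ⟨hw1, hw0⟩, hw2⟩ := normal_elem hx2 hy2 hn (L := L) ⟨v, ⟨hv1, hv0⟩, rfl⟩ hns ha0 ha
  refine one_ne_zero (α := F) (hC.noElem _ (mem_Cq.1 w.2).1 3 2 (by decide) 1 ?_)
  refine blocked_ext (blocked_Cq w) ?_ ?_ ?_ ?_
  · simp [Blocked, Matrix.transvection, Matrix.single]
  · have := congrArg Units.val (MonoidHom.mem_ker.1 hw0)
    rw [val_pr0, Units.val_one] at this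
    rw [this]
    simp [Matrix.transvection, Matrix.single]
  · rw [← val_pr1, MonoidHom.mem_ker.1 hw1, Units.val_one]
    ext i j; fin_cases i <;> fin_cases j <;> simp [p1, Matrix.transvection, Matrix.single]
  · rw [← val_pr2, hw2, val_yl]
    ext i j; fin_cases i <;> fin_cases j <;> simp [p2, Matrix.transvection, Matrix.single]

/-- both pairs -/
theorem Ctx.both_pairs (hC : Ctx ω p H) {y : G5} (hy : y ∈ H) (hq : y * gQ ω = gQ ω * y)
    (hs : Sym (y : M5)) : (y : M5) 1 1 * (y : M5) 1 4 = 0 ∧ (y : M5) 2 2 * (y : M5) 2 3 = 0 := by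
  refine ⟨hC.first_pair hy hq hs, ?_⟩
  have hWT : gW ω * gT ω = gT ω * gW ω := by rw [← gW_sq, mul_assoc]
  have hwi : (gW ω)⁻¹ = gT ω * gW ω :=
    inv_eq_of_mul_eq_one_right (by rw [← mul_assoc, hWT, mul_assoc, gW_sq, gT_sq])
  have hy' : gW ω * y * (gW ω)⁻¹ ∈ H := mul_mem (mul_mem hC.memW hy) (inv_mem hC.memW)
  have hq' : Commute (gW ω * y * (gW ω)⁻¹) (gQ ω) := by
    have hW4 : gW ω * gQ ω ^ 4 * (gW ω)⁻¹ = gQ ω := by
      rw [← conj_pow, gW_mul_gQ, mul_inv_cancel_right, ← pow_mul, pow_eq_pow_mod (4 * 4) (gQ_pow_five ω)]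
      norm_num
    rw [← hW4]
    show _ * _ = _ * _
    rw [conj_mul, conj_mul, ((show Commute y (gQ ω) from hq).pow_right 4).eq]
  have hs' : Sym ((gW ω * y * (gW ω)⁻¹ : G5) : M5) := by
    refine sym_of_comm ?_
    have h1 : Commute y (gT ω) := Units.ext (by rw [Units.val_mul, Units.val_mul, val_gT, comm_of_sym hs])
    have h2 : Commute (gW ω) (gT ω) := hWT
    simpa [val_gT] using congrArg Units.val ((h2.mul_left h1).mul_left h2.inv_left).eq
  have h := hC.first_pair hy' hq'.eq hs'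
  have hv : ((gW ω * y * (gW ω)⁻¹ : G5) : M5) = wm * (y : M5) * (tm * wm) := by
    rw [hwi, Units.val_mul, Units.val_mul, Units.val_mul, val_gW, val_gT]
  obtain ⟨-, -, -, -, -, -, -, -, -, -, e33, e32⟩ := hs.vals
  rw [hv] at h
  simp [wm, tm, Matrix.mul_apply, Matrix.vecMul, dotProduct, Fin.sum_univ_five, e33, e32] at h
  simpa [mul_comm] using h

end CfsgLib.Perm.Trans.FiveDim.Pauli
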