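import Cfsg.Agent.Lib.Qd.Points
import Cfsg.Agent.Lib.Qd.Dickson
import Mathlib.FieldTheory.IsAlgClosed.AlgebraicClosure
import Mathlib.GroupTheory.GroupAction.SubMulAction
import Mathlib.GroupTheory.GroupAction.Quotient

/-!
# Finite groups of two by two matrices of order prime to `p` containing an icosahedral pair

Counting fixed points on the projective line shows that such a group has projective order sixty; in
particular it is, up to scalars, the group generated by the pair.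
-/

set_option autoImplicit false
set_option linter.all false

namespace CfsgLib.Perm.Trans.FiveDim.Pauli

open Matrix MulAction

/-- the counting behind the icosahedral case -/
theorem sixty_of_count {m s a b : ℕ} (hs : 3 ≤ s) (hs5 : 10 * s ≤ 2 * m)
    (hs' : ∃ e, 5 ∣ e ∧ e * s = m) (ha : ∃ e, 2 ≤ e ∧ e * a = m) (hb : ∃ e, 2 ≤ e ∧ e * b = m)
    (heq : s + a + b = m + 2) : m = 60 := by
  obtain ⟨e₁, h5, he₁⟩ := hs'
  obtain ⟨e₂, h2, he₂⟩ := ha
  obtain ⟨e₃, h3, he₃⟩ := hb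
  obtain ⟨t, rfl⟩ := h5
  have ht : t = 1 ∨ 2 ≤ t := by
    rcases Nat.eq_zero_or_pos t with rfl | ht
    · simp at he₁; omega
    · omega
  have ha' : 2 * a = m ∨ 3 * a = m ∨ 4 * a ≤ m := by
    rcases (by omega : e₂ = 2 ∨ e₂ = 3 ∨ 4 ≤ e₂) with rfl | rfl | h
    · omega
    · omega
    · have := Nat.mul_le_mul_right a h; omega
  have hb' : 2 * b = m ∨ 3 * b = m ∨ 4 * b ≤ m := by
    rcases (by omega : e₃ = 2 ∨ e₃ = 3 ∨ 4 ≤ e₃) with rfl | rfl | h
    · omega
    · omega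
    · have := Nat.mul_le_mul_right b h; omega
  rcases ht with rfl | ht
  · omega
  · have := Nat.mul_le_mul_right s (Nat.mul_le_mul_left 5 ht)
    omega

section Sphere

variable {k : Type*} [Field k] [IsAlgClosed k]

local notation "S2" => Matrix.SpecialLinearGroup (Fin 2) k

/-- minus one -/
def negOne : S2 := ⟨-1, by simp [Matrix.det_fin_two]⟩

theorem scalar_cases {h : S2} (hsc : CfsgLib.Qd.Sc h) : h = 1 ∨ h = negOne := by
  obtain ⟨h01, h10, h11⟩ := hsc
  have hd := CfsgLib.Qd.det2 h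
  have : h.1 0 0 * h.1 0 0 = 1 := by linear_combination hd + h.1 0 0 * h11 + h.1 1 0 * h01
  rcases mul_self_eq_one_iff.1 this with e | e
  · exact Or.inl (CfsgLib.Qd.ext2 (by simp [e]) (by simp [h01]) (by simp [h10]) (by simp [← h11, e]))
  · exact Or.inr (CfsgLib.Qd.ext2 (by simp [negOne, e]) (by simp [negOne, h01]) (by simp [negOne, h10])
      (by simp [negOne, ← h11, e]))

theorem sc_negOne : CfsgLib.Qd.Sc (negOne : S2) := by simp [CfsgLib.Qd.Sc, negOne]

variable (G : Subgroup (Matrix.SpecialLinearGroup (Fin 2) k))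

/-- the fixed points of the nonscalar elements -/
def poles : SubMulAction G (CfsgLib.Qd.Pt k) where
  carrier := {x | ∃ h : G, ¬ CfsgLib.Qd.Sc (h : S2) ∧ h • x = x}
  smul_mem' g x := by
    rintro ⟨h, hns, hx⟩
    refine ⟨g * h * g⁻¹, fun hsc => hns ((CfsgLib.Qd.sc_iff _).2 fun y => ?_), ?_⟩
    · have h1 : (g * h * g⁻¹ : G) • (g • y) = g • y := (CfsgLib.Qd.sc_iff _).1 hsc ((g : S2) • y)
      rw [mul_smul, mul_smul, inv_smul_smul] at h1
      exact MulAction.injective g h1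
    · rw [mul_smul, mul_smul, inv_smul_smul, hx]

/-- the projective order is sixty -/
theorem card_eq_one_twenty (h2 : (2 : k) ≠ 0) [Finite G] (hneg : (negOne : S2) ∈ G)
    (htr : ∀ h : S2, h ∈ G → ¬ CfsgLib.Qd.Sc h → (h.1 0 0 + h.1 1 1) ^ 2 ≠ 4) {d j f : S2} (hd : d ∈ G) (hj : j ∈ G)
    (hf : f ∈ G) (hd5 : d ^ 5 = 1) (hdns : ¬ CfsgLib.Qd.Sc d) (hd10 : d.1 1 0 = 0) (hj00 : j.1 0 0 = 0)
    (hf00 : f.1 0 0 ≠ 0) (hf10 : f.1 1 0 ≠ 0) : Nat.card G = 120 := by
  classical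
  haveI : Fintype G := Fintype.ofFinite G
  obtain ⟨N, hN⟩ : ∃ N : G, N = ⟨negOne, hneg⟩ := ⟨_, rfl⟩
  have hne : (1 : G) ≠ N := fun e => h2 (by
    have e' := congrArg (fun t : G => (t : S2).1 0 0) (e.trans hN)
    simp [negOne] at e'
    linear_combination e')
  have hN2 : N * N = 1 := by
    rw [hN]; exact Subtype.ext (Subtype.ext (show (-1 : Matrix (Fin 2) (Fin 2) k) * -1 = 1 by simp))
  have hsc : ∀ h : G, CfsgLib.Qd.Sc (h : S2) ↔ h = 1 ∨ h = N := fun h => by
    constructor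
    · intro hs
      rcases scalar_cases hs with e | e
      · exact Or.inl (Subtype.ext e)
      · exact Or.inr (hN ▸ Subtype.ext e)
    · rintro (rfl | rfl)
      · simp [CfsgLib.Qd.Sc]
      · rw [hN]; exact sc_negOne
  -- two fixed points each
  have hfix : ∀ h : G, ¬ CfsgLib.Qd.Sc (h : S2) → ∃ s : Finset (CfsgLib.Qd.Pt k),
      (∀ x, x ∈ s ↔ h • x = x) ∧ s.card = 2 := fun h hns => by
    obtain ⟨s, hs, hcase⟩ := CfsgLib.Qd.card_fixed h2 (h : S2) hns
    rcases hcase with ⟨e, -⟩ | ⟨-, e⟩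
    · exact absurd e (htr _ h.2 hns)
    · exact ⟨s, hs, e⟩
  haveI : Finite (poles G) := by
    have hfin : {x : CfsgLib.Qd.Pt k | ∃ h : G, ¬ CfsgLib.Qd.Sc (h : S2) ∧ h • x = x}.Finite := by
      refine Set.Finite.subset (Set.finite_iUnion (f := fun h : {h : G // ¬ CfsgLib.Qd.Sc (h : S2)} =>
        {x : CfsgLib.Qd.Pt k | (h : G) • x = x}) fun h => ?_) ?_
      · obtain ⟨s, hs, -⟩ := hfix h h.2
        exact s.finite_toSet.subset fun x hx => (hs x).2 hx
      · rintro x ⟨h, hns, hx⟩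
        exact Set.mem_iUnion.2 ⟨⟨h, hns⟩, hx⟩
    exact hfin.to_subtype
  haveI : Fintype (poles G) := Fintype.ofFinite _
  -- Burnside
  obtain ⟨r, hr⟩ : ∃ r, r = Fintype.card (orbitRel.Quotient G (poles G)) := ⟨_, rfl⟩
  have hburn := sum_card_fixedBy_eq_card_orbits_mul_card_group G (poles G)
  have htriv : ∀ h : G, CfsgLib.Qd.Sc (h : S2) → Fintype.card (fixedBy (poles G) h) = Fintype.card (poles G) :=
    fun h hs => Fintype.card_congr (Equiv.subtypeUnivEquiv fun x => Subtype.ext ((CfsgLib.Qd.sc_iff _).1 hs x.1))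
  have htwo : ∀ h : G, ¬ CfsgLib.Qd.Sc (h : S2) → Fintype.card (fixedBy (poles G) h) = 2 := fun h hns => by
    obtain ⟨s, hs, hs2⟩ := hfix h hns
    refine Eq.trans (Fintype.card_congr ?_) ((Fintype.card_coe s).trans hs2)
    exact
      { toFun := fun x => ⟨x.1.1, (hs _).2 (congrArg Subtype.val x.2)⟩
        invFun := fun y => ⟨⟨y.1, ⟨h, hns, (hs _).1 y.2⟩⟩, Subtype.ext ((hs _).1 y.2)⟩
        left_inv := fun x => rfl
        right_inv := fun y => rfl }
  have hsum : (∑ g : G, Fintype.card (fixedBy (poles G) g)) + 4 = 2 * Fintype.card (poles G) + 2 * Fintype.card G := by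
    have hsub : ({1, N} : Finset G) ⊆ Finset.univ := Finset.subset_univ _
    rw [← Finset.sum_sdiff hsub, Finset.sum_pair hne, htriv 1 ((hsc 1).2 (Or.inl rfl)), htriv N ((hsc N).2 (Or.inr rfl)),
      Finset.sum_congr rfl (g := fun _ => 2) (fun g hg => htwo g fun hs => by
        simp at hg
        rcases (hsc g).1 hs with e | e
        · exact hg.1 e
        · exact hg.2 e), Finset.sum_const, smul_eq_mul]
    have := Finset.card_sdiff_add_card_eq_card hsub
    rw [Finset.card_pair hne, Finset.card_univ] at this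
    omega
  -- the sizes of the orbits
  have hX : Fintype.card (poles G) =
      ∑ o : orbitRel.Quotient G (poles G), Fintype.card (orbit G (Quotient.out o)) := by
    rw [← Fintype.card_sigma]
    exact Fintype.card_congr (selfEquivSigmaOrbits G (poles G))
  have hord : ∀ x : poles G, Nat.card (stabilizer G x) * Fintype.card (orbit G x) = Fintype.card G ∧
      2 ∣ Nat.card (stabilizer G x) ∧ 4 ≤ Nat.card (stabilizer G x) := fun x => by
    have h1 := card_orbit_mul_card_stabilizer_eq_card_group G x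
    rw [← Nat.card_eq_fintype_card (α := stabilizer G x), mul_comm] at h1
    have mN : N ∈ stabilizer G x := Subtype.ext ((CfsgLib.Qd.sc_iff _).1 ((hsc N).2 (Or.inr rfl)) x.1)
    have h2N : 2 ∣ Nat.card (stabilizer G x) := by
      have : orderOf (⟨N, mN⟩ : stabilizer G x) = 2 := orderOf_eq_prime (Subtype.ext (by simp [pow_two, hN2]))
        (fun e => hne (congrArg Subtype.val e).symm)
      have h' := orderOf_dvd_natCard (⟨N, mN⟩ : stabilizer G x)
      rwa [this] at h'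
    refine ⟨h1, h2N, ?_⟩
    obtain ⟨h, hns, hx⟩ := x.2
    have mh : h ∈ stabilizer G x := Subtype.ext hx
    have h3 : 2 < Nat.card (stabilizer G x) := by
      haveI := Fintype.ofFinite (stabilizer G x)
      rw [Nat.card_eq_fintype_card]
      refine Fintype.two_lt_card_iff.2 ⟨⟨1, one_mem _⟩, ⟨N, mN⟩, ⟨h, mh⟩, ?_, ?_, ?_⟩
      · exact fun e => hne (congrArg Subtype.val e)
      · exact fun e => hns ((hsc h).2 (Or.inl (congrArg Subtype.val e).symm))
      · exact fun e => hns ((hsc h).2 (Or.inr (congrArg Subtype.val e).symm))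
    omega
  obtain ⟨m, hm⟩ : ∃ m, Fintype.card G = 2 * m := by
    have : orderOf N = 2 := orderOf_eq_prime (by rw [pow_two, hN2]) hne.symm
    have h' := orderOf_dvd_card (x := N)
    rw [this] at h'
    exact h'
  have hgen : ∀ x : poles G, ∃ e, 2 ≤ e ∧ e * Fintype.card (orbit G x) = m := fun x => by
    obtain ⟨h1, ⟨e, he⟩, h4⟩ := hord x
    refine ⟨e, by omega, ?_⟩
    rw [he, hm, mul_assoc] at h1
    omega
  -- the orbit of infinity
  obtain ⟨D, hDe⟩ : ∃ D : G, D = ⟨d, hd⟩ := ⟨_, rfl⟩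
  have hDinf : D • (CfsgLib.Qd.inf : CfsgLib.Qd.Pt k) = CfsgLib.Qd.inf := by
    rw [hDe]; exact CfsgLib.Qd.smul_inf_of_eq hd10
  obtain ⟨P, hP⟩ : ∃ P : poles G, P.1 = CfsgLib.Qd.inf := ⟨⟨_, D, by rw [hDe]; exact hdns, hDinf⟩, rfl⟩
  have h5 : 5 ∣ Nat.card (stabilizer G P) := by
    haveI : Fact (Nat.Prime 5) := ⟨by norm_num⟩
    have mD : D ∈ stabilizer G P := Subtype.ext (by
      show D • P.1 = P.1
      rw [hP, hDinf])
    have : orderOf (⟨D, mD⟩ : stabilizer G P) = 5 := orderOf_eq_prime (by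
        refine Subtype.ext (Subtype.ext ?_)
        simpa [hDe] using hd5) fun e => hdns (by
      have e' : d = 1 := by simpa [hDe] using congrArg Subtype.val (congrArg Subtype.val e)
      rw [e']; simp [CfsgLib.Qd.Sc])
    rw [← this]; exact orderOf_dvd_natCard _
  have hsP : 3 ≤ Fintype.card (orbit G P) := by
    have hj10 : j.1 1 0 ≠ 0 := fun e => by
      have := CfsgLib.Qd.det2 j
      rw [hj00, e] at this
      simp at this
    refine Fintype.two_lt_card_iff.2 ⟨⟨P, mem_orbit_self _⟩, ⟨(⟨j, hj⟩ : G) • P, mem_orbit _ _⟩,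
      ⟨(⟨f, hf⟩ : G) • P, mem_orbit _ _⟩, ?_, ?_, ?_⟩
    · intro e
      have e' : P.1 = j • P.1 := congrArg Subtype.val (congrArg Subtype.val e)
      rw [hP, CfsgLib.Qd.smul_inf_of_ne hj10] at e'
      exact CfsgLib.Qd.fin_ne_inf _ e'.symm
    · intro e
      have e' : P.1 = f • P.1 := congrArg Subtype.val (congrArg Subtype.val e)
      rw [hP, CfsgLib.Qd.smul_inf_of_ne hf10] at e'
      exact CfsgLib.Qd.fin_ne_inf _ e'.symm
    · intro e
      have e' : j • P.1 = f • P.1 := congrArg Subtype.val (congrArg Subtype.val e)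
      rw [hP, CfsgLib.Qd.smul_inf_of_ne hj10, CfsgLib.Qd.smul_inf_of_ne hf10, hj00, zero_div] at e'
      exact div_ne_zero hf00 hf10 (CfsgLib.Qd.fin_injective e').symm
  obtain ⟨e₁, he₁⟩ : ∃ e, Nat.card (stabilizer G P) = 2 * e := (hord P).2.1
  have he₁5 : 5 ∣ e₁ := (Nat.Coprime.dvd_mul_left (by norm_num : Nat.Coprime 5 2)).1 (he₁ ▸ h5)
  have he₁m : e₁ * Fintype.card (orbit G P) = m := by
    have h1 := (hord P).1
    rw [he₁, hm, mul_assoc] at h1
    omega
  obtain ⟨o₁, ho₁⟩ : ∃ o₁ : orbitRel.Quotient G (poles G), o₁ = Quotient.mk'' P := ⟨_, rfl⟩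
  have hso₁ : Fintype.card (orbit G (Quotient.out o₁)) = Fintype.card (orbit G P) := by
    have e : orbit G (Quotient.out o₁) = orbit G P :=
      orbit_eq_iff.2 (Quotient.exact' ((Quotient.out_eq' o₁).trans ho₁))
    exact Fintype.card_congr (Equiv.setCongr e)
  rw [← Finset.add_sum_erase _ _ (Finset.mem_univ o₁), hso₁] at hX
  have hrest : 2 * (∑ o ∈ Finset.univ.erase o₁, Fintype.card (orbit G (Quotient.out o))) ≤
      (Finset.univ.erase o₁).card * m := by
    rw [Finset.mul_sum, ← smul_eq_mul]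
    refine Finset.sum_le_card_nsmul _ _ _ fun o _ => ?_
    obtain ⟨e, he, hem⟩ := hgen (Quotient.out o)
    rw [← hem]
    exact Nat.mul_le_mul_right _ he
  have hcard : (Finset.univ.erase o₁).card + 1 = r := by
    rw [Finset.card_erase_add_one (Finset.mem_univ o₁), Finset.card_univ, hr]
  have heq : (∑ g : G, Fintype.card (fixedBy (poles G) g)) = r * (2 * m) := by rw [hburn, hr, hm]
  rw [heq, hm] at hsum
  have h10 : 10 * Fintype.card (orbit G P) ≤ 2 * m := by
    have : 5 ≤ e₁ := Nat.le_of_dvd (by have := (hord P).2.2; omega) he₁5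
    have := Nat.mul_le_mul_right (Fintype.card (orbit G P)) this
    omega
  have hr3 : r = 3 := by
    rcases (by omega : r ≤ 2 ∨ r = 3 ∨ 4 ≤ r) with h | h | h
    · interval_cases r <;> omega
    · exact h
    · exfalso
      nlinarith [Nat.mul_le_mul_right m h]
  obtain ⟨a, b, -, hab⟩ := Finset.card_eq_two.1 (show (Finset.univ.erase o₁).card = 2 by omega)
  rw [hab, Finset.sum_pair (by
    intro e
    have := congrArg Finset.card hab
    rw [e, Finset.pair_eq_singleton, Finset.card_singleton] at this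
    omega)] at hX
  subst hr3
  have h60 := sixty_of_count hsP h10 ⟨e₁, he₁5, he₁m⟩ (hgen (Quotient.out a)) (hgen (Quotient.out b)) (by omega)
  rw [Nat.card_eq_fintype_card, hm, h60]

end Sphere

section Field

variable {F : Type*} [Field F]

local notation "K" => AlgebraicClosure F
local notation "ι" => algebraMap F (AlgebraicClosure F)

/-- the unimodular multiples over the algebraic closure -/
def projSL (G : Subgroup (GL (Fin 2) F)) : Subgroup (Matrix.SpecialLinearGroup (Fin 2) K) where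
  carrier := {h | ∃ g ∈ G, ∃ c : K, h.1 = c • (g : Matrix (Fin 2) (Fin 2) F).map ι}
  mul_mem' := by
    rintro x y ⟨g, hg, c, hx⟩ ⟨g', hg', c', hy⟩
    refine ⟨g * g', mul_mem hg hg', c * c', ?_⟩
    rw [Matrix.SpecialLinearGroup.coe_mul, hx, hy, Units.val_mul, Matrix.map_mul, Matrix.smul_mul, Matrix.mul_smul,
      smul_smul]
  one_mem' := ⟨1, one_mem _, 1, by simp⟩
  inv_mem' := by
    rintro x ⟨g, hg, c, hx⟩
    have hc : c ≠ 0 := fun e => by
      have := x.2
      rw [hx, e, zero_smul, Matrix.det_zero] at this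
      · exact zero_ne_one this
    refine ⟨g⁻¹, inv_mem hg, c⁻¹, ?_⟩
    refine left_inv_eq_right_inv (a := x.1) (by rw [← Matrix.SpecialLinearGroup.coe_mul, inv_mul_cancel]; rfl) ?_
    rw [hx, Matrix.smul_mul, Matrix.mul_smul, smul_smul, mul_inv_cancel₀ hc, one_smul, ← Matrix.map_mul,
      ← Units.val_mul, mul_inv_cancel, Units.val_one, Matrix.map_one _ (map_zero _) (map_one _)]

theorem finite_projSL (G : Subgroup (GL (Fin 2) F)) [Finite G] : Finite (projSL G) := by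
  have hfin : {M : Matrix (Fin 2) (Fin 2) K | ∃ g ∈ G, ∃ c : K, c * c * ι (g : Matrix (Fin 2) (Fin 2) F).det = 1 ∧
      M = c • (g : Matrix (Fin 2) (Fin 2) F).map ι}.Finite := by
    refine (Set.finite_iUnion (f := fun g : G => (fun c : K => c • ((g : GL (Fin 2) F) : Matrix (Fin 2) (Fin 2) F).map ι) ''
      {c : K | c * c * ι ((g : GL (Fin 2) F) : Matrix (Fin 2) (Fin 2) F).det = 1}) fun g => Set.Finite.image _ ?_).subset ?_
    · obtain ⟨r, hr⟩ := IsAlgClosed.exists_eq_mul_self (ι ((g : GL (Fin 2) F) : Matrix (Fin 2) (Fin 2) F).det)⁻¹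
      refine (Set.toFinite ({r, -r} : Set K)).subset fun c hc => ?_
      have e : c * c = r * r := by
        rw [← hr]; exact eq_inv_of_mul_eq_one_left hc
      rcases mul_self_eq_mul_self_iff.1 e with h | h <;> simp [h]
    · rintro M ⟨g, hg, c, hc, rfl⟩
      exact Set.mem_iUnion.2 ⟨⟨g, hg⟩, c, hc, rfl⟩
  haveI := hfin.to_subtype
  refine Finite.of_injective (fun h : projSL G => (⟨h.1.1, ?_⟩ : {M : Matrix (Fin 2) (Fin 2) K | ∃ g ∈ G, ∃ c : K,
    c * c * ι (g : Matrix (Fin 2) (Fin 2) F).det = 1 ∧ M = c • (g : Matrix (Fin 2) (Fin 2) F).map ι})) ?_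
  · obtain ⟨g, hg, c, hx⟩ := h.2
    refine ⟨g, hg, c, ?_, hx⟩
    have := h.1.2
    rw [hx, Matrix.det_smul, Fintype.card_fin, ← RingHom.mapMatrix_apply, ← RingHom.map_det, pow_two] at this
    exact this
  · intro a b e
    exact Subtype.ext (Subtype.ext (congrArg Subtype.val e :))

variable {p : ℕ} [hp : Fact p.Prime] [CharP F p]

/-- the order of the unimodular multiples -/
theorem card_projSL (hp2 : (2 : F) ≠ 0) {G : Subgroup (GL (Fin 2) F)} [Finite G] (hG : ¬ p ∣ Nat.card G)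
    {D J Φ : GL (Fin 2) F} (hD : D ∈ G) (hJ : J ∈ G) (hΦ : Φ ∈ G) {ν : F} (hν5 : ν ^ 5 = 1) (hν : ν ≠ ν ^ 4)
    (hDv : (D : Matrix (Fin 2) (Fin 2) F) = Matrix.diagonal ![ν, ν ^ 4])
    (hJv : (J : Matrix (Fin 2) (Fin 2) F) = !![0, 1; -1, 0])
    (hΦd : (Φ : Matrix (Fin 2) (Fin 2) F).det = 1) (hΦ00 : (Φ : Matrix (Fin 2) (Fin 2) F) 0 0 ≠ 0)
    (hΦ10 : (Φ : Matrix (Fin 2) (Fin 2) F) 1 0 ≠ 0) : Nat.card (projSL G) = 120 := by
  haveI := finite_projSL G
  have hι : Function.Injective ι := (ι).injective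
  haveI : CharP K p := charP_of_injective_algebraMap hι p
  have h2 : (2 : K) ≠ 0 := by rw [← map_ofNat ι 2]; exact (map_ne_zero_iff _ hι).2 hp2
  obtain ⟨up, hup⟩ : ∃ up : {g : GL (Fin 2) F // g ∈ G ∧ (g : Matrix (Fin 2) (Fin 2) F).det = 1} →
      Matrix.SpecialLinearGroup (Fin 2) K, ∀ g, (up g).1 = (g.1 : Matrix (Fin 2) (Fin 2) F).map ι :=
    ⟨fun g => ⟨(g.1 : Matrix (Fin 2) (Fin 2) F).map ι, by
      rw [← RingHom.mapMatrix_apply, ← RingHom.map_det, g.2.2, map_one]⟩, fun g => rfl⟩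
  have hmem : ∀ g, up g ∈ projSL G := fun g => ⟨g.1, g.2.1, 1, by rw [hup, one_smul]⟩
  have hDd : (D : Matrix (Fin 2) (Fin 2) F).det = 1 := by
    rw [hDv, Matrix.det_diagonal, Fin.prod_univ_two]
    simp
    linear_combination hν5
  have hJd : (J : Matrix (Fin 2) (Fin 2) F).det = 1 := by rw [hJv, Matrix.det_fin_two_of]; ring
  refine card_eq_one_twenty (projSL G) h2 ⟨1, one_mem _, -1, by simp [negOne]⟩ ?_ (hmem ⟨D, hD, hDd⟩)
    (hmem ⟨J, hJ, hJd⟩) (hmem ⟨Φ, hΦ, hΦd⟩) ?_ ?_ ?_ ?_ ?_ ?_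
  · rintro h ⟨g, hg, c, hx⟩ hns htr
    refine hns ?_
    obtain ⟨ε, hε, hε2⟩ : ∃ ε : K, h.1 0 0 + h.1 1 1 = 2 * ε ∧ ε * ε = 1 := by
      refine ⟨(h.1 0 0 + h.1 1 1) / 2, by field_simp, ?_⟩
      field_simp
      linear_combination htr
    obtain ⟨N, hN⟩ : ∃ N, N = h.1 - ε • (1 : Matrix (Fin 2) (Fin 2) K) := ⟨_, rfl⟩
    have hdet := CfsgLib.Qd.det2 h
    have hNN : N * N = 0 := by
      rw [hN]
      ext i j
      fin_cases i <;> fin_cases j <;> simp [Matrix.mul_apply, Fin.sum_univ_two] <;> grind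
    have hpow : ∀ n : ℕ, (h.1) ^ n = ε ^ n • (1 : Matrix (Fin 2) (Fin 2) K) + ((n : K) * ε ^ n * ε) • N := fun n => by
      induction n with
      | zero => simp
      | succ n ih =>
        rw [pow_succ, ih, show h.1 = ε • (1 : Matrix (Fin 2) (Fin 2) K) + N by rw [hN]; abel]
        simp only [add_mul, mul_add, Matrix.smul_mul, Matrix.mul_smul, one_mul, mul_one, hNN, smul_zero, add_zero,
          Nat.cast_succ]
        match_scalars
        · ring
        · linear_combination (-(ε ^ n)) * hε2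
    obtain ⟨n, hn, hnG⟩ : ∃ n, n = Nat.card G ∧ g ^ n = 1 := ⟨_, rfl, by
      have h' : (⟨g, hg⟩ : G) ^ Nat.card G = 1 := pow_card_eq_one'
      exact congrArg Subtype.val h'⟩
    have hn0 : (n : K) ≠ 0 := fun e => hG (by rw [← hn]; exact (CharP.cast_eq_zero_iff K p n).1 e)
    have hε0 : ε ≠ 0 := fun e => by simp [e] at hε2
    have e : (h.1) ^ n = c ^ n • (1 : Matrix (Fin 2) (Fin 2) K) := by
      rw [hx, smul_pow, ← RingHom.mapMatrix_apply, ← map_pow, ← Units.val_pow_eq_pow_val, hnG, Units.val_one, map_one]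
    rw [hpow] at e
    have hcoef : (n : K) * ε ^ n * ε ≠ 0 := mul_ne_zero (mul_ne_zero hn0 (pow_ne_zero _ hε0)) hε0
    have e01 := congrFun (congrFun e 0) 1
    have e10 := congrFun (congrFun e 1) 0
    simp [hN, hcoef] at e01 e10
    refine ⟨e01, e10, ?_⟩
    have : (h.1 0 0 - h.1 1 1) * (h.1 0 0 - h.1 1 1) = 0 := by
      linear_combination htr - 4 * hdet - 4 * h.1 1 0 * e01
    exact sub_eq_zero.1 (mul_self_eq_zero.1 this)
  · refine Subtype.ext ?_
    rw [Matrix.SpecialLinearGroup.coe_pow, hup, ← RingHom.mapMatrix_apply, ← map_pow, hDv, Matrix.diagonal_pow,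
      Matrix.SpecialLinearGroup.coe_one, ← map_one (ι).mapMatrix, ← Matrix.diagonal_one]
    congr 2
    funext i
    fin_cases i <;> simp [hν5]
    linear_combination (ν ^ 15 + ν ^ 10 + ν ^ 5 + 1) * hν5
  · intro hs
    have := hs.2.2
    rw [hup, hDv] at this
    simp [hι.eq_iff] at this
    exact hν (hι (by simpa using this))
  · rw [hup, hDv]; simp
  · rw [hup, hJv]; simp
  · rw [hup]; simpa using (map_ne_zero_iff _ hι).2 hΦ00
  · rw [hup]; simpa using (map_ne_zero_iff _ hι).2 hΦ10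

/-- up to scalars the group is the one generated by the pair -/
theorem exists_scalar_mem (hp2 : (2 : F) ≠ 0) {G G₀ : Subgroup (GL (Fin 2) F)} [Finite G] (hle : G₀ ≤ G)
    (hG : ¬ p ∣ Nat.card G)
    {D J Φ : GL (Fin 2) F} (hD : D ∈ G₀) (hJ : J ∈ G₀) (hΦ : Φ ∈ G₀) {ν : F} (hν5 : ν ^ 5 = 1) (hν : ν ≠ ν ^ 4)
    (hDv : (D : Matrix (Fin 2) (Fin 2) F) = Matrix.diagonal ![ν, ν ^ 4])
    (hJv : (J : Matrix (Fin 2) (Fin 2) F) = !![0, 1; -1, 0])
    (hΦd : (Φ : Matrix (Fin 2) (Fin 2) F).det = 1) (hΦ00 : (Φ : Matrix (Fin 2) (Fin 2) F) 0 0 ≠ 0)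
    (hΦ10 : (Φ : Matrix (Fin 2) (Fin 2) F) 1 0 ≠ 0) {g : GL (Fin 2) F} (hg : g ∈ G) :
    ∃ g₀ ∈ G₀, ∃ l : F, (g : Matrix (Fin 2) (Fin 2) F) = l • (g₀ : Matrix (Fin 2) (Fin 2) F) := by
  haveI : Finite G₀ := Finite.of_injective _ (Subgroup.inclusion_injective hle)
  haveI := finite_projSL G
  have hι : Function.Injective ι := (ι).injective
  have h1 := card_projSL (p := p) hp2 hG (hle hD) (hle hJ) (hle hΦ) hν5 hν hDv hJv hΦd hΦ00 hΦ10
  have h0 := card_projSL (p := p) hp2 (fun h => hG (h.trans (Subgroup.card_dvd_of_le hle))) hD hJ hΦ hν5 hν hDv hJv hΦd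
    hΦ00 hΦ10
  have heq : projSL G₀ = projSL G := Subgroup.eq_of_le_of_card_ge
    (fun x ⟨a, ha, c, hc⟩ => ⟨a, hle ha, c, hc⟩) (by rw [h0, h1])
  obtain ⟨c, hc⟩ := IsAlgClosed.exists_eq_mul_self (ι (g : Matrix (Fin 2) (Fin 2) F).det)⁻¹
  have hgd : ι (g : Matrix (Fin 2) (Fin 2) F).det ≠ 0 :=
    (map_ne_zero_iff _ hι).2 (Matrix.GeneralLinearGroup.det_ne_zero g)
  obtain ⟨h, hh⟩ : ∃ h : Matrix.SpecialLinearGroup (Fin 2) K, h.1 = c • (g : Matrix (Fin 2) (Fin 2) F).map ι :=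
    ⟨⟨c • (g : Matrix (Fin 2) (Fin 2) F).map ι, by
      rw [Matrix.det_smul, Fintype.card_fin, ← RingHom.mapMatrix_apply, ← RingHom.map_det, pow_two, ← hc,
        inv_mul_cancel₀ hgd]⟩, rfl⟩
  have hc0 : c ≠ 0 := fun e => by simp [e] at hc; exact hgd (by simpa using hc)
  obtain ⟨g₀, hg₀, c', hc'⟩ : h ∈ projSL G₀ := heq ▸ ⟨g, hg, c, hh⟩
  rw [hh] at hc'
  obtain ⟨i, j, hij⟩ : ∃ i j, (g₀ : Matrix (Fin 2) (Fin 2) F) i j ≠ 0 := by
    by_contra hall
    push Not at hall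
    refine Matrix.GeneralLinearGroup.det_ne_zero g₀ ?_
    rw [Matrix.det_fin_two]
    simp [hall]
  refine ⟨g₀, hg₀, (g : Matrix (Fin 2) (Fin 2) F) i j / (g₀ : Matrix (Fin 2) (Fin 2) F) i j, ?_⟩
  ext a b
  have eij := congrFun (congrFun hc' i) j
  have eab := congrFun (congrFun hc' a) b
  simp at eij eab
  rw [Matrix.smul_apply, smul_eq_mul, div_mul_eq_mul_div, eq_div_iff hij]
  refine hι (mul_left_cancel₀ hc0 ?_)
  rw [map_mul, map_mul]
  linear_combination ι ((g₀ : Matrix (Fin 2) (Fin 2) F) i j) * eab - ι ((g₀ : Matrix (Fin 2) (Fin 2) F) a b) * eij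

end Field

end CfsgLib.Perm.Trans.FiveDim.Pauli
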