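import Cfsg.Agent.Lib.Perm.Trans.FiveDim.Pauli.Kernel
import Cfsg.Agent.Lib.Perm.Trans.FiveDim.Pauli.Count
import Cfsg.Agent.Lib.Invol.BrauerSuzuki
import Cfsg.Agent.Lib.Coprime.Core
import Cfsg.Agent.Lib.FT.NoMinSimple

/-!
# The parity is the only involution commuting with itself; a solvable normal subgroup
-/

set_option autoImplicit false
set_option linter.all false

namespace CfsgLib.Perm.Trans.FiveDim.Pauli

open Matrix

variable {F : Type*} [Field F]

local notation "M5" => Matrix (Fin 5) (Fin 5) F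
local notation "G5" => GL (Fin 5) F

variable {ω : Root F} {p : ℕ}
variable {H : Subgroup (GL (Fin 5) F)}

theorem sm_pow_five : (sm : Matrix (Fin 5) (Fin 5) F) ^ 5 = 1 := by
  have h2 : (sm : Matrix (Fin 5) (Fin 5) F) * sm =
      !![0, 0, 0, 1, 0; 0, 0, 0, 0, 1; 1, 0, 0, 0, 0; 0, 1, 0, 0, 0; 0, 0, 1, 0, 0] := by
    ext i j
    fin_cases i <;> fin_cases j <;> simp [sm, Matrix.mul_apply, Fin.sum_univ_five]
  calc (sm : Matrix (Fin 5) (Fin 5) F) ^ 5 = sm * sm * (sm * sm) * sm := by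
        simp only [pow_succ, pow_zero, one_mul, mul_assoc]
    _ = 1 := ?_
  rw [h2]
  ext i j
  fin_cases i <;> fin_cases j <;> simp [sm, Matrix.mul_apply, Fin.sum_univ_five]

theorem gS_pow_five : (gS ω : G5) ^ 5 = 1 :=
  Units.ext (by rw [Units.val_pow_eq_pow_val, val_gS, sm_pow_five, Units.val_one])

theorem gT_conj_gS : gT ω * gS ω * gT ω = (gS ω)⁻¹ := by
  refine eq_inv_of_mul_eq_one_left (Units.ext ?_)
  rw [Units.val_mul, Units.val_mul, Units.val_mul, val_gT, val_gS, Units.val_one]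
  ext i j
  fin_cases i <;> fin_cases j <;> simp [tm, sm, Matrix.mul_apply, Fin.sum_univ_five]

theorem gT_conj_gD : gT ω * gD ω * gT ω = (gD ω)⁻¹ := by
  refine eq_inv_of_mul_eq_one_left (Units.ext ?_)
  rw [Units.val_mul, Units.val_mul, Units.val_mul, val_gT, val_gD, Units.val_one]
  ext i j
  have h5 := ω.pow5
  fin_cases i <;> fin_cases j <;>
    simp [tm, dm, Matrix.mul_apply, Matrix.vecMul, dotProduct, Matrix.diagonal_apply, Fin.sum_univ_five] <;> grind

variable [Finite F]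

/-- the only involutions of the centraliser of the parity -/
theorem Ctx.eq_one_or_parity (hC : Ctx ω p H) {s : Dt ω H} (hs : s * s = 1) :
    s = 1 ∨ (s : G5) = gT ω := by
  classical
  haveI : Fact p.Prime := ⟨hC.prime⟩
  haveI := hC.char
  have hinj := hC.prB_injective
  obtain ⟨a, b, c, d, hb⟩ : ∃ a b c d, (prB ω H s : Matrix (Fin 2) (Fin 2) F) = !![a, b; c, d] :=
    ⟨_, _, _, _, Matrix.eta_fin_two _⟩
  have hsq : (!![a, b; c, d] : Matrix (Fin 2) (Fin 2) F) * !![a, b; c, d] = 1 := by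
    rw [← hb, ← Units.val_mul, ← map_mul, hs, map_one, Units.val_one]
  have q00 := congrFun (congrFun hsq 0) 0
  have q01 := congrFun (congrFun hsq 0) 1
  have q10 := congrFun (congrFun hsq 1) 0
  have q11 := congrFun (congrFun hsq 1) 1
  simp [Matrix.mul_apply, Fin.sum_univ_two] at q00 q01 q10 q11
  by_cases htr : a + d = 0
  swap
  · -- scalar
    obtain rfl : b = 0 := (mul_eq_zero.1 (show (a + d) * b = 0 by linear_combination q01)).resolve_left htr
    obtain rfl : c = 0 := (mul_eq_zero.1 (show (a + d) * c = 0 by linear_combination q10)).resolve_left htr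
    simp at q00 q11
    obtain rfl : d = a := by
      by_contra hne
      rcases mul_self_eq_one_iff.1 q00 with rfl | rfl <;> rcases mul_self_eq_one_iff.1 q11 with rfl | rfl <;> simp at hne htr
    rcases mul_self_eq_one_iff.1 q00 with rfl | rfl
    · refine Or.inl (hinj (Units.ext ?_))
      rw [hb, map_one, Units.val_one]
      ext i j; fin_cases i <;> fin_cases j <;> simp
    · right
      have e : s = dW hC * dW hC := hinj (Units.ext (by
        rw [hb, map_mul, Units.val_mul, prB_dW]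
        ext i j; fin_cases i <;> fin_cases j <;> simp [Matrix.mul_apply, Fin.sum_univ_two]))
      rw [e, Subgroup.coe_mul]
      exact gW_sq ω
  exfalso
  have hdet : (prB ω H s : Matrix (Fin 2) (Fin 2) F).det = -1 := by
    rw [hb, Matrix.det_fin_two_of]
    linear_combination a * htr - q00
  obtain ⟨X₀, hX₀⟩ : ∃ X₀, X₀ = Subgroup.closure ({dQ hC, dW hC, dP hC} : Set (Dt ω H)) := ⟨_, rfl⟩
  have hdet1 : ∀ x ∈ X₀, Matrix.GeneralLinearGroup.det (prB ω H x) = 1 := by
    subst hX₀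
    intro x hx
    induction hx using Subgroup.closure_induction with
    | mem x hx =>
      refine Units.ext ?_
      rw [Matrix.GeneralLinearGroup.val_det_apply, Units.val_one]
      rcases hx with rfl | rfl | rfl
      · rw [prB_dQ, Matrix.det_diagonal, Fin.prod_univ_two]
        simp
        linear_combination ω.pow5
      · rw [prB_dW, Matrix.det_fin_two_of]; ring
      · rw [val_prB]; exact det_Bm_fm ω
    | one => simp
    | mul x y _ _ hx hy => simp [hx, hy]
    | inv x _ hx => simp [hx]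
  have hcop : ¬ p ∣ Nat.card (prB ω H).range := by
    rw [← Nat.card_congr (MonoidHom.ofInjective hinj).toEquiv]
    exact hC.not_dvd_card
  have m1 : dQ hC ∈ X₀ := hX₀ ▸ Subgroup.subset_closure (by simp)
  have m2 : dW hC ∈ X₀ := hX₀ ▸ Subgroup.subset_closure (by simp)
  have m3 : dP hC ∈ X₀ := hX₀ ▸ Subgroup.subset_closure (by simp)
  have h14 : ω.μ ≠ ω.μ ^ 4 := fun e => ω.pow_ne_one (k := 3) (by norm_num)
    (mul_right_cancel₀ ω.ne_zero (by linear_combination -e))
  have h23 : ω.μ ^ 2 - ω.μ ^ 3 ≠ 0 := sub_ne_zero.2 fun e => ω.ne_one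
    (mul_right_cancel₀ (pow_ne_zero 2 ω.ne_zero) (by linear_combination -e))
  obtain ⟨_, ⟨x, hx, rfl⟩, l, hl⟩ := exists_scalar_mem (p := p) ω.two (G := (prB ω H).range) (G₀ := X₀.map (prB ω H))
    (Subgroup.map_le_range _ _) hcop (Subgroup.mem_map_of_mem _ m1) (Subgroup.mem_map_of_mem _ m2)
    (Subgroup.mem_map_of_mem _ m3) ω.pow5 h14 (prB_dQ hC) (prB_dW hC) (by rw [val_prB]; exact det_Bm_fm ω)
    (by rw [prB_dP]; simpa [ω.η_ne_zero] using sub_ne_zero.2 h14)
    (by rw [prB_dP]; simpa [ω.η_ne_zero] using h23) (g := prB ω H s) ⟨s, rfl⟩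
  obtain ⟨z, hz⟩ : ∃ z, z = s * x⁻¹ := ⟨_, rfl⟩
  have hzB : (prB ω H z : Matrix (Fin 2) (Fin 2) F) = l • 1 := by
    rw [hz, map_mul, map_inv, Units.val_mul, hl, Matrix.smul_mul, Units.mul_inv]
  have hzc : ∀ w : Dt ω H, z * w = w * z := fun w => hinj (Units.ext (by
    rw [map_mul, map_mul, Units.val_mul, Units.val_mul, hzB, Matrix.smul_mul, Matrix.mul_smul, one_mul, mul_one]))
  have hl2 : l * l = -1 := by
    have h := congrArg Matrix.det hl
    rw [hdet, Matrix.det_smul, Fintype.card_fin, ← Matrix.GeneralLinearGroup.val_det_apply, hdet1 x hx,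
      Units.val_one, mul_one] at h
    linear_combination -h
  have hq : (z : G5) * gQ ω = gQ ω * (z : G5) := congrArg Subtype.val (hzc (dQ hC))
  obtain ⟨z1, z2, z3, z4, z5, z6, z7, z8, z9, w1, w2, w3, w4, w5, w6, w7⟩ :=
    blocked_of_comm (ω := ω) (g := ((z : G5) : M5)) (by simpa [val_gQ] using congrArg Units.val hq)
  have hAdiag : (prA ω H z : Matrix (Fin 3) (Fin 3) F) = Matrix.diagonal
      ![((z : G5) : M5) 0 0, ((z : G5) : M5) 1 1 + ((z : G5) : M5) 1 4, ((z : G5) : M5) 2 2 + ((z : G5) : M5) 2 3] := by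
    rw [val_prA]
    ext i j; fin_cases i <;> fin_cases j <;> simp [Am, z1, z2, z3, z4, z5, z6, z9, w1, w4, w5]
  have hcomA : ∀ w : Dt ω H, (prA ω H z : Matrix (Fin 3) (Fin 3) F) * (prA ω H w : Matrix (Fin 3) (Fin 3) F) =
      (prA ω H w : Matrix (Fin 3) (Fin 3) F) * (prA ω H z : Matrix (Fin 3) (Fin 3) F) := fun w => by
    rw [← Units.val_mul, ← Units.val_mul, ← map_mul, ← map_mul, hzc]
  have eW := congrFun (congrFun (hcomA (dW hC)) 1) 2
  have eP := congrFun (congrFun (hcomA (dP hC)) 0) 1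
  rw [hAdiag, prA_dW] at eW
  rw [hAdiag, prA_dP] at eP
  simp [Matrix.mul_apply, Matrix.vecMul, dotProduct, Fin.sum_univ_three, Matrix.diagonal_apply] at eW eP
  have eab : ((z : G5) : M5) 1 1 + ((z : G5) : M5) 1 4 = ((z : G5) : M5) 0 0 := by
    refine mul_left_cancel₀ (mul_ne_zero ω.two (inv_ne_zero ω.η_ne_zero)) ?_
    linear_combination -eP
  have hdetz : ((z : G5) : M5) 0 0 ^ 3 * (l * l) = 1 := by
    have h := hC.det _ (mem_Dt.1 z.2).1
    rw [det_parts ω.two (sym_Dt z), ← val_prA, ← val_prB, hAdiag, hzB, Matrix.det_diagonal, Fin.prod_univ_three,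
      Matrix.det_smul, Fintype.card_fin, Matrix.det_one, mul_one, pow_two] at h
    simp at h
    rw [show ((z : G5) : M5) 2 2 + ((z : G5) : M5) 2 3 = ((z : G5) : M5) 1 1 + ((z : G5) : M5) 1 4 by
      linear_combination eW, eab] at h
    linear_combination h
  have hfirst := hC.first_pair (mem_Dt.1 z.2).1 hq (sym_Dt z)
  have b00 := congrFun (congrFun hzB 0) 0
  simp [val_prB, Bm] at b00
  have hml : ((z : G5) : M5) 0 0 * ((z : G5) : M5) 0 0 = l * l := by
    linear_combination 4 * hfirst - (((z : G5) : M5) 1 1 + ((z : G5) : M5) 1 4 + ((z : G5) : M5) 0 0) * eab +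
      (((z : G5) : M5) 1 1 - ((z : G5) : M5) 1 4 + l) * b00
  obtain ⟨μ', hμ'⟩ : ∃ μ', μ' = ((z : G5) : M5) 0 0 := ⟨_, rfl⟩
  rw [← hμ'] at hdetz hml
  have hμ1 : μ' = 1 := by
    linear_combination -(μ' * (μ' * μ' - 1)) * (hml + hl2) + hdetz + μ' ^ 3 * hml
  rw [hμ1, hl2] at hml
  exact ω.two (by linear_combination hml)

/-- a solvable normal subgroup containing `D` and `S` -/
theorem Ctx.exists_solvable_normal (hC : Ctx ω p H) : ∃ K : Subgroup G5, K ≤ H ∧
    H ≤ Subgroup.normalizer (K : Set G5) ∧ Group.IsSolvable K ∧ gD ω ∈ K ∧ gS ω ∈ K := by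
  classical
  haveI : Fact (Nat.Prime 2) := ⟨Nat.prime_two⟩
  obtain ⟨z, hz⟩ : ∃ z : H, z = ⟨gT ω, hC.memT⟩ := ⟨_, rfl⟩
  have hT1 : gT ω ≠ 1 := fun e => ω.two (by
    have h := congrArg (fun g : G5 => (g : M5) 1 4) e
    simp [val_gT, tm] at h)
  have hz2 : orderOf z = 2 := orderOf_eq_prime (Subtype.ext (by simp [hz, pow_two, gT_sq]))
    (fun e => hT1 (by simpa [hz] using congrArg Subtype.val e))
  have hzP : IsPGroup 2 (Subgroup.zpowers z) :=
    IsPGroup.of_card (n := 1) (by rw [Nat.card_zpowers, hz2, pow_one])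
  obtain ⟨P, hP⟩ := hzP.exists_le_sylow
  have hzmem : z ∈ (P : Subgroup H) := hP (Subgroup.mem_zpowers z)
  have key : ∀ u : H, Commute u z → u * u = 1 → u = 1 ∨ u = z := fun u hu hu2 => by
    have hu' : (u : G5) ∈ Dt ω H := mem_Dt.2 ⟨u.2, by
      have := congrArg Subtype.val hu.eq
      simpa [hz] using this⟩
    rcases hC.eq_one_or_parity (s := ⟨u, hu'⟩) (Subtype.ext (congrArg Subtype.val hu2 :)) with e | e
    · exact Or.inl (Subtype.ext (congrArg Subtype.val e :))
    · exact Or.inr (by rw [hz]; exact Subtype.ext e)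
  haveI : Nontrivial (P : Subgroup H) :=
    ⟨⟨⟨z, hzmem⟩, 1, fun e => hT1 (by simpa [hz] using congrArg Subtype.val (congrArg Subtype.val e))⟩⟩
  haveI := P.isPGroup'.center_nontrivial
  have hzc : ∀ x ∈ (P : Subgroup H), Commute x z := by
    obtain ⟨u, hu⟩ : ∃ u : Subgroup.center (P : Subgroup H), orderOf u = 2 := by
      have h2 : IsPGroup 2 (Subgroup.center (P : Subgroup H)) := P.isPGroup'.to_subgroup _
      obtain ⟨n, hn, hcard⟩ := h2.nontrivial_iff_card.1 inferInstance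
      exact exists_prime_orderOf_dvd_card' 2 (hcard ▸ dvd_pow_self 2 (by omega))
    have hu2 : ((u : (P : Subgroup H)) : H) * ((u : (P : Subgroup H)) : H) = 1 := by
      have := congrArg (fun t : Subgroup.center (P : Subgroup H) => ((t : (P : Subgroup H)) : H))
        (show u * u = 1 by have h' := pow_orderOf_eq_one u; rw [hu, pow_two] at h'; exact h')
      simpa using this
    have huz : ((u : (P : Subgroup H)) : H) = z := by
      refine (key _ ?_ hu2).resolve_left fun e => ?_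
      · exact congrArg Subtype.val (Subgroup.mem_center_iff.1 u.2 ⟨z, hzmem⟩).symm
      · have : u = 1 := Subtype.ext (Subtype.ext e)
        rw [this, orderOf_one] at hu
        omega
    intro x hx
    rw [← huz]
    exact congrArg Subtype.val (Subgroup.mem_center_iff.1 u.2 ⟨x, hx⟩)
  have hO := CfsgLib.Invol.zcentral_of_unique_invol P hz2 (fun x hx hx2 =>
    (key x (hzc x hx) (by have h' := pow_orderOf_eq_one x; rw [hx2, pow_two] at h'; exact h')).resolve_left fun e => by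
      rw [e, orderOf_one] at hx2; omega)
  have hodd : Odd (Nat.card (Cfsg.pPrimeCore 2 H)) := by
    rw [Nat.odd_iff, ← Nat.two_dvd_ne_zero, ← Nat.prime_two.coprime_iff_not_dvd]
    exact (CfsgLib.Coprime.pPrimeCore_coprime Nat.prime_two).symm
  haveI := CfsgLib.FT.isSolvable_of_odd (Cfsg.pPrimeCore 2 H) hodd
  refine ⟨(Cfsg.pPrimeCore 2 H).map H.subtype, Subgroup.map_subtype_le _, ?_, ?_, ?_, ?_⟩
  · intro g hg
    refine Subgroup.mem_normalizer_iff.2 fun r => ⟨?_, fun h => ?_⟩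
    · rintro ⟨k, hk, rfl⟩
      exact ⟨⟨g, hg⟩ * k * (⟨g, hg⟩ : H)⁻¹, Subgroup.Normal.conj_mem inferInstance k hk _, rfl⟩
    · obtain ⟨k, hk, hkr⟩ := h
      refine ⟨(⟨g, hg⟩ : H)⁻¹ * k * ⟨g, hg⟩, ?_, ?_⟩
      · have := Subgroup.Normal.conj_mem (H := Cfsg.pPrimeCore 2 H) inferInstance k hk (⟨g, hg⟩ : H)⁻¹
        rwa [inv_inv] at this
      · simp at hkr ⊢
        rw [hkr]; group
  · exact solvable_of_surjective (H.subtype.subgroupMap_surjective (Cfsg.pPrimeCore 2 H))
  · have h := hO ⟨gD ω, hC.memD⟩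
    refine ⟨⟨gD ω, hC.memD⟩, ?_, rfl⟩
    have e : (⟨gD ω, hC.memD⟩ : H) = (z * ⟨gD ω, hC.memD⟩ * z⁻¹ * (⟨gD ω, hC.memD⟩ : H)⁻¹) ^ 2 := Subtype.ext (by
      have hzi : (gT ω)⁻¹ = gT ω := inv_eq_of_mul_eq_one_right (gT_sq ω)
      simp [hz, hzi, gT_conj_gD, pow_two]
      rw [eq_comm, ← mul_inv_eq_one]
      simpa [← mul_assoc, ← _root_.mul_inv_rev, pow_succ] using congrArg (·⁻¹) (gD_pow_five ω))
    rw [e]
    exact pow_mem h 2
  · have h := hO ⟨gS ω, hC.memS⟩
    refine ⟨⟨gS ω, hC.memS⟩, ?_, rfl⟩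
    have e : (⟨gS ω, hC.memS⟩ : H) = (z * ⟨gS ω, hC.memS⟩ * z⁻¹ * (⟨gS ω, hC.memS⟩ : H)⁻¹) ^ 2 := Subtype.ext (by
      have hzi : (gT ω)⁻¹ = gT ω := inv_eq_of_mul_eq_one_right (gT_sq ω)
      simp [hz, hzi, gT_conj_gS, pow_two]
      rw [eq_comm, ← mul_inv_eq_one]
      simpa [← mul_assoc, ← _root_.mul_inv_rev, pow_succ] using congrArg (·⁻¹) (gS_pow_five (ω := ω)))
    rw [e]
    exact pow_mem h 2

end CfsgLib.Perm.Trans.FiveDim.Pauli
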