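import Cfsg.Agent.Lib.Perm.Trans.FiveDim.Pauli.Normal
import Cfsg.Agent.Lib.Perm.Elusive.ExtraspecialThree
import Cfsg.Agent.Lib.Classical.SLBasic
import Cfsg.Prelude.Def_GeometricClasses

/-!
# The normaliser of the frame group of order `125` is maximal in `SL₅(p)` for `p ≡ 1 mod 5`

An overgroup with an elementary transvection is everything; one without normalises the frame.
-/

set_option autoImplicit false
set_option linter.all false

namespace CfsgLib.Perm.Trans.FiveDim.Pauli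

open Matrix Cfsg.Geo

variable {F : Type*} [Field F]

local notation "M5" => Matrix (Fin 5) (Fin 5) F
local notation "G5" => GL (Fin 5) F

theorem monomial_mul_transvection {M : Matrix (Fin 5) (Fin 5) F} (σ : Fin 5 → Fin 5) (hσ : Function.Injective σ)
    (c : F) (hM : ∀ x y, M x y = if x = σ y then c else 0) (a b : Fin 5) (t : F) :
    M * Matrix.transvection a b t = Matrix.transvection (σ a) (σ b) t * M := by
  rw [Matrix.transvection, Matrix.transvection, mul_add, add_mul, mul_one, one_mul]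
  congr 1
  ext x y
  rw [Matrix.mul_apply, Matrix.mul_apply, Finset.sum_eq_single a, Finset.sum_eq_single (σ b)]
  · simp only [hM, Matrix.single_apply, hσ.eq_iff]
    by_cases hx : x = σ a <;> by_cases hy : b = y <;> simp [hx, hy, eq_comm, mul_comm]
  · intro l _ hl
    simp [Matrix.single_apply, Ne.symm hl]
  · simp
  · intro l _ hl
    simp [Matrix.single_apply, Ne.symm hl]
  · simp

theorem sm_apply (x y : Fin 5) : (sm : M5) x y = if x = y + 1 then 1 else 0 := by
  fin_cases x <;> fin_cases y <;> simp [sm]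

theorem wm_apply (x y : Fin 5) : (wm : M5) x y = if x = 2 * y then -1 else 0 := by
  fin_cases x <;> fin_cases y <;> simp [wm]

theorem mem_SL_five {g : G5} : g ∈ specialLinear (Fin 5) F ↔ (g : M5).det = 1 := by
  show Matrix.GeneralLinearGroup.det g = 1 ↔ _
  rw [Units.ext_iff, Matrix.GeneralLinearGroup.val_det_apply, Units.val_one]

variable (ω : Root F)

theorem gW_conj_gD : gW ω * gD ω * (gW ω)⁻¹ = gD ω ^ 3 := by
  rw [mul_inv_eq_iff_eq_mul]
  exact Units.ext (by rw [Units.val_mul, Units.val_mul, val_gW, val_gD, val_gD_pow, wm_mul_dm])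

theorem gW_conj_gS : gW ω * gS ω * (gW ω)⁻¹ = gS ω * gS ω := by
  rw [mul_inv_eq_iff_eq_mul]
  exact Units.ext (by rw [Units.val_mul, Units.val_mul, Units.val_mul, val_gW, val_gS, wm_mul_sm])

theorem gR_le_SL : gR ω ≤ specialLinear (Fin 5) F := by
  rw [gR, Subgroup.closure_le]
  rintro _ (rfl | rfl)
  · exact mem_SL_five.2 (by rw [val_gD, det_dm ω.pow5])
  · exact mem_SL_five.2 (by rw [val_gS, det_sm ω])

/-- the elements of the frame group -/
theorem exists_form {g : G5} (hg : g ∈ gR ω) : ∃ i j k : ℕ, g = gS ω ^ i * gD ω ^ j * gZ ω ^ k := by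
  obtain ⟨π, hπe⟩ : ∃ π, π = QuotientGroup.mk' (Subgroup.center G5) := ⟨_, rfl⟩
  have hπ : ∀ x : G5, π x = 1 ↔ x ∈ Subgroup.center G5 := fun x => hπe ▸ QuotientGroup.eq_one_iff x
  have hds : Commute (π (gD ω)) (π (gS ω)) := by
    show π (gD ω) * π (gS ω) = π (gS ω) * π (gD ω)
    rw [← map_mul, gD_mul_gS, map_mul, (hπ _).2 (gZ_mem_center ω), one_mul, map_mul]
  have hc : Commute (π g) (π (gD ω)) ∧ Commute (π g) (π (gS ω)) := by
    rw [gR] at hg
    induction hg using Subgroup.closure_induction with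
    | mem w hw =>
      rcases hw with rfl | rfl
      · exact ⟨Commute.refl _, hds⟩
      · exact ⟨hds.symm, Commute.refl _⟩
    | one => simp
    | mul a b _ _ ha hb => rw [map_mul]; exact ⟨ha.1.mul_left hb.1, ha.2.mul_left hb.2⟩
    | inv a _ ha => rw [map_inv]; exact ⟨ha.1.inv_left, ha.2.inv_left⟩
  have hcen : ∀ r : G5, Commute (π g) (π r) → g * r * g⁻¹ * r⁻¹ ∈ Subgroup.center G5 := fun r h => (hπ _).1 (by
    rw [map_mul, map_mul, map_mul, map_inv, map_inv, h.eq, mul_inv_cancel_right, mul_inv_cancel])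
  obtain ⟨i, j, hij⟩ := exists_monomial ω (mem_SL_five.1 (gR_le_SL ω hg)) (hcen _ hc.1) (hcen _ hc.2)
  obtain ⟨k, hk⟩ := eq_gZ_pow ω hij (by
    have h1 : ∀ {x : G5}, x ∈ gR ω → (x : M5).det = 1 := fun hx => mem_SL_five.1 (gR_le_SL ω hx)
    exact h1 (mul_mem (inv_mem (mul_mem (pow_mem (gS_mem ω) i) (pow_mem (gD_mem ω) j))) hg))
  exact ⟨i, j, k, by rw [← hk, mul_inv_cancel_left]⟩

variable [Finite F]

theorem mem_normalizer_gR : gQ ω ∈ Subgroup.normalizer (gR ω : Set G5) ∧
    gW ω ∈ Subgroup.normalizer (gR ω : Set G5) ∧ gP ω ∈ Subgroup.normalizer (gR ω : Set G5) := by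
  refine ⟨?_, ?_, ?_⟩ <;>
    refine CfsgLib.Perm.Elusive.mem_normalizer_of_generators (a := gD ω) (b := gS ω) rfl ?_ ?_
  · rw [gQ_conj_gD]; exact gD_mem ω
  · rw [gQ_conj_gS]; exact mul_mem (gZ_mem ω) (mul_mem (gS_mem ω) (pow_mem (gD_mem ω) _))
  · rw [gW_conj_gD]; exact pow_mem (gD_mem ω) _
  · rw [gW_conj_gS]; exact mul_mem (gS_mem ω) (gS_mem ω)
  · rw [gP_conj_gD]; exact inv_mem (gS_mem ω)
  · rw [gP_conj_gS]; exact gD_mem ω

/-- an elementary transvection gives everything -/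
theorem eq_SL_of_elementary {H : Subgroup G5} (hSL : H ≤ specialLinear (Fin 5) F)
    (hsurj : ∀ x : F, ∃ k : ℕ, x = (k : F)) (hS : gS ω ∈ H) (hW : gW ω ∈ H)
    {g : G5} (hg : g ∈ H) {i j : Fin 5} (hij : i ≠ j) {s : F} (hs : s ≠ 0)
    (hgv : (g : M5) = Matrix.transvection i j s) : H = specialLinear (Fin 5) F := by
  obtain ⟨E, hE⟩ : ∃ E : Fin 5 → Fin 5 → Prop,
      E = fun a b => a ≠ b ∧ ∀ t : F, ∃ x ∈ H, (x : M5) = Matrix.transvection a b t := ⟨_, rfl⟩
  have h0 : E i j := by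
    rw [hE]
    refine ⟨hij, fun t => ?_⟩
    obtain ⟨k, hk⟩ := hsurj (t / s)
    refine ⟨g ^ k, pow_mem hg k, ?_⟩
    rw [← div_mul_cancel₀ t hs, hk]
    clear hk
    induction k with
    | zero => simp [Matrix.transvection]
    | succ k ih =>
      rw [pow_succ, Units.val_mul, ih, hgv, Matrix.transvection_mul_transvection_same _ _ hij, Nat.cast_succ,
        add_mul, one_mul]
  have hmove : ∀ (m : G5) (σ : Fin 5 → Fin 5) (c : F), m ∈ H → Function.Injective σ →
      (∀ x y, (m : M5) x y = if x = σ y then c else 0) → ∀ a b, E a b → E (σ a) (σ b) := by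
    subst hE
    intro m σ c hm hσ hmv a b hab
    refine ⟨fun e => hab.1 (hσ e), fun t => ?_⟩
    obtain ⟨x, hx, hxv⟩ := hab.2 t
    refine ⟨m * x * m⁻¹, mul_mem (mul_mem hm hx) (inv_mem hm), ?_⟩
    rw [Units.val_mul, Units.val_mul, hxv, monomial_mul_transvection σ hσ c hmv, mul_assoc, Units.mul_inv, mul_one]
  have hshift : ∀ a b : Fin 5, E a b → E (a + 1) (b + 1) :=
    hmove (gS ω) (· + 1) 1 hS (add_left_injective 1) (fun x y => by rw [val_gS]; exact sm_apply x y)
  have hdouble : ∀ a b : Fin 5, E a b → E (2 * a) (2 * b) :=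
    hmove (gW ω) (2 * ·) (-1) hW (by decide) (fun x y => by rw [val_gW]; exact wm_apply x y)
  have hall : ∀ a b : Fin 5, a ≠ b → E a b := by
    have key : ∀ i j a b : Fin 5, i ≠ j → a ≠ b →
        ∃ k : Fin 4, ∃ t : Fin 5, (fun x => 2 * x)^[(k : ℕ)] i + t = a ∧ (fun x => 2 * x)^[(k : ℕ)] j + t = b := by
      decide
    intro a b hab
    obtain ⟨k, t, rfl, rfl⟩ := key i j a b hij hab
    have hk : ∀ n : ℕ, E ((fun x => 2 * x)^[n] i) ((fun x => 2 * x)^[n] j) := fun n => by
      induction n with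
      | zero => exact h0
      | succ n ih => rw [Function.iterate_succ_apply', Function.iterate_succ_apply']; exact hdouble _ _ ih
    have e1 := hk (k : ℕ)
    have e2 := hshift _ _ e1
    have e3 := hshift _ _ e2
    have e4 := hshift _ _ e3
    have e5 := hshift _ _ e4
    fin_cases t
    · simpa using e1
    · exact e2
    · simpa [add_assoc] using e3
    · simpa [add_assoc] using e4
    · simpa [add_assoc] using e5
  refine le_antisymm hSL fun x hx => ?_
  have htop : H.comap Matrix.SpecialLinearGroup.toGL = ⊤ := by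
    refine CfsgLib.Classical.sl_eq_top _ fun a b hab c => ?_
    obtain ⟨y, hy, hyv⟩ := (hE ▸ hall a b hab).2 c
    rw [Subgroup.mem_comap]
    convert hy using 1
    refine Units.ext ?_
    rw [hyv]
    rfl
  have h : Matrix.SpecialLinearGroup.toGL (⟨_, mem_SL_five.1 hx⟩ : Matrix.SpecialLinearGroup (Fin 5) F) ∈ H :=
    Subgroup.mem_comap.1 (htop ▸ Subgroup.mem_top _)
  convert h using 1
  exact Units.ext rfl

/-- the frame case -/
theorem frame_maximal {p : ℕ} (hp : p.Prime) [CharP F p] (hsurj : ∀ x : F, ∃ k : ℕ, x = (k : F))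
    {a : F} (ha0 : a ≠ 0) (ha4 : a ^ 4 ≠ 1) (ha5 : a ^ 5 ≠ 1) :
    IsMaximalIn (specialLinear (Fin 5) F)
      (Subgroup.normalizer (gR ω : Set G5) ⊓ specialLinear (Fin 5) F) := by
  classical
  refine ⟨lt_of_le_of_ne inf_le_right fun e => ?_, fun M hHM hMSL => ?_⟩
  · obtain ⟨g, hg⟩ : ∃ g : G5, (g : M5) = Matrix.diagonal ![a, a⁻¹, 1, 1, 1] :=
      ⟨Matrix.GeneralLinearGroup.mkOfDetNeZero (Matrix.diagonal ![a, a⁻¹, 1, 1, 1]) (by
        rw [Matrix.det_diagonal, Fin.prod_univ_five]; simp [ha0]), rfl⟩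
    have hgN := (e.ge (mem_SL_five.2 (by rw [hg, Matrix.det_diagonal, Fin.prod_univ_five]; simp [ha0]))).1
    have h1 : g * gS ω * g⁻¹ ∈ gR ω := ((Subgroup.mem_normalizer_iff.1 hgN) (gS ω)).1 (gS_mem ω)
    obtain ⟨i, j, k, hijk⟩ := exists_form ω h1
    have hinv : ((g⁻¹ : G5) : M5) = Matrix.diagonal ![a⁻¹, a, 1, 1, 1] := by
      refine left_inv_eq_right_inv (a := (g : M5)) (Units.inv_mul g) ?_
      rw [hg, Matrix.diagonal_mul_diagonal, ← Matrix.diagonal_one]
      congr 1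
      funext l
      fin_cases l <;> simp [ha0]
    have h2 := congrArg (fun w : G5 => (w : M5) 2 1) hijk
    rw [pow_eq_pow_mod i (gS_pow_five (ω := ω))] at h2
    rw [Units.val_mul, Units.val_mul, Units.val_mul, Units.val_mul, val_gZ_pow, val_gD_pow, Units.val_pow_eq_pow_val,
      hg, hinv, val_gS] at h2
    simp only [
      Matrix.mul_smul, mul_one, Matrix.smul_apply, smul_eq_mul, dm, Matrix.mul_diagonal, Matrix.diagonal_mul] at h2
    have hval : a = 0 ∨ a = ω.μ ^ k * ω.μ ^ j := by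
      have := Nat.mod_lt i (show 5 > 0 by norm_num)
      interval_cases i % 5 <;> simp [sm, pow_succ, Matrix.mul_apply, Fin.sum_univ_five] at h2 <;>
        first
          | exact Or.inl h2
          | exact Or.inr h2
    refine ha5 ?_
    rw [hval.resolve_left ha0, ← pow_add, ← pow_mul, mul_comm, pow_mul, ω.pow5, one_pow]
  · have hRM : gR ω ≤ M := le_trans (le_inf Subgroup.le_normalizer (gR_le_SL ω)) hHM
    obtain ⟨nQ, nW, nP⟩ := mem_normalizer_gR ω
    have hQM : gQ ω ∈ M := hHM ⟨nQ, mem_SL_five.2 (by rw [val_gQ, det_qd ω.pow5])⟩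
    have hWM : gW ω ∈ M := hHM ⟨nW, mem_SL_five.2 (by rw [val_gW, det_wm ω.two])⟩
    have hPM : gP ω ∈ M := hHM ⟨nP, mem_SL_five.2 (by rw [val_gP, det_fm])⟩
    by_cases h : ∀ g ∈ M, ∀ i j : Fin 5, i ≠ j → ∀ s : F, (g : M5) = Matrix.transvection i j s → s = 0
    · have hC : Ctx ω p M :=
        ⟨hp, inferInstance, hsurj, ⟨a, ha0, ha4⟩, fun g hg => mem_SL_five.1 (hMSL hg), hRM (gD_mem ω),
          hRM (gS_mem ω), hQM, hWM, hPM, h⟩
      exact Or.inl (le_antisymm (le_inf hC.le_normalizer hMSL) hHM)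
    · push Not at h
      obtain ⟨g, hg, i, j, hij, s, hgv, hs⟩ := h
      exact Or.inr (eq_SL_of_elementary ω hMSL hsurj (hRM (gS_mem ω)) hWM hg hij hs hgv)

end CfsgLib.Perm.Trans.FiveDim.Pauli
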