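import Cfsg.Agent.Lib.Perm.Trans.FiveDim.Pauli.Normal
import Cfsg.Agent.Lib.Perm.Asch.SymType
import Cfsg.Agent.Lib.Coprime.Solvable

/-!
# Absolutely irreducible groups of symplectic type and exponent five in dimension five

Such a group has order `125` and is a conjugate of the group generated by the frame `D`, `S`.
-/

set_option autoImplicit false
set_option linter.all false

namespace CfsgLib.Perm.Trans.FiveDim.Pauli

open scoped Matrix
open Matrix Cfsg.Geo

/-- commutators are central -/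
theorem commutator_central_of_exp_prime {r : ℕ} [Fact r.Prime] {G : Type*} [Group G] [Finite G] (hG : IsPGroup r G)
    (hsymp : ∀ A : Subgroup G, A.Characteristic → IsMulCommutative A → IsCyclic A)
    (hr : ∀ g : G, g ^ r = 1) : commutator G ≤ Subgroup.center G := by
  by_contra hle
  -- the second centre
  set Z := Subgroup.center G with hZ
  let π := QuotientGroup.mk' Z
  let Z2 : Subgroup G := (Subgroup.center (G ⧸ Z)).comap π
  haveI : Z2.Characteristic := by
    have := Subgroup.Characteristic.comap_quotient_mk (H := Z) (K := Subgroup.center (G ⧸ Z)) Subgroup.centerCharacteristic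
    exact this
  have hker : ∀ x ∈ Z2, ∀ c ∈ commutator G, c * x = x * c := by
    intro x hx
    have hc : ∀ g : G, x * g * x⁻¹ * g⁻¹ ∈ Z := fun g => by
      rw [← QuotientGroup.eq_one_iff]
      have h := Subgroup.mem_center_iff.1 hx (π g)
      show π (x * g * x⁻¹ * g⁻¹) = 1
      rw [map_mul, map_mul, map_mul, map_inv, map_inv, ← h, mul_inv_cancel_right, mul_inv_cancel]
    let φ : G →* Z :=
      { toFun := fun g => ⟨x * g * x⁻¹ * g⁻¹, hc g⟩
        map_one' := Subtype.ext (by simp)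
        map_mul' := fun g h => Subtype.ext (by
          show x * (g * h) * x⁻¹ * (g * h)⁻¹ = x * g * x⁻¹ * g⁻¹ * (x * h * x⁻¹ * h⁻¹)
          calc x * (g * h) * x⁻¹ * (g * h)⁻¹ = x * g * x⁻¹ * (x * h * x⁻¹ * h⁻¹) * g⁻¹ := by group
            _ = _ := by
              rw [mul_assoc (x * g * x⁻¹), ← Subgroup.mem_center_iff.1 (hc h) g⁻¹, ← mul_assoc]) }
    intro c hcm
    have h1 : φ c = 1 := by
      letI : CommGroup Z := { (inferInstance : Group Z) with mul_comm := fun u v => Subtype.ext (Subgroup.mem_center_iff.1 v.2 u) }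
      exact MonoidHom.mem_ker.1 (Abelianization.commutator_subset_ker φ hcm)
    have h2 : x * c * x⁻¹ * c⁻¹ = 1 := congrArg Subtype.val h1
    rw [mul_inv_eq_one, mul_inv_eq_iff_eq_mul] at h2
    exact h2.symm
  set A := commutator G ⊓ Z2 with hA
  haveI : A.Characteristic := by
    rw [Subgroup.characteristic_iff_map_eq]
    intro ψ
    rw [hA, Subgroup.map_inf_eq _ _ _ ψ.injective, Subgroup.characteristic_iff_map_eq.1 inferInstance ψ,
      Subgroup.characteristic_iff_map_eq.1 inferInstance ψ]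
  have hcyc : IsCyclic A := hsymp A inferInstance ⟨⟨fun a b => Subtype.ext (hker _ b.2.2 _ a.2.1)⟩⟩
  -- a noncentral element
  have hN : ((commutator G).map π).Normal := Subgroup.Normal.map inferInstance _ (QuotientGroup.mk'_surjective Z)
  obtain ⟨y, hy, hy1⟩ : ∃ y ∈ (commutator G).map π ⊓ Subgroup.center (G ⧸ Z), y ≠ 1 := by
    by_contra hno
    push Not at hno
    haveI := hN
    have hne : Nontrivial ((commutator G).map π) := by
      rw [Subgroup.nontrivial_iff_ne_bot, Ne, Subgroup.map_eq_bot_iff, QuotientGroup.ker_mk']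
      exact hle
    haveI := (hG.to_quotient Z).isNilpotent
    exact CfsgLib.Coprime.nilpotent_inf_center_ne_bot _ ((Subgroup.nontrivial_iff_ne_bot _).1 hne)
      ((Subgroup.eq_bot_iff_forall _).2 hno)
  obtain ⟨x, hx, rfl⟩ := hy.1
  have hxA : x ∈ A := ⟨hx, hy.2⟩
  have hxZ : x ∉ Z := fun h => hy1 ((QuotientGroup.eq_one_iff x).2 h)
  -- a central element
  obtain ⟨z, hz, hz1⟩ : ∃ z ∈ commutator G ⊓ Z, z ≠ 1 := by
    by_contra hno
    push Not at hno
    have hne : Nontrivial (commutator G) := by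
      rw [Subgroup.nontrivial_iff_ne_bot]
      exact fun e => hle (e ▸ bot_le)
    haveI := hG.isNilpotent
    exact CfsgLib.Coprime.nilpotent_inf_center_ne_bot _ ((Subgroup.nontrivial_iff_ne_bot _).1 hne)
      ((Subgroup.eq_bot_iff_forall _).2 hno)
  have hzA : z ∈ A := ⟨hz.1, Subgroup.mem_comap.2 (by
    rw [show π z = 1 from (QuotientGroup.eq_one_iff z).2 hz.2]; exact one_mem _)⟩
  haveI := hcyc
  obtain ⟨g, hg⟩ := IsCyclic.exists_generator (α := A)
  have hzne : (⟨z, hzA⟩ : A) ≠ 1 := fun e => hz1 (congrArg Subtype.val e)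
  have hgr : orderOf g = r := by
    rcases (Nat.dvd_prime Fact.out).1 (orderOf_dvd_of_pow_eq_one (show g ^ r = 1 from Subtype.ext (by
      rw [SubgroupClass.coe_pow]; exact hr _))) with h | h
    · exfalso
      have := hg ⟨z, hzA⟩
      rw [orderOf_eq_one_iff.1 h, Subgroup.zpowers_one_eq_bot, Subgroup.mem_bot] at this
      exact hzne this
    · exact h
  have hA' : Nat.card A = r := by rw [← hgr, orderOf_eq_card_of_forall_mem_zpowers hg]
  obtain ⟨n, hn⟩ := mem_powers_iff_mem_zpowers.2 (show (⟨x, hxA⟩ : A) ∈ Subgroup.zpowers (⟨z, hzA⟩ : A) from by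
    rw [zpowers_eq_top_of_prime_card hA' hzne]; exact Subgroup.mem_top _)
  exact hxZ (by
    rw [show x = z ^ n from (congrArg Subtype.val hn).symm]
    exact pow_mem hz.2 _)

variable {F : Type*} [Field F] [Fintype F]

local notation "M5" => Matrix (Fin 5) (Fin 5) F
local notation "G5" => GL (Fin 5) F

/-- the facts about the group used for the frame -/
theorem exists_pair {R : Subgroup G5} (hsymp : IsSymplecticTypeGroup 5 R)
    (habs : ActsAbsolutelyIrreducibly (matrixSet R)) (hZ : Nat.card (Subgroup.center R) = 5)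
    (hm : ∃ m : ℕ, 1 ≤ m ∧ Nat.card R = 5 ^ (1 + 2 * m)) :
    Nat.card R = 125 ∧ (∀ g ∈ R, g ^ 5 = 1) ∧
      ∃ a ∈ R, ∃ b ∈ R, ∃ c : F, c ^ 5 = 1 ∧ c ≠ 1 ∧ (a : M5) * (b : M5) = c • ((b : M5) * (a : M5)) := by
  classical
  haveI : Fact (Nat.Prime 5) := ⟨by norm_num⟩
  obtain ⟨m, hm1, hR⟩ := hm
  haveI : Finite R := Nat.finite_of_card_ne_zero (by rw [hR]; positivity)
  have h5 : ∀ g : R, g ^ 5 = 1 := fun g => by
    have := Monoid.pow_exponent_eq_one g
    rwa [hsymp.exponent_eq, show 5 * Nat.gcd 2 5 = 5 by rfl] at this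
  have hcen := commutator_central_of_exp_prime hsymp.pGroup hsymp.cyclic_of_characteristic h5
  have hscal : ∀ z : R, z ∈ Subgroup.center R → ∃ c : F, ((z : G5) : M5) = c • 1 := fun z hz => habs.2 _ (by
    rintro _ ⟨y, hy, rfl⟩
    have := congrArg (fun w : R => ((w : G5) : M5)) (Subgroup.mem_center_iff.1 hz ⟨y, hy⟩)
    simpa using this.symm)
  have hex : ∀ (x j : R), ∃ c : F, (((x * j * x⁻¹ * j⁻¹ : R) : G5) : M5) = c • 1 := fun x j => hscal _ (hcen (by
    rw [commutator_def, ← commutatorElement_def]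
    exact Subgroup.commutator_mem_commutator (Subgroup.mem_top _) (Subgroup.mem_top _)))
  choose l hl using hex
  have hswap : ∀ x j : R, ((x : G5) : M5) * (j : G5) = l x j • (((j : G5) : M5) * (x : G5)) := fun x j => by
    have h := congrArg (fun A => A * (((j : G5) : M5) * (x : G5))) (hl x j)
    rw [Matrix.smul_mul, one_mul] at h
    rw [← h, ← Units.val_mul, ← Units.val_mul, ← Units.val_mul]
    exact congrArg Units.val (by rw [Subgroup.coe_mul, Subgroup.coe_mul, Subgroup.coe_mul, Subgroup.coe_inv, Subgroup.coe_inv]; group)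
  have h125 : Nat.card R = 125 := by
    let v : R ⧸ Subgroup.center R → M5 := fun q => ((q.out : G5) : M5)
    let T : R → M5 →ₗ[F] M5 := fun x =>
      (LinearMap.mulLeft F ((x : G5) : M5)) ∘ₗ (LinearMap.mulRight F (((x : G5)⁻¹ : G5) : M5))
    have he : ∀ x j, T x (v j) = l x j.out • v j := fun x j => by
      show ((x : G5) : M5) * (((j.out : R) : G5) * (((x : G5)⁻¹ : G5) : M5)) = _
      rw [← mul_assoc, hswap, Matrix.smul_mul, mul_assoc, Units.mul_inv, mul_one]
    have hind : LinearIndependent F v := CfsgLib.Perm.Asch.indep_of_eigen v (fun j => Units.ne_zero _) T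
        (fun x j => l x j.out) he fun j k hjk => by
      by_contra hcon
      push Not at hcon
      refine hjk ?_
      rw [← QuotientGroup.out_eq' j, ← QuotientGroup.out_eq' k, QuotientGroup.eq, Subgroup.mem_center_iff]
      intro x
      have heq : x * j.out * x⁻¹ * j.out⁻¹ = x * k.out * x⁻¹ * k.out⁻¹ := Subtype.ext (Units.ext (by
        rw [hl, hl, hcon]))
      have e : x * (j.out⁻¹ * k.out) * x⁻¹ = j.out⁻¹ * k.out := by
        calc x * (j.out⁻¹ * k.out) * x⁻¹ = (x * j.out * x⁻¹)⁻¹ * (x * k.out * x⁻¹) := by group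
          _ = ((x * j.out * x⁻¹ * j.out⁻¹) * j.out)⁻¹ * ((x * k.out * x⁻¹ * k.out⁻¹) * k.out) := by group
          _ = _ := by rw [heq]; group
      exact mul_inv_eq_iff_eq_mul.1 e
    haveI : Fintype (R ⧸ Subgroup.center R) := Fintype.ofFinite _
    have hle := hind.fintype_card_le_finrank
    rw [Module.finrank_matrix, Module.finrank_self, Fintype.card_fin] at hle
    have hcq := Nat.card_eq_fintype_card (α := R ⧸ Subgroup.center R)
    have hcardR := Subgroup.card_eq_card_quotient_mul_card_subgroup (Subgroup.center R)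
    rw [hZ, hR] at hcardR
    rcases Nat.lt_or_ge m 2 with h | h
    · obtain rfl : m = 1 := by omega
      rw [hR]; norm_num
    · have : 5 ^ 5 ≤ 5 ^ (1 + 2 * m) := Nat.pow_le_pow_right (by norm_num) (by omega)
      norm_num at this hle
      omega
  refine ⟨h125, fun g hg => congrArg Subtype.val (h5 ⟨g, hg⟩), ?_⟩
  obtain ⟨a, b, hab⟩ : ∃ a b : R, a * b ≠ b * a := by
    by_contra h
    push Not at h
    have htop : Subgroup.center R = ⊤ := eq_top_iff.2 fun u _ => Subgroup.mem_center_iff.2 fun w => (h u w).symm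
    rw [htop, Subgroup.card_top, h125] at hZ
    norm_num at hZ
  refine ⟨a, a.2, b, b.2, l a b, ?_, fun e => hab (Subtype.ext (Units.ext ?_)), hswap a b⟩
  · have h := congrArg (fun w : R => ((w : G5) : M5)) (h5 (a * b * a⁻¹ * b⁻¹))
    simp only [SubgroupClass.coe_pow, Units.val_pow_eq_pow_val, hl, smul_pow, one_pow, Subgroup.coe_one,
      Units.val_one] at h
    simpa using congrFun (congrFun h 0) 0
  · simpa [e] using hswap a b

/-- a pair commuting up to a primitive fifth root of unity has the shape `D`, `S` in some basis -/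
theorem exists_conj_frame {R : Subgroup G5} (h125 : Nat.card R = 125) (hexp : ∀ g ∈ R, g ^ 5 = 1) {a b : G5}
    (ha : a ∈ R) (hb : b ∈ R) {c : F} (hc5 : c ^ 5 = 1) (hc1 : c ≠ 1)
    (hab : (a : M5) * (b : M5) = c • ((b : M5) * (a : M5))) :
    ∃ B D S : G5, (D : M5) = dm c ∧ (S : M5) = sm ∧ a * B = B * D ∧ b * B = B * S ∧
      R = (Subgroup.closure {D, S}).map (MulAut.conj B).toMonoidHom := by
  classical
  haveI : Fact (Nat.Prime 5) := ⟨by norm_num⟩
  have h5 : (5 : F) ≠ 0 := fun h => hc1 (by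
    have hz : (c - 1) ^ 5 = 0 := by linear_combination hc5 + (-c ^ 4 + 2 * c ^ 3 - 2 * c ^ 2 + c) * h
    exact sub_eq_zero.1 (pow_eq_zero_iff (by norm_num) |>.1 hz))
  have hμ : IsPrimitiveRoot c 5 := by
    have h := IsPrimitiveRoot.orderOf c
    rwa [orderOf_eq_prime hc5 hc1] at h
  obtain ⟨v, hv0, hv⟩ := CfsgLib.Perm.Asch.exists_eigen (by norm_num : 0 < 5) hμ (by exact_mod_cast h5) {a}
    (fun x hx => by rw [Finset.mem_singleton.1 hx]; exact hexp a ha)
    (fun x hx z hz => by rw [Finset.mem_singleton.1 hx, Finset.mem_singleton.1 hz])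
  obtain ⟨k, hk⟩ := hv a (Finset.mem_singleton_self a)
  have hshift : ∀ (w : Fin 5 → F) (i j : ℕ), (a : M5) *ᵥ w = c ^ j • w →
      (a : M5) *ᵥ ((b : M5) ^ i *ᵥ w) = c ^ (j + i) • ((b : M5) ^ i *ᵥ w) := by
    intro w i j hw
    induction i with
    | zero => simpa using hw
    | succ i ih =>
      rw [pow_succ', ← mulVec_mulVec, mulVec_mulVec _ (a : M5), hab, smul_mulVec, ← mulVec_mulVec, ih, mulVec_smul,
        smul_smul, ← pow_succ', add_assoc]
  obtain ⟨v0, hv00, hv0a⟩ : ∃ v0 : Fin 5 → F, v0 ≠ 0 ∧ (a : M5) *ᵥ v0 = v0 := by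
    refine ⟨(b : M5) ^ (4 * k) *ᵥ v, fun e => hv0 ?_, ?_⟩
    · have := congrArg (fun w => (((b ^ (4 * k))⁻¹ : G5) : M5) *ᵥ w) e
      simpa [mulVec_mulVec, ← Units.val_pow_eq_pow_val] using this
    · rw [hshift v (4 * k) k hk, show k + 4 * k = 5 * k by ring, pow_mul, hc5, one_pow, one_smul]
  let e : Fin 5 → Fin 5 → F := fun i => (b : M5) ^ (i : ℕ) *ᵥ v0
  have hea : ∀ i, (a : M5) *ᵥ e i = c ^ (i : ℕ) • e i := fun i => by
    have := hshift v0 (i : ℕ) 0 (by simpa using hv0a)
    rw [zero_add] at this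
    exact this
  have hb5 : (b : M5) ^ 5 = 1 := by rw [← Units.val_pow_eq_pow_val, hexp b hb, Units.val_one]
  have heb : ∀ i : Fin 5, (b : M5) *ᵥ e i = e (i + 1) := fun i => by
    simp only [e, mulVec_mulVec, ← pow_succ']
    fin_cases i <;> simp [hb5]
  have he0 : ∀ i, e i ≠ 0 := fun i h => hv00 (by
    have := congrArg (fun w => (((b ^ (i : ℕ))⁻¹ : G5) : M5) *ᵥ w) h
    simpa [e, mulVec_mulVec, ← Units.val_pow_eq_pow_val] using this)
  have hind : LinearIndependent F e := CfsgLib.Perm.Asch.indep_of_eigen e he0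
    (fun _ : Unit => Matrix.toLin' (a : M5)) (fun _ i => c ^ (i : ℕ)) (fun _ i => by simpa using hea i)
    fun i j hij => ⟨(), fun h => hij (Fin.ext (hμ.pow_inj i.2 j.2 h))⟩
  obtain ⟨B, hB⟩ : ∃ B : G5, (B : M5) = Matrix.of fun i j => e j i :=
    Matrix.linearIndependent_cols_iff_isUnit.1 (show LinearIndependent F (Matrix.of fun i j => e j i).col from hind)
  have hD : (a : M5) * B = B * dm c := by
    rw [hB]
    ext i j
    have := congrFun (hea j) i
    simp only [mulVec, dotProduct, Pi.smul_apply, smul_eq_mul] at this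
    rw [Matrix.mul_apply, dm, Matrix.mul_diagonal]
    simp only [Matrix.of_apply]
    rw [this]
    fin_cases j <;> simp <;> ring
  have hS : (b : M5) * (B : M5) = (B : M5) * sm := by
    rw [hB]
    ext i j
    have := congrFun (heb j) i
    simp only [mulVec, dotProduct] at this
    rw [Matrix.mul_apply, Matrix.mul_apply]
    simp only [Matrix.of_apply]
    rw [this]
    fin_cases j <;> simp [sm, Fin.sum_univ_five]
  refine ⟨B, B⁻¹ * a * B, B⁻¹ * b * B, ?_, ?_, by group, by group, ?_⟩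
  · rw [Units.val_mul, Units.val_mul, mul_assoc, hD, ← mul_assoc, Units.inv_mul, one_mul]
  · rw [Units.val_mul, Units.val_mul, mul_assoc, hS, ← mul_assoc, Units.inv_mul, one_mul]
  rw [MonoidHom.map_closure, Set.image_pair, show (MulAut.conj B).toMonoidHom (B⁻¹ * a * B) = a from by
      simp [mul_assoc], show (MulAut.conj B).toMonoidHom (B⁻¹ * b * B) = b from by simp [mul_assoc]]
  refine le_antisymm ?_ ((Subgroup.closure_le _).2 (by simp [Set.insert_subset_iff, ha, hb]))
  obtain ⟨K, hK⟩ : ∃ K, K = Subgroup.closure ({a, b} : Set G5) := ⟨_, rfl⟩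
  have hKR : K ≤ R := hK ▸ (Subgroup.closure_le _).2 (by simp [Set.insert_subset_iff, ha, hb])
  obtain ⟨j, hj3, hj⟩ := (Nat.dvd_prime_pow (Fact.out : Nat.Prime 5)).1
    (show Nat.card K ∣ 5 ^ 3 from (show (5 : ℕ) ^ 3 = Nat.card R by rw [h125]; norm_num) ▸ Subgroup.card_dvd_of_le hKR)
  rw [← hK]
  haveI : Finite R := Nat.finite_of_card_ne_zero (by omega)
  haveI : Finite K := Finite.of_injective _ (Subgroup.inclusion_injective hKR)
  rcases Nat.lt_or_ge j 3 with h3 | h3
  · exfalso
    have hcomm : ∀ u w : K, u * w = w * u := by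
      interval_cases j
      · intro u w
        haveI := (Nat.card_eq_one_iff_unique.1 (hj.trans (pow_zero 5))).1
        exact Subsingleton.elim _ _
      · haveI := isCyclic_of_prime_card (α := K) (p := 5) (hj.trans (pow_one 5))
        exact fun u w => (IsCyclic.commGroup (α := K)).mul_comm u w
      · haveI := IsPGroup.isMulCommutative_of_card_eq_prime_sq (G := K) hj
        exact fun u w => mul_comm' u w
    have h := congrArg (fun z : K => ((z : G5) : M5))
      (hcomm ⟨a, hK ▸ Subgroup.subset_closure (Set.mem_insert _ _)⟩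
        ⟨b, hK ▸ Subgroup.subset_closure (Set.mem_insert_of_mem _ rfl)⟩)
    simp only [Subgroup.coe_mul, Units.val_mul] at h
    rw [hab] at h
    have hne : ((b : M5) * a) ≠ 0 := by rw [← Units.val_mul]; exact Units.ne_zero _
    obtain ⟨i, l, hil⟩ : ∃ i l, ((b : M5) * a) i l ≠ 0 := by
      by_contra hcon; push Not at hcon; exact hne (Matrix.ext hcon)
    have := congrFun (congrFun h i) l
    rw [Matrix.smul_apply, smul_eq_mul] at this
    exact hc1 (mul_right_cancel₀ hil (this.trans (one_mul _).symm))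
  · exact le_of_eq (Subgroup.eq_of_le_of_card_ge hKR (by rw [h125, hj, show j = 3 by omega]; norm_num)).symm

/-- the group is a conjugate of the standard frame -/
theorem exists_frame (h2 : (2 : F) ≠ 0) {R : Subgroup G5} (hdata : IsLinearSymplecticTypeData 5 R) :
    ∃ (ω : Root F) (B : G5), R = (gR ω).map (MulAut.conj B).toMonoidHom := by
  obtain ⟨hsymp, habs, p, e, -, -, hcases⟩ := hdata
  obtain ⟨hZ, hm⟩ : Nat.card (Subgroup.center R) = 5 ∧ ∃ m : ℕ, 1 ≤ m ∧ Nat.card R = 5 ^ (1 + 2 * m) := by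
    rcases hcases with ⟨-, -, hZ, hm⟩ | ⟨h, -⟩ | ⟨h, -⟩
    · exact ⟨hZ, hm⟩
    · omega
    · omega
  obtain ⟨h125, hexp, a, ha, b, hb, c, hc5, hc1, hab⟩ := exists_pair hsymp habs hZ hm
  have h5 : (5 : F) ≠ 0 := fun h => hc1 (by
    have hz : (c - 1) ^ 5 = 0 := by linear_combination hc5 + (-c ^ 4 + 2 * c ^ 3 - 2 * c ^ 2 + c) * h
    exact sub_eq_zero.1 (pow_eq_zero_iff (by norm_num) |>.1 hz))
  have hcyc : c ^ 4 + c ^ 3 + c ^ 2 + c + 1 = 0 :=
    (mul_eq_zero.1 (show (c - 1) * (c ^ 4 + c ^ 3 + c ^ 2 + c + 1) = 0 by linear_combination hc5)).resolve_left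
      (sub_ne_zero.2 hc1)
  let ω : Root F := ⟨c, hcyc, h5, h2⟩
  obtain ⟨B, D, S, hD, hS, -, -, hR⟩ := exists_conj_frame h125 hexp ha hb hc5 hc1 hab
  refine ⟨ω, B, ?_⟩
  rw [hR, gR, show gD ω = D from Units.ext hD.symm, show gS ω = S from Units.ext hS.symm]

end CfsgLib.Perm.Trans.FiveDim.Pauli
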