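import Mathlib

/-!
# The standard frame of the extraspecial group of order 125 in five dimensions

The matrices of the frame `D`, `S` and of four elements of its normaliser: the parity `T`, the
quadratic phase `Q`, the doubling `W` and the Fourier matrix `P`.  Matrices commuting with the parity
are described by their parts of sizes three and two.
-/

set_option autoImplicit false
set_option linter.all false

namespace CfsgLib.Perm.Trans.FiveDim.Pauli

open Matrix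

variable {F : Type*} [Field F]

/-- `μ` is a primitive fifth root of unity, the characteristic is neither two nor five -/
structure Root (F : Type*) [Field F] where
  μ : F
  eq : μ ^ 4 + μ ^ 3 + μ ^ 2 + μ + 1 = 0
  five : (5 : F) ≠ 0
  two : (2 : F) ≠ 0

variable (ω : Root F)

theorem Root.pow5 : ω.μ ^ 5 = 1 := by linear_combination (ω.μ - 1) * ω.eq

theorem Root.ne_zero : ω.μ ≠ 0 := fun h => by
  have := ω.eq
  simp [h] at this

theorem Root.ne_one : ω.μ ≠ 1 := fun h => ω.five (by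
  have := ω.eq
  rw [h] at this
  linear_combination this)

theorem Root.pow_ne_one {k : ℕ} (hk : k % 5 ≠ 0) : ω.μ ^ k ≠ 1 := fun h => ω.ne_one (by
  have h' : ω.μ ^ (k % 5) = 1 := by rw [← h]; exact (pow_eq_pow_mod k ω.pow5).symm
  have := Nat.mod_lt k (show 5 > 0 by norm_num)
  interval_cases k % 5
  · exact absurd rfl hk
  · simpa using h'
  · linear_combination ω.pow5 - (ω.μ ^ 2 + 1) * ω.μ * h'
  · linear_combination -ω.pow5 * ω.μ + (ω.μ ^ 3 + 1) * h'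
  · linear_combination ω.pow5 - ω.μ * h')

theorem Root.pow_mod (k : ℕ) : ω.μ ^ k = ω.μ ^ (k % 5) := pow_eq_pow_mod k ω.pow5

/-- the square root of five -/
def Root.η : F := ω.μ - ω.μ ^ 2 - ω.μ ^ 3 + ω.μ ^ 4

theorem Root.η_sq : ω.η * ω.η = 5 := by
  simp only [Root.η]
  linear_combination (ω.μ ^ 4 - 3 * ω.μ ^ 3 + ω.μ ^ 2 + 5 * ω.μ - 5) * ω.eq

theorem Root.η_ne_zero : ω.η ≠ 0 := fun h => ω.five (by
  have := ω.η_sq
  rw [h] at this
  linear_combination -this)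

/-- a Gauss period -/
def Root.γ1 : F := ω.μ + ω.μ ^ 4

/-- the other Gauss period -/
def Root.γ2 : F := ω.μ ^ 2 + ω.μ ^ 3

theorem Root.γ_add : ω.γ1 + ω.γ2 = -1 := by
  simp only [Root.γ1, Root.γ2]; linear_combination ω.eq

theorem Root.γ_mul : ω.γ1 * ω.γ2 = -1 := by
  simp only [Root.γ1, Root.γ2]; linear_combination (ω.μ ^ 3 - ω.μ + 1) * ω.eq

theorem Root.γ_sub : ω.γ1 - ω.γ2 = ω.η := by
  simp only [Root.γ1, Root.γ2, Root.η]; ring

/-! ### The matrices -/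

/-- `diag(1, c, c², c³, c⁴)` -/
def dm (c : F) : Matrix (Fin 5) (Fin 5) F := Matrix.diagonal ![1, c, c ^ 2, c ^ 3, c ^ 4]

/-- the cyclic shift -/
def sm : Matrix (Fin 5) (Fin 5) F :=
  !![0, 0, 0, 0, 1; 1, 0, 0, 0, 0; 0, 1, 0, 0, 0; 0, 0, 1, 0, 0; 0, 0, 0, 1, 0]

/-- the parity -/
def tm : Matrix (Fin 5) (Fin 5) F :=
  !![1, 0, 0, 0, 0; 0, 0, 0, 0, 1; 0, 0, 0, 1, 0; 0, 0, 1, 0, 0; 0, 1, 0, 0, 0]

/-- minus the doubling -/
def wm : Matrix (Fin 5) (Fin 5) F :=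
  !![-1, 0, 0, 0, 0; 0, 0, 0, -1, 0; 0, -1, 0, 0, 0; 0, 0, 0, 0, -1; 0, 0, -1, 0, 0]

/-- quadratic phases -/
def qd (c : F) : Matrix (Fin 5) (Fin 5) F := Matrix.diagonal ![1, c, c ^ 4, c ^ 4, c]

/-- the Fourier matrix -/
def fm : Matrix (Fin 5) (Fin 5) F :=
  (-ω.η⁻¹) • !![1, 1, 1, 1, 1;
    1, ω.μ, ω.μ ^ 2, ω.μ ^ 3, ω.μ ^ 4;
    1, ω.μ ^ 2, ω.μ ^ 4, ω.μ, ω.μ ^ 3;
    1, ω.μ ^ 3, ω.μ, ω.μ ^ 4, ω.μ ^ 2;
    1, ω.μ ^ 4, ω.μ ^ 3, ω.μ ^ 2, ω.μ]

theorem dm_mul (a b : F) : dm a * dm b = dm (a * b) := by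
  rw [dm, dm, dm, Matrix.diagonal_mul_diagonal]
  congr 1
  funext i
  fin_cases i <;> simp [mul_pow]

theorem dm_one : dm (1 : F) = 1 := by
  rw [dm, ← Matrix.diagonal_one]
  congr 1
  funext i
  fin_cases i <;> simp

theorem qd_mul (a b : F) : qd a * qd b = qd (a * b) := by
  rw [qd, qd, qd, Matrix.diagonal_mul_diagonal]
  congr 1
  funext i
  fin_cases i <;> simp [mul_pow]

theorem qd_one : qd (1 : F) = 1 := by
  rw [qd, ← Matrix.diagonal_one]
  congr 1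
  funext i
  fin_cases i <;> simp

theorem qd_comm_dm (a b : F) : qd a * dm b = dm b * qd a := by
  rw [qd, dm, Matrix.diagonal_mul_diagonal, Matrix.diagonal_mul_diagonal]
  simp only [mul_comm]

theorem dm_mul_sm : dm ω.μ * sm = ω.μ • (sm * dm ω.μ) := by
  have h5 := ω.pow5
  ext i j
  fin_cases i <;> fin_cases j <;>
    simp [dm, sm, Matrix.mul_apply, Matrix.diagonal_apply, Matrix.vecMul_diagonal, Fin.sum_univ_five] <;> grind

theorem qd_mul_sm : qd ω.μ * sm = ω.μ • (sm * dm (ω.μ ^ 2) * qd ω.μ) := by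
  have h5 := ω.pow5
  ext i j
  fin_cases i <;> fin_cases j <;>
    simp [qd, dm, sm, Matrix.mul_apply, Matrix.diagonal_apply, Matrix.vecMul_diagonal, Fin.sum_univ_five] <;> grind

theorem wm_mul_dm : wm * dm ω.μ = dm (ω.μ ^ 3) * wm := by
  have h5 := ω.pow5
  ext i j
  fin_cases i <;> fin_cases j <;>
    simp [wm, dm, Matrix.mul_apply, Matrix.diagonal_apply, Matrix.vecMul_diagonal, Fin.sum_univ_five] <;> grind

theorem wm_mul_sm : wm * (sm : Matrix (Fin 5) (Fin 5) F) = sm * sm * wm := by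
  ext i j
  fin_cases i <;> fin_cases j <;> simp [wm, sm, Matrix.mul_apply, Fin.sum_univ_five]

theorem wm_sq : wm * (wm : Matrix (Fin 5) (Fin 5) F) = tm := by
  ext i j
  fin_cases i <;> fin_cases j <;> simp [wm, tm, Matrix.mul_apply, Fin.sum_univ_five]

theorem tm_sq : tm * (tm : Matrix (Fin 5) (Fin 5) F) = 1 := by
  ext i j
  fin_cases i <;> fin_cases j <;> simp [tm, Matrix.mul_apply, Fin.sum_univ_five]

theorem wm_mul_qd : wm * qd ω.μ = qd (ω.μ ^ 4) * wm := by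
  have h5 := ω.pow5
  ext i j
  fin_cases i <;> fin_cases j <;>
    simp [wm, qd, Matrix.mul_apply, Matrix.diagonal_apply, Matrix.vecMul_diagonal, Fin.sum_univ_five] <;> grind

theorem sm_fm_dm : sm * (fm ω * dm ω.μ) = fm ω := by
  have h5 := ω.pow5
  rw [fm, Matrix.smul_mul, Matrix.mul_smul]
  congr 1
  ext i j
  fin_cases i <;> fin_cases j <;>
    simp [sm, dm, Matrix.mul_apply, Matrix.diagonal_apply, Matrix.vecMul_diagonal, Fin.sum_univ_five] <;> grind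

theorem fm_mul_sm : fm ω * sm = dm ω.μ * fm ω := by
  have h5 := ω.pow5
  rw [fm, Matrix.smul_mul, Matrix.mul_smul]
  congr 1
  ext i j
  fin_cases i <;> fin_cases j <;>
    simp [sm, dm, Matrix.mul_apply, Matrix.diagonal_apply, Matrix.vecMul_diagonal, Fin.sum_univ_five] <;> grind

theorem fm_sq : fm ω * fm ω = tm := by
  have h := ω.η_sq
  have he := ω.eq
  have h5 := ω.five
  rw [fm, Matrix.smul_mul, Matrix.mul_smul, smul_smul, neg_mul_neg, ← mul_inv, h]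
  ext i j
  fin_cases i <;> fin_cases j <;>
    simp [tm, Matrix.mul_apply, Fin.sum_univ_five] <;> field_simp <;> grind [ω.pow5]

/-! ### The parts of sizes three and two -/

/-- symmetric under the parity -/
def Sym (g : Matrix (Fin 5) (Fin 5) F) : Prop := ∀ i j : Fin 5, g (-i) (-j) = g i j

/-- the part on the sums -/
def Am (g : Matrix (Fin 5) (Fin 5) F) : Matrix (Fin 3) (Fin 3) F :=
  !![g 0 0, g 0 1 + g 0 4, g 0 2 + g 0 3;
    g 1 0, g 1 1 + g 1 4, g 1 2 + g 1 3;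
    g 2 0, g 2 1 + g 2 4, g 2 2 + g 2 3]

/-- the part on the differences -/
def Bm (g : Matrix (Fin 5) (Fin 5) F) : Matrix (Fin 2) (Fin 2) F :=
  !![g 1 1 - g 1 4, g 1 2 - g 1 3; g 2 1 - g 2 4, g 2 2 - g 2 3]

theorem tm_mul_apply (g : Matrix (Fin 5) (Fin 5) F) (i j : Fin 5) : ((tm : Matrix (Fin 5) (Fin 5) F) * g) i j = g (-i) j := by
  fin_cases i <;> simp [tm, Matrix.mul_apply, Fin.sum_univ_five] <;> rfl

theorem mul_tm_apply (g : Matrix (Fin 5) (Fin 5) F) (i j : Fin 5) : (g * (tm : Matrix (Fin 5) (Fin 5) F)) i j = g i (-j) := by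
  fin_cases j <;> simp [tm, Matrix.mul_apply, Fin.sum_univ_five] <;> rfl

theorem sym_of_comm {g : Matrix (Fin 5) (Fin 5) F} (h : g * tm = tm * g) : Sym g := fun i j => by
  have := congrFun (congrFun h i) (-j)
  rw [tm_mul_apply, mul_tm_apply, neg_neg] at this
  exact this.symm

theorem comm_of_sym {g : Matrix (Fin 5) (Fin 5) F} (h : Sym g) : g * tm = tm * g := by
  ext i j
  rw [tm_mul_apply, mul_tm_apply, ← h i (-j), neg_neg]

theorem Sym.vals {g : Matrix (Fin 5) (Fin 5) F} (h : Sym g) :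
    g 0 4 = g 0 1 ∧ g 0 3 = g 0 2 ∧ g 4 0 = g 1 0 ∧ g 3 0 = g 2 0 ∧ g 4 4 = g 1 1 ∧ g 4 1 = g 1 4 ∧
      g 4 3 = g 1 2 ∧ g 4 2 = g 1 3 ∧ g 3 4 = g 2 1 ∧ g 3 1 = g 2 4 ∧ g 3 3 = g 2 2 ∧ g 3 2 = g 2 3 :=
  ⟨h 0 1, h 0 2, h 1 0, h 2 0, h 1 1, h 1 4, h 1 2, h 1 3, h 2 1, h 2 4, h 2 2, h 2 3⟩

theorem Am_mul (g : Matrix (Fin 5) (Fin 5) F) {h : Matrix (Fin 5) (Fin 5) F} (hh : Sym h) :
    Am (g * h) = Am g * Am h := by
  obtain ⟨a, b, c, d, e, f, k, l, m, n, o, q⟩ := hh.vals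
  ext i j
  fin_cases i <;> fin_cases j <;>
    simp [Am, Matrix.mul_apply, Fin.sum_univ_five, Fin.sum_univ_three, a, b, c, d, e, f, k, l, m, n, o, q] <;> ring

theorem Bm_mul (g : Matrix (Fin 5) (Fin 5) F) {h : Matrix (Fin 5) (Fin 5) F} (hh : Sym h) :
    Bm (g * h) = Bm g * Bm h := by
  obtain ⟨a, b, c, d, e, f, k, l, m, n, o, q⟩ := hh.vals
  ext i j
  fin_cases i <;> fin_cases j <;>
    simp [Bm, Matrix.mul_apply, Fin.sum_univ_five, Fin.sum_univ_two, a, b, c, d, e, f, k, l, m, n, o, q] <;> ring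

theorem Am_one : Am (1 : Matrix (Fin 5) (Fin 5) F) = 1 := by
  ext i j
  fin_cases i <;> fin_cases j <;> simp [Am]

theorem Bm_one : Bm (1 : Matrix (Fin 5) (Fin 5) F) = 1 := by
  ext i j
  fin_cases i <;> fin_cases j <;> simp [Bm]

theorem eq_of_parts (h2 : (2 : F) ≠ 0) {g h : Matrix (Fin 5) (Fin 5) F} (hg : Sym g) (hh : Sym h)
    (hA : Am g = Am h) (hB : Bm g = Bm h) : g = h := by
  obtain ⟨a, b, c, d, e, f, k, l, m, n, o, q⟩ := hg.vals
  obtain ⟨a', b', c', d', e', f', k', l', m', n', o', q'⟩ := hh.vals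
  have h' : ∀ x : F, 2 * x = 0 → x = 0 := fun x hx => (mul_eq_zero.1 hx).resolve_left h2
  have A := fun i j => congrFun (congrFun hA i) j
  have B := fun i j => congrFun (congrFun hB i) j
  have a00 := A 0 0
  have a01 := A 0 1
  have a02 := A 0 2
  have a10 := A 1 0
  have a11 := A 1 1
  have a12 := A 1 2
  have a20 := A 2 0
  have a21 := A 2 1
  have a22 := A 2 2
  have b00 := B 0 0
  have b01 := B 0 1
  have b10 := B 1 0
  have b11 := B 1 1
  simp [Am] at a00 a01 a02 a10 a11 a12 a20 a21 a22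
  simp [Bm] at b00 b01 b10 b11
  ext i j
  fin_cases i <;> fin_cases j <;> simp [a, b, c, d, e, f, k, l, m, n, o, q, a', b', c', d', e', f', k', l', m', n', o', q'] <;> grind

theorem Am_qd (c : F) : Am (qd c) = Matrix.diagonal ![1, c, c ^ 4] := by
  ext i j
  fin_cases i <;> fin_cases j <;> simp [Am, qd]

theorem Bm_qd (c : F) : Bm (qd c) = Matrix.diagonal ![c, c ^ 4] := by
  ext i j
  fin_cases i <;> fin_cases j <;> simp [Bm, qd]

theorem Am_wm : Am (wm : Matrix (Fin 5) (Fin 5) F) = !![-1, 0, 0; 0, 0, -1; 0, -1, 0] := by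
  ext i j
  fin_cases i <;> fin_cases j <;> simp [Am, wm]

theorem Bm_wm : Bm (wm : Matrix (Fin 5) (Fin 5) F) = !![0, 1; -1, 0] := by
  ext i j
  fin_cases i <;> fin_cases j <;> simp [Bm, wm]

theorem Am_tm : Am (tm : Matrix (Fin 5) (Fin 5) F) = 1 := by
  ext i j
  fin_cases i <;> fin_cases j <;> simp [Am, tm]

theorem Bm_tm : Bm (tm : Matrix (Fin 5) (Fin 5) F) = -1 := by
  ext i j
  fin_cases i <;> fin_cases j <;> simp [Bm, tm]

theorem Am_fm : Am (fm ω) = (-ω.η⁻¹) • !![1, 2, 2; 1, ω.γ1, ω.γ2; 1, ω.γ2, ω.γ1] := by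
  ext i j
  fin_cases i <;> fin_cases j <;> simp [Am, fm, Root.γ1, Root.γ2] <;> ring

theorem Bm_fm : Bm (fm ω) = (-ω.η⁻¹) • !![ω.μ - ω.μ ^ 4, ω.μ ^ 2 - ω.μ ^ 3; ω.μ ^ 2 - ω.μ ^ 3, ω.μ ^ 4 - ω.μ] := by
  ext i j
  fin_cases i <;> fin_cases j <;> simp [Bm, fm] <;> ring

theorem sym_qd (c : F) : Sym (qd c) := by
  intro i j
  fin_cases i <;> fin_cases j <;> simp [qd, Matrix.diagonal_apply] <;> rfl

theorem sym_wm : Sym (wm : Matrix (Fin 5) (Fin 5) F) := by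
  refine sym_of_comm ?_
  rw [← wm_sq, mul_assoc]

theorem sym_fm : Sym (fm ω) := by
  refine sym_of_comm ?_
  rw [← fm_sq ω, mul_assoc]

theorem sym_tm : Sym (tm : Matrix (Fin 5) (Fin 5) F) := sym_of_comm rfl

/-- the sums and the differences as a basis -/
def basisMat : Matrix (Fin 5) (Fin 5) F :=
  !![1, 0, 0, 0, 0; 0, 1, 0, 1, 0; 0, 0, 1, 0, 1; 0, 0, 1, 0, -1; 0, 1, 0, -1, 0]

theorem basisMat_det_ne_zero (h2 : (2 : F) ≠ 0) : (basisMat : Matrix (Fin 5) (Fin 5) F).det ≠ 0 := by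
  intro h
  obtain ⟨v, hv0, hv⟩ := Matrix.exists_mulVec_eq_zero_iff.2 h
  have h' : ∀ i, (basisMat *ᵥ v) i = 0 := fun i => by rw [hv]; rfl
  have e0 := h' 0
  have e1 := h' 1
  have e2 := h' 2
  have e3 := h' 3
  have e4 := h' 4
  simp [basisMat, Matrix.mulVec, dotProduct, Fin.sum_univ_five] at e0 e1 e2 e3 e4
  refine hv0 (funext fun i => ?_)
  fin_cases i <;> simp <;> grind

/-- two blocks -/
def blk (A : Matrix (Fin 3) (Fin 3) F) (B : Matrix (Fin 2) (Fin 2) F) : Matrix (Fin 5) (Fin 5) F :=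
  (Matrix.fromBlocks A 0 0 B).submatrix (finSumFinEquiv (m := 3) (n := 2)).symm (finSumFinEquiv (m := 3) (n := 2)).symm

theorem mul_basisMat {g : Matrix (Fin 5) (Fin 5) F} (h : Sym g) : g * basisMat = basisMat * blk (Am g) (Bm g) := by
  obtain ⟨a, b, c, d, e, f, k, l, m, n, o, q⟩ := h.vals
  ext i j
  fin_cases i <;> fin_cases j <;>
    simp [basisMat, blk, Am, Bm, Matrix.mul_apply, Fin.sum_univ_five, finSumFinEquiv, Fin.addCases,
      a, b, c, d, e, f, k, l, m, n, o, q] <;> ring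

theorem det_parts (h2 : (2 : F) ≠ 0) {g : Matrix (Fin 5) (Fin 5) F} (h : Sym g) :
    g.det = (Am g).det * (Bm g).det := by
  have := congrArg Matrix.det (mul_basisMat h)
  rw [Matrix.det_mul, Matrix.det_mul, blk, Matrix.det_submatrix_equiv_self, Matrix.det_fromBlocks_zero₂₁,
    mul_comm g.det] at this
  exact mul_left_cancel₀ (basisMat_det_ne_zero h2) this

theorem det_qd {c : F} (hc : c ^ 5 = 1) : (qd c).det = 1 := by
  rw [qd, Matrix.det_diagonal, Fin.prod_univ_five]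
  simp
  linear_combination (c ^ 5 + 1) * hc

theorem det_dm {c : F} (hc : c ^ 5 = 1) : (dm c).det = 1 := by
  rw [dm, Matrix.det_diagonal, Fin.prod_univ_five]
  simp
  linear_combination (c ^ 5 + 1) * hc

theorem det_wm (h2 : (2 : F) ≠ 0) : (wm : Matrix (Fin 5) (Fin 5) F).det = 1 := by
  rw [det_parts h2 sym_wm, Am_wm, Bm_wm, Matrix.det_fin_three, Matrix.det_fin_two]
  simp

theorem det_tm (h2 : (2 : F) ≠ 0) : (tm : Matrix (Fin 5) (Fin 5) F).det = 1 := by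
  rw [det_parts h2 sym_tm, Am_tm, Bm_tm, Matrix.det_fin_two]
  simp

theorem det_Am_fm : (Am (fm ω)).det = 1 := by
  have h := ω.η_sq
  have h0 := ω.η_ne_zero
  rw [Am_fm, Matrix.det_smul, Fintype.card_fin, Matrix.det_fin_three]
  simp [Root.γ1, Root.γ2]
  field_simp
  simp only [Root.η] at h ⊢
  grind [ω.eq, ω.pow5]

theorem det_Bm_fm : (Bm (fm ω)).det = 1 := by
  have h := ω.η_sq
  have h0 := ω.η_ne_zero
  rw [Bm_fm, Matrix.det_smul, Fintype.card_fin, Matrix.det_fin_two]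
  simp
  field_simp
  simp only [Root.η] at h ⊢
  grind [ω.eq, ω.pow5]

theorem det_fm : (fm ω).det = 1 := by
  rw [det_parts ω.two (sym_fm ω), det_Am_fm, det_Bm_fm, one_mul]

theorem det_sm (ω : Root F) : (sm : Matrix (Fin 5) (Fin 5) F).det = 1 := by
  have h := congrArg Matrix.det (fm_mul_sm ω)
  rwa [Matrix.det_mul, Matrix.det_mul, det_fm, det_dm ω.pow5, one_mul, one_mul] at h

end CfsgLib.Perm.Trans.FiveDim.Pauli
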