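import Cfsg.Agent.Lib.Perm.Trans.FiveDim.Pauli.Reflection
import Cfsg.Agent.Lib.PGroup.FixedPointFree

/-!
# The centraliser of the parity: the differences determine everything, and the order is prime to `p`
-/

set_option autoImplicit false
set_option linter.all false

namespace CfsgLib.Perm.Trans.FiveDim.Pauli

open Matrix

variable {F : Type*} [Field F]

/-- the weights of the entries under the phase -/
def wt : Fin 3 → Fin 3 → ℕ := ![![0, 4, 1], ![1, 0, 2], ![4, 3, 0]]

theorem wt_spec (ω : Root F) (i j : Fin 3) :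
    ω.μ ^ wt i j * ![1, ω.μ, ω.μ ^ 4] j = ![1, ω.μ, ω.μ ^ 4] i := by
  have h5 := ω.pow5
  fin_cases i <;> fin_cases j <;> simp [wt] <;> grind

/-- a commutative space of matrices invariant under the three maps consists of scalars -/
theorem scalar_of_invariant (ω : Root F) (V : Submodule F (Matrix (Fin 3) (Fin 3) F))
    (hc : ∀ x ∈ V, ∀ y ∈ V, x * y = y * x)
    (hδ : ∀ x ∈ V, Matrix.diagonal ![1, ω.μ, ω.μ ^ 4] * x * Matrix.diagonal ![1, ω.μ ^ 4, ω.μ] ∈ V)
    (hw : ∀ x ∈ V, (!![-1, 0, 0; 0, 0, -1; 0, -1, 0] : Matrix (Fin 3) (Fin 3) F) * x * !![-1, 0, 0; 0, 0, -1; 0, -1, 0] ∈ V)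
    (hΦ : ∀ x ∈ V, (!![1, 2, 2; 1, ω.γ1, ω.γ2; 1, ω.γ2, ω.γ1] : Matrix (Fin 3) (Fin 3) F) * x *
      !![1, 2, 2; 1, ω.γ1, ω.γ2; 1, ω.γ2, ω.γ1] ∈ V) :
    ∀ x ∈ V, x = x 0 0 • (1 : Matrix (Fin 3) (Fin 3) F) := by
  have h5 := ω.pow5
  have hgs := ω.γ_add
  have hη : ω.γ1 - ω.γ2 ≠ 0 := by rw [ω.γ_sub]; exact ω.η_ne_zero
  -- powers of the phase
  have hk : ∀ k : ℕ, ∀ x ∈ V, Matrix.of (fun i j => ω.μ ^ (wt i j * k) * x i j) ∈ V := by
    intro k
    induction k with
    | zero =>
      intro x hx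
      convert hx using 1
      ext i j; simp
    | succ k ih =>
      intro x hx
      have h := hδ _ (ih x hx)
      convert h using 1
      ext i j
      fin_cases i <;> fin_cases j <;> simp [wt, Matrix.mul_apply, Matrix.vecMul, dotProduct, Fin.sum_univ_three, Matrix.diagonal_apply] <;>
        grind
  -- the components
  have hcomp : ∀ m : ℕ, m < 5 → ∀ x ∈ V, Matrix.of (fun i j => if wt i j = m then x i j else 0) ∈ V := by
    intro m hm x hx
    have h := V.smul_mem ((5 : F)⁻¹) (V.sum_mem (t := Finset.range 5) fun k _ =>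
      V.smul_mem (ω.μ ^ ((5 - m) * k)) (hk k x hx))
    convert h using 1
    ext i j
    have hw5 : wt i j < 5 := by revert i j; decide
    have ht : (∑ k ∈ Finset.range 5, ω.μ ^ ((5 - m) * k) * (ω.μ ^ (wt i j * k) * x i j)) =
        (∑ k ∈ Finset.range 5, (ω.μ ^ (5 - m + wt i j)) ^ k) * x i j := by
      rw [Finset.sum_mul]
      refine Finset.sum_congr rfl fun k _ => ?_
      rw [← pow_mul, add_mul, pow_add, mul_assoc]
    simp only [Matrix.smul_apply, Matrix.sum_apply, Matrix.of_apply, smul_eq_mul, ht]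
    by_cases e : wt i j = m
    · rw [if_pos e, e, Nat.sub_add_cancel hm.le, h5]
      simp [ω.five]
    · rw [if_neg e]
      have ht1 : ω.μ ^ (5 - m + wt i j) ≠ 1 := ω.pow_ne_one (by omega)
      rw [geom_sum_eq ht1, ← pow_mul, mul_comm _ 5, pow_mul, h5, one_pow, sub_self, zero_div, zero_mul, mul_zero]
  -- diagonal matrices
  have hdiag : ∀ a b c : F, Matrix.diagonal ![a, b, c] ∈ V → a = b ∧ b = c := by
    have h0 : ∀ a b c : F, Matrix.diagonal ![a, b, c] ∈ V → (a - b) * (2 * a + 2 * ω.γ1 * b + 2 * ω.γ2 * c) = 0 := by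
      intro a b c h
      have e := congrFun (congrFun (hc _ h _ (hΦ _ h)) 0) 1
      simp [Matrix.mul_apply, Matrix.vecMul, dotProduct, Fin.sum_univ_three, Matrix.diagonal_apply] at e
      linear_combination e
    intro a b c h
    have hbc : b = c := by
      by_contra hne
      have hd : b - c ≠ 0 := sub_ne_zero.2 hne
      have hu : Matrix.diagonal ![(0 : F), 1, -1] ∈ V := by
        have h' := V.smul_mem (b - c)⁻¹ (V.sub_mem h (hw _ h))
        convert h' using 1
        ext i j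
        fin_cases i <;> fin_cases j <;> simp [Matrix.mul_apply, Matrix.vecMul, dotProduct, Fin.sum_univ_three, Matrix.diagonal_apply] <;> grind
      have e := h0 _ _ _ hu
      exact mul_ne_zero ω.two hη (by linear_combination -e)
    subst hbc
    refine ⟨?_, rfl⟩
    have e : 2 * ((a - b) * (a - b)) = 0 := by linear_combination h0 _ _ _ h - 2 * (a - b) * b * hgs
    simpa [ω.two, sub_eq_zero] using e
  -- the single entries
  have h12 : ∀ s : F, (!![0, 0, 0; 0, 0, s; 0, 0, 0] : Matrix (Fin 3) (Fin 3) F) ∈ V → s = 0 := by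
    intro s h
    have e := congrFun (congrFun (hc _ h _ (hw _ h)) 1) 1
    simp [Matrix.mul_apply, Matrix.vecMul, dotProduct, Fin.sum_univ_three] at e
    exact e
  have h21 : ∀ s : F, (!![0, 0, 0; 0, 0, 0; 0, s, 0] : Matrix (Fin 3) (Fin 3) F) ∈ V → s = 0 := by
    intro s h
    refine h12 s ?_
    convert hw _ h using 1
    ext i j
    fin_cases i <;> fin_cases j <;> simp [Matrix.mul_apply, Matrix.vecMul, dotProduct, Fin.sum_univ_three]
  have h4 : ∀ β γ : F, (!![0, β, 0; 0, 0, 0; γ, 0, 0] : Matrix (Fin 3) (Fin 3) F) ∈ V → β = 0 ∧ γ = 0 := by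
    intro β γ h
    have e := congrFun (congrFun (hc _ h _ (hw _ h)) 2) 2
    simp [Matrix.mul_apply, Matrix.vecMul, dotProduct, Fin.sum_univ_three] at e
    have hd := hcomp 0 (by norm_num) _ (hΦ _ h)
    have hd' : Matrix.diagonal ![β + 2 * γ, ω.γ1 * β + 2 * ω.γ2 * γ, ω.γ2 * β + 2 * ω.γ1 * γ] ∈ V := by
      convert hd using 1
      ext i j
      fin_cases i <;> fin_cases j <;> simp [wt, Matrix.mul_apply, Matrix.vecMul, dotProduct, Fin.sum_univ_three, Matrix.diagonal_apply] <;> ring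
    have e2 := (hdiag _ _ _ hd').2
    have e3 : β - 2 * γ = 0 :=
      (mul_eq_zero.1 (show (ω.γ1 - ω.γ2) * (β - 2 * γ) = 0 by linear_combination e2)).resolve_left hη
    rcases e with e | e
    · exact ⟨by linear_combination e3 + 2 * e, e⟩
    · refine ⟨e, ?_⟩
      have : (2 : F) * γ = 0 := by linear_combination -e3 + e
      exact (mul_eq_zero.1 this).resolve_left ω.two
  intro x hx
  obtain ⟨e01, e20⟩ := h4 (x 0 1) (x 2 0) (by
    convert hcomp 4 (by norm_num) x hx using 1
    ext i j; fin_cases i <;> fin_cases j <;> simp [wt])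
  obtain ⟨e02, e10⟩ := h4 (x 0 2) (x 1 0) (by
    have h1 : (!![0, 0, x 0 2; x 1 0, 0, 0; 0, 0, 0] : Matrix (Fin 3) (Fin 3) F) ∈ V := by
      convert hcomp 1 (by norm_num) x hx using 1
      ext i j; fin_cases i <;> fin_cases j <;> simp [wt]
    convert hw _ h1 using 1
    ext i j; fin_cases i <;> fin_cases j <;> simp [Matrix.mul_apply, Matrix.vecMul, dotProduct, Fin.sum_univ_three])
  have e12 := h12 (x 1 2) (by
    convert hcomp 2 (by norm_num) x hx using 1
    ext i j; fin_cases i <;> fin_cases j <;> simp [wt])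
  have e21 := h21 (x 2 1) (by
    convert hcomp 3 (by norm_num) x hx using 1
    ext i j; fin_cases i <;> fin_cases j <;> simp [wt])
  obtain ⟨d1, d2⟩ := hdiag (x 0 0) (x 1 1) (x 2 2) (by
    convert hcomp 0 (by norm_num) x hx using 1
    ext i j; fin_cases i <;> fin_cases j <;> simp [wt, Matrix.diagonal_apply])
  ext i j
  fin_cases i <;> fin_cases j <;> simp [e01, e20, e02, e10, e12, e21, ← d2, ← d1]

variable {ω : Root F} {p : ℕ}
variable {H : Subgroup (GL (Fin 5) F)} [Finite F]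

/-- the differences determine the elements of the centraliser of the parity -/
theorem Ctx.prB_injective (hC : Ctx ω p H) : Function.Injective (prB ω H) := by
  classical
  rw [← MonoidHom.ker_eq_bot_iff]
  by_contra hne
  haveI : Nontrivial (prB ω H).ker := (Subgroup.nontrivial_iff_ne_bot _).2 hne
  let φ : (prB ω H).ker ≃* (prB ω H).ker := MulAut.conjNormal (dQ hC)
  have hit : ∀ (n : ℕ) (g : (prB ω H).ker),
      ((φ^[n] g : (prB ω H).ker) : Dt ω H) = dQ hC ^ n * g * (dQ hC ^ n)⁻¹ := fun n g => by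
    induction n with
    | zero => simp
    | succ n ih =>
      rw [Function.iterate_succ_apply', MulAut.conjNormal_apply, ih, pow_succ', _root_.mul_inv_rev]
      simp only [mul_assoc]
  haveI : Group.IsNilpotent (prB ω H).ker := by
    refine CfsgLib.PGroup.isNilpotent_of_fixedPointFree Nat.prime_five _ φ (fun g hg => ?_) fun g => ?_
    · refine Subtype.ext (hC.eq_one_of_comm _ g.2 ?_)
      have e : dQ hC * (g : Dt ω H) * (dQ hC)⁻¹ = g := congrArg Subtype.val hg
      exact (mul_inv_eq_iff_eq_mul.1 e).symm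
    · refine Subtype.ext ?_
      have h5 : dQ hC ^ 5 = 1 := Subtype.ext (by rw [SubgroupClass.coe_pow]; exact gQ_pow_five ω)
      rw [hit, h5, inv_one, one_mul, mul_one]
  obtain ⟨⟨z, hz⟩, hzne⟩ := Subgroup.ne_bot_iff_exists_ne_one.1
    (Group.IsNilpotent.center_ne_bot (G := (prB ω H).ker))
  have hz1 : z ≠ 1 := fun e => hzne (Subtype.ext e)
  obtain ⟨S, hS⟩ : ∃ S : Set (Matrix (Fin 3) (Fin 3) F), S = {m | ∃ y : Dt ω H, prB ω H y = 1 ∧
      (∀ k : Dt ω H, prB ω H k = 1 → k * y = y * k) ∧ m = (prA ω H y : Matrix (Fin 3) (Fin 3) F)} := ⟨_, rfl⟩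
  have hSc : ∀ g : Dt ω H, ∀ m ∈ S, (prA ω H g : Matrix (Fin 3) (Fin 3) F) * m *
      (((prA ω H g)⁻¹ : GL (Fin 3) F) : Matrix (Fin 3) (Fin 3) F) ∈ S := by
    subst hS
    rintro g _ ⟨y, hy, hyc, rfl⟩
    refine ⟨g * y * g⁻¹, by simp [hy], fun k hk => ?_, by simp⟩
    have h := hyc (g⁻¹ * k * g) (by simp [hk])
    calc k * (g * y * g⁻¹) = g * ((g⁻¹ * k * g) * y) * g⁻¹ := by group
      _ = g * (y * (g⁻¹ * k * g)) * g⁻¹ := by rw [h]
      _ = _ := by group
  have hinv : ∀ A A' : Matrix (Fin 3) (Fin 3) F, (∀ m ∈ S, A * m * A' ∈ S) → ∀ x ∈ Submodule.span F S,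
      A * x * A' ∈ Submodule.span F S := by
    intro A A' h x hx
    induction hx using Submodule.span_induction with
    | mem m hm => exact Submodule.subset_span (h m hm)
    | zero => simp
    | add a b _ _ ha hb => rw [mul_add, add_mul]; exact add_mem ha hb
    | smul c a _ ha => rw [Matrix.mul_smul, Matrix.smul_mul]; exact Submodule.smul_mem _ c ha
  have hcS : ∀ x ∈ S, ∀ y ∈ S, x * y = y * x := by
    subst hS
    rintro _ ⟨x, hx, -, rfl⟩ _ ⟨y, -, hyc, rfl⟩
    rw [← Units.val_mul, ← Units.val_mul, ← map_mul, ← map_mul, hyc x hx]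
  have hc : ∀ x ∈ Submodule.span F S, ∀ y ∈ Submodule.span F S, x * y = y * x := by
    have h1 : ∀ x ∈ S, ∀ y ∈ Submodule.span F S, x * y = y * x := by
      intro x hx y hy
      induction hy using Submodule.span_induction with
      | mem m hm => exact hcS x hx m hm
      | zero => simp
      | add a b _ _ ha hb => rw [mul_add, add_mul, ha, hb]
      | smul c a _ ha => rw [Matrix.mul_smul, Matrix.smul_mul, ha]
    intro x hx y hy
    induction hx using Submodule.span_induction with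
    | mem m hm => exact h1 m hm y hy
    | zero => simp
    | add a b _ _ ha hb => rw [mul_add, add_mul, ha, hb]
    | smul c a _ ha => rw [Matrix.mul_smul, Matrix.smul_mul, ha]
  have hsc := scalar_of_invariant ω (Submodule.span F S) hc (fun x hx => ?_) (fun x hx => ?_) (fun x hx => ?_)
    (prA ω H z : Matrix (Fin 3) (Fin 3) F) (Submodule.subset_span (hS ▸ ⟨_, z.2, fun k hk =>
      congrArg Subtype.val (Subgroup.mem_center_iff.1 hz ⟨k, hk⟩), rfl⟩))
  · refine hz1 (Subtype.ext (hC.eq_one_of_comm _ z.2 (eq_of_pr ?_ ?_)))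
    · rw [map_mul, map_mul]
      refine Units.ext ?_
      rw [Units.val_mul, Units.val_mul, hsc, Matrix.smul_mul, Matrix.mul_smul, one_mul, mul_one]
    · rw [map_mul, map_mul, show prB ω H (z : Dt ω H) = 1 from z.2, one_mul, mul_one]
  · refine hinv _ _ (fun m hm => ?_) x hx
    have h := hSc (dQ hC) m hm
    rwa [prA_dQ, show (((prA ω H (dQ hC))⁻¹ : GL (Fin 3) F) : Matrix (Fin 3) (Fin 3) F) =
        Matrix.diagonal ![1, ω.μ ^ 4, ω.μ] from left_inv_eq_right_inv (Units.inv_mul _) (by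
      rw [prA_dQ, Matrix.diagonal_mul_diagonal, ← Matrix.diagonal_one]
      congr 1; funext i; fin_cases i <;> simp <;> linear_combination ω.pow5)] at h
  · refine hinv _ _ (fun m hm => ?_) x hx
    have h := hSc (dW hC) m hm
    rwa [prA_dW, show (((prA ω H (dW hC))⁻¹ : GL (Fin 3) F) : Matrix (Fin 3) (Fin 3) F) =
        !![-1, 0, 0; 0, 0, -1; 0, -1, 0] from left_inv_eq_right_inv (Units.inv_mul _) (by
      rw [prA_dW]
      ext i j; fin_cases i <;> fin_cases j <;> simp [Matrix.mul_apply, Matrix.vecMul, dotProduct, Fin.sum_univ_three])] at h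
  · have h := hinv _ _ (fun m hm => hSc (dP hC) m hm) x hx
    have e : (((prA ω H (dP hC))⁻¹ : GL (Fin 3) F) : Matrix (Fin 3) (Fin 3) F) = (prA ω H (dP hC) : Matrix (Fin 3) (Fin 3) F) :=
      left_inv_eq_right_inv (Units.inv_mul _) (by rw [val_prA]; show Am (fm ω) * Am (fm ω) = 1; rw [← Am_mul _ (sym_fm ω), fm_sq, Am_tm])
    rw [e, prA_dP, Matrix.smul_mul, Matrix.smul_mul, Matrix.mul_smul, smul_smul] at h
    have hne : -ω.η⁻¹ * -ω.η⁻¹ ≠ 0 := by simp [ω.η_ne_zero]
    have h' := Submodule.smul_mem _ (-ω.η⁻¹ * -ω.η⁻¹)⁻¹ h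
    rwa [smul_smul, inv_mul_cancel₀ hne, one_smul] at h'

/-- the order of the centraliser of the parity is prime to `p` -/
theorem Ctx.not_dvd_card (hC : Ctx ω p H) : ¬ p ∣ Nat.card (Dt ω H) := by
  classical
  haveI : Fact p.Prime := ⟨hC.prime⟩
  haveI := hC.char
  have h5 := ω.pow5
  intro hdvd
  obtain ⟨e, he⟩ := exists_prime_orderOf_dvd_card' p hdvd
  have he1 : prB ω H e ≠ 1 := fun h => hC.prime.ne_one (by
    rw [← he, hC.prB_injective (h.trans (map_one _).symm), orderOf_one])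
  have hep : prB ω H e ^ p = 1 := by rw [← map_pow, ← he, pow_orderOf_eq_one, map_one]
  have h14 : ω.μ ≠ ω.μ ^ 4 := fun e => ω.pow_ne_one (k := 3) (by norm_num)
    (mul_right_cancel₀ ω.ne_zero (by linear_combination -e))
  obtain ⟨hx, -⟩ := elem_mem hC.surj (G := (prB ω H).range) ⟨dQ hC, rfl⟩ (prB_dQ hC) h14 ⟨dW hC, rfl⟩
    (neg_ne_zero.2 one_ne_zero) (prB_dW hC) ⟨e, rfl⟩ he1 hep
  obtain ⟨u, hu⟩ := hx 1
  obtain ⟨k, hk⟩ := hC.surj (ω.μ ^ 2)
  have hup : u ^ p = 1 := hC.prB_injective (by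
    rw [map_pow, map_one, hu, xu_pow, CharP.cast_eq_zero F p, zero_mul, xu_zero])
  have hconj : dQ hC * u = u ^ k * dQ hC := hC.prB_injective (Units.ext (by
    rw [map_mul, map_mul, map_pow, hu, xu_pow, mul_one, ← hk, Units.val_mul, Units.val_mul, prB_dQ, val_xu, val_xu]
    ext i j; fin_cases i <;> fin_cases j <;>
      simp [Matrix.mul_apply, Matrix.vecMul, dotProduct, Matrix.diagonal_apply, Fin.sum_univ_two] <;>
      linear_combination -ω.μ * h5))
  obtain ⟨N, hN⟩ : ∃ N, N = (prA ω H u : Matrix (Fin 3) (Fin 3) F) - 1 := ⟨_, rfl⟩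
  have hN3 : N * N * N = 0 := by
    have hnil : IsNilpotent N := ⟨p, by
      haveI : CharP (Matrix (Fin 3) (Fin 3) F) p :=
        charP_of_injective_ringHom (f := Matrix.scalar (Fin 3)) (fun a b h => Matrix.scalar_inj.1 h) p
      rw [hN, sub_pow_char_of_commute p (Commute.one_right _), one_pow, ← Units.val_pow_eq_pow_val, ← map_pow, hup,
        map_one, Units.val_one, sub_self]⟩
    have h := Matrix.aeval_self_charpoly N
    rw [sub_eq_zero.1 (IsNilpotent.eq_zero (Matrix.isNilpotent_charpoly_sub_pow_of_isNilpotent hnil)),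
      Polynomial.aeval_X_pow, Fintype.card_fin, pow_succ, pow_two] at h
    exact h
  have hA : (prA ω H u : Matrix (Fin 3) (Fin 3) F) = 1 + N := by rw [hN]; abel
  have hpow : ∀ n : ℕ, ((prA ω H (u ^ n) : GL (Fin 3) F) : Matrix (Fin 3) (Fin 3) F) =
      1 + (n : F) • N + ((n : F) * ((n : F) - 1) / 2) • (N * N) := fun n => by
    induction n with
    | zero => simp
    | succ n ih =>
      rw [pow_succ, map_mul, Units.val_mul, ih, hA, Nat.cast_succ]
      simp only [mul_add, add_mul, mul_one, one_mul, Matrix.smul_mul, hN3, smul_zero, add_zero]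
      have := ω.two
      match_scalars <;> field_simp <;> ring
  obtain ⟨L, hL⟩ : ∃ L, L = N - (2 : F)⁻¹ • (N * N) := ⟨_, rfl⟩
  obtain ⟨δ, hδ⟩ : ∃ δ : Matrix (Fin 3) (Fin 3) F, δ = Matrix.diagonal ![1, ω.μ, ω.μ ^ 4] := ⟨_, rfl⟩
  have eN : δ * N = ((k : F) • N + ((k : F) * ((k : F) - 1) / 2) • (N * N)) * δ := by
    have e := congrArg (fun g => ((prA ω H g : GL (Fin 3) F) : Matrix (Fin 3) (Fin 3) F)) hconj
    simp only [map_mul, Units.val_mul] at e
    rw [prA_dQ, ← hδ, hA, hpow, mul_add, mul_one, add_assoc, add_mul, one_mul] at e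
    exact add_left_cancel e
  have eL : δ * L = (k : F) • (L * δ) := by
    rw [hL, mul_sub, Matrix.mul_smul, ← mul_assoc, eN, mul_assoc _ δ, eN, ← mul_assoc]
    simp only [mul_add, add_mul, sub_mul, Matrix.smul_mul, Matrix.mul_smul, ← mul_assoc, hN3, zero_mul, smul_zero,
      add_zero]
    have := ω.two
    match_scalars <;> field_simp <;> ring
  have hw5 : ∀ i j : Fin 3, wt i j < 5 := by decide
  have hLent : ∀ i j : Fin 3, wt i j ≠ 2 → L i j = 0 := by
    intro i j hw
    have e := congrFun (congrFun eL i) j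
    rw [hδ, Matrix.diagonal_mul, Matrix.smul_apply, Matrix.mul_diagonal, smul_eq_mul, ← hk, ← wt_spec ω i j] at e
    have hne : ω.μ ^ wt i j - ω.μ ^ 2 ≠ 0 := sub_ne_zero.2 fun e2 => by
      have h2 := congrArg (fun t => t * ω.μ ^ 3) e2
      simp only [← pow_add] at h2
      rw [show 2 + 3 = 5 from rfl, h5] at h2
      exact ω.pow_ne_one (k := wt i j + 3) (by have := hw5 i j; omega) h2
    have hz : ![1, ω.μ, ω.μ ^ 4] j ≠ 0 := by fin_cases j <;> simp [ω.ne_zero]
    exact (mul_eq_zero.1 (show ((ω.μ ^ wt i j - ω.μ ^ 2) * ![1, ω.μ, ω.μ ^ 4] j) * L i j = 0 by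
      linear_combination e)).resolve_left (mul_ne_zero hne hz)
  have hLL : L * L = 0 := by
    ext i j
    fin_cases i <;> fin_cases j <;>
      simp [Matrix.mul_apply, Matrix.vecMul, dotProduct, Fin.sum_univ_three, hLent 0 0 (by decide), hLent 0 1 (by decide), hLent 0 2 (by decide),
        hLent 1 0 (by decide), hLent 1 1 (by decide), hLent 2 0 (by decide), hLent 2 1 (by decide), hLent 2 2 (by decide)]
  have hNL : N = L := by
    have hL2 : L * L = N * N := by
      rw [hL]
      simp only [sub_mul, mul_sub, Matrix.smul_mul, Matrix.mul_smul, ← mul_assoc, hN3, zero_mul, smul_zero, sub_zero]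
    rw [hLL] at hL2
    rw [hL, ← hL2, smul_zero, sub_zero]
  -- the line of the fixed coordinate
  obtain ⟨v, hv⟩ : ∃ v, v = dW hC * u * (dW hC)⁻¹ := ⟨_, rfl⟩
  obtain ⟨R, hR⟩ : ∃ R : Dt ω H → Prop, R = fun g => (prA ω H g : Matrix (Fin 3) (Fin 3) F) 1 0 = 0 ∧
      (prA ω H g : Matrix (Fin 3) (Fin 3) F) 2 0 = 0 := ⟨_, rfl⟩
  have hRu : R u := by
    rw [hR]
    constructor <;> simp [hA, hNL, hLent 1 0 (by decide), hLent 2 0 (by decide)]
  have hWi : (((prA ω H (dW hC))⁻¹ : GL (Fin 3) F) : Matrix (Fin 3) (Fin 3) F) = !![-1, 0, 0; 0, 0, -1; 0, -1, 0] :=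
    left_inv_eq_right_inv (Units.inv_mul _) (by
      rw [prA_dW]
      ext i j; fin_cases i <;> fin_cases j <;> simp [Matrix.mul_apply, Matrix.vecMul, dotProduct, Fin.sum_univ_three])
  have hRv : R v := by
    subst hR
    constructor <;>
      simp [hv, map_mul, map_inv, prA_dW, hWi, hA, hNL, Matrix.mul_apply, Matrix.vecMul, dotProduct, Fin.sum_univ_three,
        hLent 1 0 (by decide), hLent 2 0 (by decide)]
  obtain ⟨X, hX⟩ : ∃ X, X = Subgroup.closure ({u, v} : Set (Dt ω H)) := ⟨_, rfl⟩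
  have hXR : ∀ g ∈ X, R g := by
    subst hX hR
    intro g hg
    induction hg using Subgroup.closure_induction with
    | mem x hx =>
      rcases hx with rfl | rfl
      · exact hRu
      · exact hRv
    | one => simp
    | mul x y _ _ hx hy =>
      obtain ⟨x1, x2⟩ := hx
      obtain ⟨y1, y2⟩ := hy
      constructor <;> simp [Matrix.mul_apply, Matrix.vecMul, dotProduct, Fin.sum_univ_three, x1, x2, y1, y2]
    | inv x _ hx =>
      obtain ⟨x1, x2⟩ := hx
      obtain ⟨M, hM⟩ : ∃ M, M = (((prA ω H x)⁻¹ : GL (Fin 3) F) : Matrix (Fin 3) (Fin 3) F) := ⟨_, rfl⟩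
      have hMx : M * (prA ω H x : Matrix (Fin 3) (Fin 3) F) = 1 := hM ▸ Units.inv_mul _
      have q0 := congrFun (congrFun hMx 0) 0
      have q1 := congrFun (congrFun hMx 1) 0
      have q2 := congrFun (congrFun hMx 2) 0
      simp [Matrix.mul_apply, Matrix.vecMul, dotProduct, Fin.sum_univ_three, x1, x2] at q0 q1 q2
      have hx00 : (prA ω H x : Matrix (Fin 3) (Fin 3) F) 0 0 ≠ 0 := fun h => by simp [h] at q0
      rw [map_inv, ← hM]
      exact ⟨q1.resolve_right hx00, q2.resolve_right hx00⟩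
  have hxG : ∀ s, xu s ∈ X.map (prB ω H) := fun s => by
    obtain ⟨n, hn⟩ := hC.surj s
    refine ⟨u ^ n, pow_mem (hX ▸ Subgroup.subset_closure (by simp)) n, ?_⟩
    rw [map_pow, hu, xu_pow, mul_one, hn]
  have hJ : prB ω H (dW hC) * xu 1 = yl (-1) * prB ω H (dW hC) := Units.ext (by
    rw [Units.val_mul, Units.val_mul, prB_dW, val_xu, val_yl]
    ext i j; fin_cases i <;> fin_cases j <;> simp [Matrix.mul_apply, Matrix.vecMul, dotProduct, Fin.sum_univ_two])
  have hvB : prB ω H v = yl (-1) := by rw [hv, map_mul, map_mul, map_inv, hu, hJ, mul_inv_cancel_right]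
  have hyG : ∀ s, yl s ∈ X.map (prB ω H) := fun s => by
    obtain ⟨n, hn⟩ := hC.surj (-s)
    refine ⟨v ^ n, pow_mem (hX ▸ Subgroup.subset_closure (by simp)) n, ?_⟩
    have hyp : ∀ m : ℕ, yl (-1 : F) ^ m = yl (-(m : F)) := fun m => by
      induction m with
      | zero => simp [yl_zero]
      | succ m ih => rw [pow_succ, ih, yl_add]; congr 1; push_cast; ring
    rw [map_pow, hvB, hyp, ← hn, neg_neg]
  obtain ⟨g, hg, hgB⟩ := mem_of_det_one hxG hyG (g := prB ω H (dP hC)) (by rw [val_prB]; exact det_Bm_fm ω)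
  obtain rfl := hC.prB_injective hgB
  have h := hXR _ hg
  rw [hR, prA_dP] at h
  simp [ω.η_ne_zero] at h

end CfsgLib.Perm.Trans.FiveDim.Pauli
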