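import Cfsg.Agent.Lib.Perm.Trans.ThreeDim.HeisComplex
import Cfsg.Agent.Lib.Char.LiftCoprime

/-!
# An icosahedral pair with a half turn about the fivefold axis

Over the complex numbers the product of the half turn and the involution has a trace which is not
integral, so no such group has order prime to the characteristic.
-/

set_option autoImplicit false
set_option linter.all false

namespace CfsgLib.Perm.Trans.FiveDim.Pauli

open Matrix

/-- no unipotent elements of finite order -/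
theorem eq_zero_of_unip_finite {k : ℕ} {N : Matrix (Fin k) (Fin k) ℂ} {n : ℕ} (hn : 0 < n)
    (hN : IsNilpotent N) (h : (1 + N) ^ n = 1) : N = 0 := by
  obtain ⟨j, hj⟩ := hN
  induction j with
  | zero =>
    rw [pow_zero] at hj
    rw [← mul_one N, hj, mul_zero]
  | succ j ih =>
    rcases Nat.eq_zero_or_pos j with rfl | hj0
    · simpa using hj
    refine ih ?_
    obtain ⟨i, rfl⟩ : ∃ i, j = i + 1 := ⟨j - 1, by omega⟩
    have key : ∀ m : ℕ, (1 + N) ^ m * N ^ i = N ^ i + (m : ℂ) • N ^ (i + 1) := by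
      intro m
      induction m with
      | zero => simp
      | succ m ihm =>
        rw [pow_succ', mul_assoc, ihm, add_mul, one_mul, mul_add, Matrix.mul_smul, ← pow_succ', ← pow_succ', hj,
          smul_zero, add_zero, Nat.cast_succ, add_smul, one_smul]
        abel
    have h1 := key n
    rw [h, one_mul, left_eq_add, smul_eq_zero] at h1
    exact h1.resolve_left (by exact_mod_cast hn.ne')

/-- the three roots of a matrix of finite order -/
theorem three_roots {M : Matrix (Fin 3) (Fin 3) ℂ} {n : ℕ} (hn : 0 < n) (hM : M ^ n = 1) :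
    ∃ x y z : ℂ, x ^ n = 1 ∧ y ^ n = 1 ∧ z ^ n = 1 ∧ M.trace = x + y + z ∧ M.det = x * y * z ∧
      (∀ t, (Matrix.scalar (Fin 3) t - M).det = (t - x) * (t - y) * (t - z)) ∧
      (x = y → y = z → M = x • (1 : Matrix (Fin 3) (Fin 3) ℂ)) := by
  classical
  have hs : M.charpoly.Splits := IsAlgClosed.splits _
  have hcard : M.charpoly.roots.card = 3 := by
    rw [← hs.natDegree_eq_card_roots, Matrix.charpoly_natDegree_eq_dim, Fintype.card_fin]
  obtain ⟨x, y, z, hr⟩ := Multiset.card_eq_three.1 hcard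
  have hprod : M.charpoly = (Polynomial.X - Polynomial.C x) * (Polynomial.X - Polynomial.C y) * (Polynomial.X - Polynomial.C z) := by
    have h := hs.eq_prod_roots_of_monic (Matrix.charpoly_monic M)
    rw [hr] at h
    simpa [mul_assoc] using h
  have hev : ∀ t, (Matrix.scalar (Fin 3) t - M).det = (t - x) * (t - y) * (t - z) := fun t => by
    rw [← Matrix.eval_charpoly, hprod]; simp
  have hroot : ∀ t, (t - x) * (t - y) * (t - z) = 0 → t ^ n = 1 := fun t ht =>
    ThreeDim.Heis.pow_eq_one_of_root hM ((hev t).trans ht)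
  refine ⟨x, y, z, hroot x (by ring), hroot y (by ring), hroot z (by ring), ?_, ?_, hev, ?_⟩
  · rw [Matrix.trace_eq_sum_roots_charpoly, hr]; simp [add_assoc]
  · rw [Matrix.det_eq_prod_roots_charpoly, hr]; simp [mul_assoc]
  · rintro rfl rfl
    have hx : x ≠ 0 := fun e => by
      have := hroot x (by ring)
      rw [e, zero_pow hn.ne'] at this
      exact zero_ne_one this
    obtain ⟨N, hN⟩ : ∃ N, N = x⁻¹ • (M - x • (1 : Matrix (Fin 3) (Fin 3) ℂ)) := ⟨_, rfl⟩
    have hnil : IsNilpotent N := by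
      refine ⟨3, ?_⟩
      have h := Matrix.aeval_self_charpoly M
      rw [hprod] at h
      simp only [map_mul, map_sub, Polynomial.aeval_X, Polynomial.aeval_C, Algebra.algebraMap_eq_smul_one] at h
      rw [hN, smul_pow, show (M - x • (1 : Matrix (Fin 3) (Fin 3) ℂ)) ^ 3 = 0 by rw [pow_succ, pow_two]; exact h,
        smul_zero]
    have h1 : (1 + N) ^ n = 1 := by
      rw [show (1 : Matrix (Fin 3) (Fin 3) ℂ) + N = x⁻¹ • M by
        rw [hN, smul_sub, smul_smul, inv_mul_cancel₀ hx, one_smul]; abel,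
        smul_pow, hM, inv_pow, hroot x (by ring), inv_one, one_smul]
    have h0 := eq_zero_of_unip_finite hn hnil h1
    rw [hN, smul_eq_zero, sub_eq_zero] at h0
    exact h0.resolve_left (inv_ne_zero hx)

theorem not_isIntegral_four_fifths : ¬ IsIntegral ℤ ((4 : ℂ) / 5) := by
  intro h
  have h' : IsIntegral ℤ (algebraMap ℚ ℂ ((4 : ℚ) / 5)) := by simpa using h
  rw [isIntegral_algebraMap_iff (algebraMap ℚ ℂ).injective] at h'
  obtain ⟨m, hm⟩ := IsIntegrallyClosed.isIntegral_iff.1 h'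
  have h5 : (5 * m : ℤ) = 4 := by
    have : (5 : ℚ) * m = 4 := by
      rw [show (m : ℚ) = (4 : ℚ) / 5 from hm]; norm_num
    exact_mod_cast this
  omega

/-- the trace computation in an eigenbasis of the fivefold rotation -/
theorem false_of_traces {lam x y z α β : ℂ} (h5 : lam ^ 5 = 1) (h1 : lam ≠ 1) (hα : α * α = 1) (hβ : β * β = 1)
    (hαβ : α ≠ β) (e0 : x + y + z = -1) (e1 : x + lam * y + lam ^ 4 * z = 0) (e4 : x + lam ^ 4 * y + lam * z = 0)
    (hint : IsIntegral ℤ (α * x + β * (y + z))) : False := by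
  have hc : lam ^ 4 + lam ^ 3 + lam ^ 2 + lam + 1 = 0 :=
    (mul_eq_zero.1 (show (lam - 1) * (lam ^ 4 + lam ^ 3 + lam ^ 2 + lam + 1) = 0 by linear_combination h5)).resolve_left
      (sub_ne_zero.2 h1)
  have hne : lam - lam ^ 4 ≠ 0 := fun e => h1 (by
    have h3 : lam ^ 3 = 1 := mul_right_cancel₀ (b := lam) (fun e' => by rw [e'] at h5; simp at h5) (by linear_combination -e)
    linear_combination (lam ^ 3 + 1) * h3 - lam * h5)
  obtain rfl : z = y := by
    have : (lam - lam ^ 4) * (y - z) = 0 := by linear_combination e1 - e4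
    exact (sub_eq_zero.1 ((mul_eq_zero.1 this).resolve_left hne)).symm
  obtain ⟨τ, hτ⟩ : ∃ τ, τ = lam + lam ^ 4 := ⟨_, rfl⟩
  have hττ : τ * τ + τ - 1 = 0 := by
    rw [hτ]; linear_combination hc + (2 + lam ^ 3) * h5
  have hxy : x = -τ * z := by rw [hτ]; linear_combination e1
  have hy : 5 * z = -(3 + τ) := by
    linear_combination (3 + τ) * e0 - (3 + τ) * hxy + z * hττ
  have hβα : β = -α := by
    rcases mul_eq_zero.1 (show (β - α) * (β + α) = 0 by linear_combination hβ - hα) with h | h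
    · exact absurd (sub_eq_zero.1 h).symm hαβ
    · exact eq_neg_of_add_eq_zero_left h
  have hw : IsIntegral ℤ (x - 2 * z) := by
    have hαi : IsIntegral ℤ α := IsIntegral.of_pow (by norm_num : 0 < 2) (by rw [pow_two, hα]; exact isIntegral_one)
    have := hαi.mul hint
    rwa [show α * (α * x + β * (z + z)) = x - 2 * z by rw [hβα]; linear_combination (x - 2 * z) * hα] at this
  refine not_isIntegral_four_fifths ?_
  rw [show (4 : ℂ) / 5 = (x - 2 * z - 1) ^ 2 by
    have h5z : z = -(3 + τ) / 5 := by linear_combination hy / 5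
    rw [hxy, h5z]
    linear_combination (-(τ ^ 2 + 9 * τ + 19) / 25) * hττ]
  exact (hw.sub isIntegral_one).pow 2

variable {F : Type*} [Field F] [Finite F]

/-- no group of order prime to `p` contains the configuration -/
theorem dvd_card_of_half_turn {p : ℕ} [hp : Fact p.Prime] [CharP F p] {X : Subgroup (GL (Fin 3) F)}
    {δ W Φ a : GL (Fin 3) F} (hδ : δ ∈ X) (hW : W ∈ X) (hΦ : Φ ∈ X) (ha : a ∈ X)
    (hδ5 : δ ^ 5 = 1) (hW2 : W * W = 1) (hWδ : δ * (W * δ * W) = 1) (haδ : a * δ = δ * a) (haW : a * W = W * a)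
    (ha2 : a * a = 1) (hΦ2 : Φ * Φ = 1) (hΦW : Φ * W = W * Φ) (hΦδ : (Φ * δ) ^ 3 = 1) (hn1 : Φ * δ ≠ δ * Φ)
    (hn2 : a * Φ ≠ Φ * a) : p ∣ Nat.card X := by
  classical
  by_contra hX
  obtain ⟨ρ, hρ⟩ := CfsgLib.Char.LiftCoprime.exists_complex (F := F) (p := p) hp.out hX
    ((Units.coeHom (Matrix (Fin 3) (Fin 3) F)).comp X.subtype) (Units.val_injective.comp Subtype.val_injective)
  obtain ⟨d, hd⟩ : ∃ d, d = ρ ⟨δ, hδ⟩ := ⟨_, rfl⟩
  obtain ⟨w, hw⟩ : ∃ w, w = ρ ⟨W, hW⟩ := ⟨_, rfl⟩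
  obtain ⟨f, hf⟩ : ∃ f, f = ρ ⟨Φ, hΦ⟩ := ⟨_, rfl⟩
  obtain ⟨c, hc⟩ : ∃ c, c = ρ ⟨a, ha⟩ := ⟨_, rfl⟩
  have hd5 : d ^ 5 = 1 := by rw [hd, ← map_pow, show (⟨δ, hδ⟩ : X) ^ 5 = 1 from Subtype.ext hδ5, map_one]
  have hw2 : w * w = 1 := by rw [hw, ← map_mul, show (⟨W, hW⟩ : X) * ⟨W, hW⟩ = 1 from Subtype.ext hW2, map_one]
  have hwd : d * (w * d * w) = 1 := by
    rw [hd, hw, ← map_mul, ← map_mul, ← map_mul,
      show (⟨δ, hδ⟩ : X) * (⟨W, hW⟩ * ⟨δ, hδ⟩ * ⟨W, hW⟩) = 1 from Subtype.ext hWδ, map_one]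
  have hcd : c * d = d * c := by rw [hc, hd, ← map_mul, ← map_mul]; exact congrArg ρ (Subtype.ext haδ)
  have hcw : c * w = w * c := by rw [hc, hw, ← map_mul, ← map_mul]; exact congrArg ρ (Subtype.ext haW)
  have hc2 : c * c = 1 := by rw [hc, ← map_mul, show (⟨a, ha⟩ : X) * ⟨a, ha⟩ = 1 from Subtype.ext ha2, map_one]
  have hf2 : f * f = 1 := by rw [hf, ← map_mul, show (⟨Φ, hΦ⟩ : X) * ⟨Φ, hΦ⟩ = 1 from Subtype.ext hΦ2, map_one]
  have hfw : f * w = w * f := by rw [hf, hw, ← map_mul, ← map_mul]; exact congrArg ρ (Subtype.ext hΦW)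
  have hfd : (f * d) ^ 3 = 1 := by
    rw [hf, hd, ← map_mul, ← map_pow, show (⟨Φ, hΦ⟩ * ⟨δ, hδ⟩ : X) ^ 3 = 1 from Subtype.ext hΦδ, map_one]
  have hne1 : f * d ≠ d * f := fun e => hn1 (by
    rw [hf, hd, ← map_mul, ← map_mul] at e
    exact congrArg Subtype.val (hρ e))
  have hne2 : c * f ≠ f * c := fun e => hn2 (by
    rw [hf, hc, ← map_mul, ← map_mul] at e
    exact congrArg Subtype.val (hρ e))
  -- the roots of `d`
  have hdetd5 : d.det ^ 5 = 1 := by rw [← Matrix.det_pow, hd5, Matrix.det_one]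
  have hdetw : w.det * w.det = 1 := by rw [← Matrix.det_mul, hw2, Matrix.det_one]
  have hdetd : d.det = 1 := by
    have h1 := congrArg Matrix.det hwd
    rw [Matrix.det_mul, Matrix.det_mul, Matrix.det_mul, Matrix.det_one] at h1
    have h2 : d.det * d.det = 1 := by linear_combination h1 - d.det * d.det * hdetw
    linear_combination hdetd5 - d.det * (d.det * d.det + 1) * h2
  have hd10 : (d - 1).det = 0 := by
    have h1 : (d - 1) * (w * d * w) = -(w * (d - 1) * w) := by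
      rw [sub_mul, hwd, one_mul, mul_sub, sub_mul, mul_one, hw2, neg_sub]
    have h2 := congrArg Matrix.det h1
    rw [Matrix.det_mul, Matrix.det_mul, Matrix.det_mul, Matrix.det_neg, Matrix.det_mul, Matrix.det_mul, hdetd,
      Fintype.card_fin] at h2
    linear_combination (1 / 2 : ℂ) * h2 - (d - 1).det * hdetw
  obtain ⟨r₁, r₂, r₃, hr₁, hr₂, hr₃, -, hprod, hev, hsc⟩ := three_roots (by norm_num : 0 < 5) hd5
  obtain ⟨lam, hlam5, hlam1, hdet⟩ : ∃ lam : ℂ, lam ^ 5 = 1 ∧ lam ≠ 1 ∧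
      (∀ t, (t = 1 ∨ t = lam) → (Matrix.scalar (Fin 3) t - d).det = 0) := by
    have h1 : (1 - r₁) * (1 - r₂) * (1 - r₃) = 0 := by
      rw [← hev, map_one, ← neg_sub d 1, Matrix.det_neg, hd10, mul_zero]
    have hone : r₁ ≠ 1 ∨ r₂ ≠ 1 ∨ r₃ ≠ 1 := by
      by_contra h
      push Not at h
      refine hne1 ?_
      rw [hsc (h.1.trans h.2.1.symm) (h.2.1.trans h.2.2.symm), mul_smul_comm, smul_mul_assoc, one_mul, mul_one]
    have h1d : (Matrix.scalar (Fin 3) (1 : ℂ) - d).det = 0 := (hev 1).trans h1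
    rcases hone with h | h | h
    · exact ⟨r₁, hr₁, h, fun t ht => by rcases ht with rfl | rfl; exacts [h1d, (hev _).trans (by ring)]⟩
    · exact ⟨r₂, hr₂, h, fun t ht => by rcases ht with rfl | rfl; exacts [h1d, (hev _).trans (by ring)]⟩
    · exact ⟨r₃, hr₃, h, fun t ht => by rcases ht with rfl | rfl; exacts [h1d, (hev _).trans (by ring)]⟩
  have hvec : ∀ t, (Matrix.scalar (Fin 3) t - d).det = 0 → ∃ v : Fin 3 → ℂ, v ≠ 0 ∧ d *ᵥ v = t • v := fun t ht => by
    obtain ⟨v, hv0, hv⟩ := Matrix.exists_mulVec_eq_zero_iff.2 ht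
    refine ⟨v, hv0, ?_⟩
    rw [Matrix.sub_mulVec, sub_eq_zero] at hv
    rw [← hv]
    funext i
    simp [Matrix.scalar_apply, Matrix.mulVec_diagonal]
  obtain ⟨v₀, hv₀, hdv₀⟩ := hvec 1 (hdet 1 (Or.inl rfl))
  obtain ⟨v₁, hv₁, hdv₁⟩ := hvec lam (hdet lam (Or.inr rfl))
  have hlam0 : lam ≠ 0 := fun e => by rw [e] at hlam5; simp at hlam5
  have hne : lam ≠ lam ^ 4 := fun e => hlam1 (by
    have h3 : lam ^ 3 = 1 := mul_right_cancel₀ hlam0 (by linear_combination -e)
    linear_combination (lam ^ 3 + 1) * h3 - lam * hlam5)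
  have hww : ∀ v, w *ᵥ (w *ᵥ v) = v := fun v => by rw [Matrix.mulVec_mulVec, hw2, Matrix.one_mulVec]
  have hdv₂ : d *ᵥ (w *ᵥ v₁) = lam ^ 4 • (w *ᵥ v₁) := by
    have h1 : w *ᵥ v₁ = d *ᵥ (w *ᵥ (d *ᵥ v₁)) := by
      conv_lhs => rw [← Matrix.one_mulVec (w *ᵥ v₁), ← hwd]
      rw [← Matrix.mulVec_mulVec, ← Matrix.mulVec_mulVec, ← Matrix.mulVec_mulVec, hww]
    rw [hdv₁, Matrix.mulVec_smul, Matrix.mulVec_smul] at h1
    conv_rhs => rw [h1, smul_smul, ← pow_succ, hlam5, one_smul]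
  let e : Fin 3 → Fin 3 → ℂ := ![v₀, v₁, w *ᵥ v₁]
  have hev' : ∀ j, d *ᵥ e j = ![1, lam, lam ^ 4] j • e j := fun j => by
    fin_cases j
    · simpa [e] using hdv₀
    · simpa [e] using hdv₁
    · simpa [e] using hdv₂
  have hinj : Function.Injective ![(1 : ℂ), lam, lam ^ 4] := by
    have h14 : lam ^ 4 ≠ 1 := fun h => hlam1 (by linear_combination hlam5 - lam * h)
    intro i j h
    fin_cases i <;> fin_cases j <;> simp at h ⊢
    exacts [hlam1 h.symm, h14 h.symm, hlam1 h, hne h, h14 h, hne h.symm]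
  have hli : LinearIndependent ℂ e :=
    Module.End.eigenvectors_linearIndependent' (Matrix.toLin' d) _ hinj e fun j =>
      ⟨Module.End.mem_eigenspace_iff.2 (by rw [Matrix.toLin'_apply]; exact hev' j), by
        fin_cases j
        · simpa [e] using hv₀
        · simpa [e] using hv₁
        · simp [e]
          intro h
          exact hv₁ (by rw [← hww v₁, h, Matrix.mulVec_zero])⟩
  obtain ⟨Q, hQ⟩ := (Matrix.linearIndependent_cols_iff_isUnit (A := Matrix.of fun i j => e j i)).1 hli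
  let cj : Matrix (Fin 3) (Fin 3) ℂ → Matrix (Fin 3) (Fin 3) ℂ := fun A =>
    ((Q⁻¹ : GL (Fin 3) ℂ) : Matrix (Fin 3) (Fin 3) ℂ) * A * (Q : Matrix (Fin 3) (Fin 3) ℂ)
  have hcjm : ∀ A B, cj (A * B) = cj A * cj B := fun A B => by
    simp only [cj, mul_assoc, Units.mul_inv_cancel_left]
  have hcjt : ∀ A, (cj A).trace = A.trace := fun A => by
    simp only [cj]; rw [Matrix.trace_mul_cycle, Units.mul_inv, one_mul]
  have hcol : ∀ (A : Matrix (Fin 3) (Fin 3) ℂ) i j, (A * (Q : Matrix (Fin 3) (Fin 3) ℂ)) i j = (A *ᵥ e j) i :=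
    fun A i j => by rw [hQ]; rfl
  have hd' : cj d = Matrix.diagonal ![1, lam, lam ^ 4] := by
    have h : d * (Q : Matrix (Fin 3) (Fin 3) ℂ) = (Q : Matrix (Fin 3) (Fin 3) ℂ) * Matrix.diagonal ![1, lam, lam ^ 4] := by
      ext i j
      rw [hcol, hev', Matrix.mul_diagonal, hQ, Pi.smul_apply, smul_eq_mul, mul_comm]
      rfl
    simp only [cj]
    rw [mul_assoc, h, ← mul_assoc, Units.inv_mul, one_mul]
  have hw' : cj w 2 1 = 1 ∧ cj w 0 1 = 0 ∧ cj w 1 1 = 0 := by
    have h : ∀ i, (w * (Q : Matrix (Fin 3) (Fin 3) ℂ)) i 1 = (Q : Matrix (Fin 3) (Fin 3) ℂ) i 2 := fun i => by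
      rw [hcol, hQ]; rfl
    have h' : ∀ i, cj w i 1 = (1 : Matrix (Fin 3) (Fin 3) ℂ) i 2 := fun i => by
      simp only [cj]
      rw [mul_assoc, Matrix.mul_apply]
      simp only [h]
      rw [← Matrix.mul_apply, Units.inv_mul]
    exact ⟨by rw [h']; rfl, by rw [h']; rfl, by rw [h']; rfl⟩
  obtain ⟨C, hC⟩ : ∃ C, C = cj c := ⟨_, rfl⟩
  have hCd : C * Matrix.diagonal ![1, lam, lam ^ 4] = Matrix.diagonal ![1, lam, lam ^ 4] * C := by
    rw [← hd', hC, ← hcjm, ← hcjm, hcd]
  have hdiag : ∀ i j, i ≠ j → C i j = 0 := fun i j hij => by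
    have h := congrFun (congrFun hCd i) j
    rw [Matrix.mul_diagonal, Matrix.diagonal_mul] at h
    exact (mul_eq_zero.1 (show (![1, lam, lam ^ 4] j - ![1, lam, lam ^ 4] i) * C i j = 0 by
      linear_combination h)).resolve_left (sub_ne_zero.2 fun e => hij (hinj e).symm)
  have h12 : C 1 1 = C 2 2 := by
    have h : (C * cj w) 2 1 = (cj w * C) 2 1 := by rw [hC, ← hcjm, ← hcjm, hcw]
    simp [Matrix.mul_apply, Fin.sum_univ_three, hdiag, hw'.1, hw'.2.1, hw'.2.2] at h
    exact h.symm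
  have hsq : ∀ i, C i i * C i i = 1 := fun i => by
    have h : (C * C) i i = 1 := by
      rw [hC, ← hcjm, hc2]
      simp [cj]
    fin_cases i <;> simpa [Matrix.mul_apply, Fin.sum_univ_three, hdiag] using h
  have hCC : C = Matrix.diagonal ![C 0 0, C 1 1, C 1 1] := by
    ext i j
    fin_cases i <;> fin_cases j <;> simp [hdiag, h12]
  have hαβ : C 0 0 ≠ C 1 1 := fun h => hne2 (by
    have h0 : c = C 0 0 • (1 : Matrix (Fin 3) (Fin 3) ℂ) := by
      have h1 : C = C 0 0 • (1 : Matrix (Fin 3) (Fin 3) ℂ) := by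
        conv_lhs => rw [hCC, ← h]
        ext i j
        fin_cases i <;> fin_cases j <;> simp
      have h2 : c = (Q : Matrix (Fin 3) (Fin 3) ℂ) * cj c * ((Q⁻¹ : GL (Fin 3) ℂ) : Matrix (Fin 3) (Fin 3) ℂ) := by
        simp only [cj, mul_assoc, Units.mul_inv_cancel_left, Units.mul_inv, mul_one]
      rw [h2, ← hC, h1, Matrix.mul_smul, mul_one, Matrix.smul_mul, Units.mul_inv]
      simp
    rw [h0]; simp)
  -- the traces
  have hdetf2 : f.det * f.det = 1 := by rw [← Matrix.det_mul, hf2, Matrix.det_one]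
  have hdetf : f.det = 1 := by
    have h3 : (f * d).det ^ 3 = 1 := by rw [← Matrix.det_pow, hfd, Matrix.det_one]
    rw [Matrix.det_mul, hdetd, mul_one] at h3
    linear_combination h3 - f.det * hdetf2
  have t0 : f.trace = -1 := by
    obtain ⟨x, y, z, hx, hy, hz, htr, hpr, -, hs⟩ := three_roots (by norm_num : 0 < 2) (show f ^ 2 = 1 by rw [pow_two, hf2])
    have hscal : ¬ (x = y ∧ y = z) := fun h => hne1 (by rw [hs h.1 h.2]; simp)
    rw [hdetf] at hpr
    rw [htr]
    rcases sq_eq_one_iff.1 hx with rfl | rfl <;> rcases sq_eq_one_iff.1 hy with rfl | rfl <;>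
      rcases sq_eq_one_iff.1 hz with rfl | rfl <;> first | (exfalso; exact hscal ⟨rfl, rfl⟩) | (exfalso; norm_num at hpr; done) | norm_num
  have t1 : (f * d).trace = 0 := by
    obtain ⟨x, y, z, hx, hy, hz, htr, hpr, -, hs⟩ := three_roots (by norm_num : 0 < 3) hfd
    rw [Matrix.det_mul, hdetf, hdetd, one_mul] at hpr
    have hscal : ¬ (x = y ∧ y = z) := fun h => hne1 (by
      have h1 := hs h.1 h.2
      have hff : f * (f * d) = d := by rw [← mul_assoc, hf2, one_mul]
      have hd'' : d = x • f := by rw [← hff, h1, Matrix.mul_smul, mul_one]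
      rw [hd'', Matrix.mul_smul, Matrix.smul_mul])
    have hx0 : x ≠ 0 := fun e => by rw [e] at hx; norm_num at hx
    have hy0 : y ≠ 0 := fun e => by rw [e] at hy; norm_num at hy
    have hxy : x ≠ y := fun e => hscal ⟨e, by
      subst e
      exact mul_left_cancel₀ (mul_ne_zero hx0 hx0) (by linear_combination hx - hpr.symm)⟩
    have hxz : x ≠ z := fun e => hscal (by
      subst e
      have : y = x := mul_left_cancel₀ (mul_ne_zero hx0 hx0) (by linear_combination hpr.symm - hx)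
      exact ⟨this.symm, this⟩)
    have hyz : y ≠ z := fun e => hscal (by
      subst e
      have : x = y := mul_left_cancel₀ (mul_ne_zero hy0 hy0) (by linear_combination hpr.symm - hy)
      exact ⟨this, rfl⟩)
    have q1 : x ^ 2 + x * y + y ^ 2 = 0 :=
      (mul_eq_zero.1 (show (x - y) * (x ^ 2 + x * y + y ^ 2) = 0 by linear_combination hx - hy)).resolve_left (sub_ne_zero.2 hxy)
    have q2 : x ^ 2 + x * z + z ^ 2 = 0 :=
      (mul_eq_zero.1 (show (x - z) * (x ^ 2 + x * z + z ^ 2) = 0 by linear_combination hx - hz)).resolve_left (sub_ne_zero.2 hxz)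
    rw [htr]
    exact (mul_eq_zero.1 (show (y - z) * (x + y + z) = 0 by linear_combination q1 - q2)).resolve_left (sub_ne_zero.2 hyz)
  have t4 : (f * (w * d * w)).trace = 0 := by
    rw [← mul_assoc, ← mul_assoc, hfw, Matrix.trace_mul_comm, ← mul_assoc, ← mul_assoc, hw2, one_mul, t1]
  have hdi : cj (w * d * w) = Matrix.diagonal ![1, lam ^ 4, lam] := by
    refine (left_inv_eq_right_inv (a := cj d) ?_ (by rw [← hcjm, hwd]; simp [cj])).symm
    rw [hd', Matrix.diagonal_mul_diagonal, ← Matrix.diagonal_one]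
    congr 1; funext i; fin_cases i <;> simp <;> linear_combination hlam5
  rw [← hcjt] at t0 t1 t4
  rw [hcjm, hd'] at t1
  rw [hcjm, hdi] at t4
  have t2 : ((cj f) * Matrix.diagonal ![C 0 0, C 1 1, C 1 1]).trace = (f * c).trace := by
    rw [← hCC, hC, ← hcjm, hcjt]
  simp [Matrix.trace, Fin.sum_univ_three, Matrix.mul_diagonal] at t0 t1 t2 t4
  refine false_of_traces (x := cj f 0 0) (y := cj f 1 1) (z := cj f 2 2) hlam5 hlam1 (hsq 0) (hsq 1) hαβ ?_ ?_ ?_ ?_
  · exact t0
  · linear_combination t1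
  · linear_combination t4
  · have hfin : IsOfFinOrder (f * c) := by
      rw [hf, hc, ← map_mul]
      exact MonoidHom.isOfFinOrder ρ (isOfFinOrder_of_finite _)
    have := ThreeDim.Heis.isIntegral_trace hfin
    simp only [Matrix.trace, Fin.sum_univ_three, Matrix.diag_apply] at this
    rw [← t2] at this
    convert this using 1
    ring

end CfsgLib.Perm.Trans.FiveDim.Pauli
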