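import Cfsg.Agent.Lib.Perm.Trans.FiveDim.Pauli.Clause
import Cfsg.Agent.Lib.Perm.Trans.FiveDim.Pauli.Data
import Cfsg.Agent.Lib.Perm.Trans.ThreeDim.HeisSL

/-!
# The normaliser of a group of order 125 is maximal in `SL₅(p)` for `p ≡ 1 mod 5`
-/

set_option autoImplicit false
set_option linter.all false

namespace CfsgLib.Perm.Trans.FiveDim

open scoped Matrix
open Matrix Cfsg.Geo CfsgLib.Perm.Asch CfsgLib.Perm.Trans

theorem symplectic_maximal {F : Type*} [Field F] [Fintype F]
    (hp : ∃ p : ℕ, p.Prime ∧ Fintype.card F = p ∧ p % 5 = 1) (R : Subgroup (GL (Fin 5) F))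
    (hR : IsLinearSymplecticTypeData 5 R) :
    IsMaximalIn (specialLinear (Fin 5) F) (subgroupNormalizer R ⊓ specialLinear (Fin 5) F) := by
  classical
  obtain ⟨p, hp, hcard, hp5⟩ := hp
  haveI : Fact p.Prime := ⟨hp⟩
  haveI : CharP F p := charP_of_card_eq_prime hcard
  have hp11 : 11 ≤ p := by
    have h2 := hp.two_le
    by_contra h
    interval_cases p <;> first | omega | norm_num at hp
  have h2 : (2 : F) ≠ 0 := fun h => by
    have := Nat.le_of_dvd (by norm_num) ((CharP.cast_eq_zero_iff F p 2).1 (by exact_mod_cast h))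
    omega
  obtain ⟨ω, B, hB⟩ := Pauli.exists_frame h2 hR
  obtain ⟨g, hg⟩ := IsCyclic.exists_ofOrder_eq_natCard (α := Fˣ)
  rw [Nat.card_units, Nat.card_eq_fintype_card, hcard] at hg
  have hne : ∀ k : ℕ, 0 < k → k < p - 1 → (g : F) ^ k ≠ 1 := fun k h0 hk h => by
    have := Nat.le_of_dvd h0 (orderOf_dvd_of_pow_eq_one (show g ^ k = 1 from Units.ext (by simpa using h)))
    omega
  have h := ThreeDim.Heis.isMaximalIn_map (MulAut.conj B) (Pauli.frame_maximal ω hp
    (ThreeDim.Heis.natCast_surjective_of_card hp hcard) g.ne_zero (hne 4 (by norm_num) (by omega))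
    (hne 5 (by norm_num) (by omega)))
  have hSL : ∀ (P x : GL (Fin 5) F), x ∈ specialLinear (Fin 5) F → P * x * P⁻¹ ∈ specialLinear (Fin 5) F :=
    fun P x hx => (inferInstance : (MonoidHom.ker (Matrix.GeneralLinearGroup.det : GL (Fin 5) F →* Fˣ)).Normal).conj_mem x hx P
  rw [Subgroup.map_inf_eq _ _ _ (MulAut.conj B).injective, Subgroup.map_equiv_normalizer_eq,
    ThreeDim.Heis.map_conj_eq_self (hSL B) (fun x hx => by simpa using hSL B⁻¹ x hx), ← hB] at h
  exact h

end CfsgLib.Perm.Trans.FiveDim
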