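import Cfsg.Agent.Lib.Perm.Trans.FiveDim.Pauli.Central
import Cfsg.Agent.Lib.Coprime.SquareFixed.Basic

/-!
# Normal solvable subgroups of overgroups of the frame normalizer in five dimensions

In a group of determinant one matrices containing `D`, `S`, `Q` and `P`, a normal solvable subgroup
that is not central forces `⟨D, S⟩` to be normal.
-/

set_option autoImplicit false
set_option linter.all false

namespace CfsgLib.Perm.Trans.FiveDim.Pauli

open Matrix

variable {F : Type*} [Field F] (ω : Root F)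

local notation "M5" => Matrix (Fin 5) (Fin 5) F
local notation "G5" => GL (Fin 5) F

/-- the central scalar -/
def gZ : G5 := Matrix.GeneralLinearGroup.mkOfDetNeZero (ω.μ • (1 : Matrix (Fin 5) (Fin 5) F))
  (by rw [Matrix.det_smul, Matrix.det_one, mul_one, Fintype.card_fin, ω.pow5]; exact one_ne_zero)

theorem val_gZ : (gZ ω : M5) = ω.μ • (1 : Matrix (Fin 5) (Fin 5) F) := rfl

theorem val_gZ_pow (k : ℕ) : ((gZ ω ^ k : G5) : M5) = ω.μ ^ k • (1 : Matrix (Fin 5) (Fin 5) F) := by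
  rw [Units.val_pow_eq_pow_val, val_gZ, smul_pow, one_pow]

theorem gZ_mem_center : gZ ω ∈ Subgroup.center G5 :=
  Subgroup.mem_center_iff.2 fun w => Units.ext (by simp [val_gZ])

theorem gZ_pow_five : gZ ω ^ 5 = 1 :=
  Units.ext (by rw [val_gZ_pow, ω.pow5, one_smul, Units.val_one])

theorem gD_mul_gS : gD ω * gS ω = gZ ω * (gS ω * gD ω) := Units.ext (by
  rw [Units.val_mul, Units.val_mul, Units.val_mul, val_gD, val_gS, val_gZ, dm_mul_sm, Matrix.smul_mul, one_mul])

theorem gP_conj_gS : gP ω * gS ω * (gP ω)⁻¹ = gD ω := by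
  rw [mul_inv_eq_iff_eq_mul]
  exact Units.ext (by rw [Units.val_mul, Units.val_mul, val_gP, val_gS, val_gD, fm_mul_sm])

theorem gP_conj_gD : gP ω * gD ω * (gP ω)⁻¹ = (gS ω)⁻¹ := by
  rw [mul_inv_eq_iff_eq_mul, eq_inv_mul_iff_mul_eq]
  exact Units.ext (by rw [Units.val_mul, Units.val_mul, val_gP, val_gS, val_gD, sm_fm_dm])

theorem gQ_conj_gD : gQ ω * gD ω * (gQ ω)⁻¹ = gD ω := by
  rw [mul_inv_eq_iff_eq_mul]
  exact Units.ext (by rw [Units.val_mul, Units.val_mul, val_gQ, val_gD, qd_comm_dm])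

theorem gQ_conj_gS : gQ ω * gS ω * (gQ ω)⁻¹ = gZ ω * (gS ω * gD ω ^ 2) := by
  rw [mul_inv_eq_iff_eq_mul]
  exact Units.ext (by
    simp only [Units.val_mul, val_gQ, val_gS, val_gZ, val_gD_pow, qd_mul_sm, Matrix.smul_mul, one_mul])

theorem scalar_of_commute {g : M5} (hD : g * dm ω.μ = dm ω.μ * g) (hS : g * sm = sm * g) :
    g = g 0 0 • 1 := by
  have hk : ∀ i j : Fin 5, i ≠ j → g i j = 0 := fun i j hij => by
    have h := congrFun (congrFun hD i) j
    rw [dm, Matrix.mul_diagonal, Matrix.diagonal_mul] at h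
    have e : ∀ l : Fin 5, ![1, ω.μ, ω.μ ^ 2, ω.μ ^ 3, ω.μ ^ 4] l = ω.μ ^ (l : ℕ) := fun l => by fin_cases l <;> simp
    rw [e, e] at h
    refine (mul_eq_zero.1 (show g i j * (ω.μ ^ (j : ℕ) - ω.μ ^ (i : ℕ)) = 0 by linear_combination h)).resolve_right
      (sub_ne_zero.2 fun e' => ?_)
    refine ω.pow_ne_one (k := (j : ℕ) + (5 - (i : ℕ))) (by have := i.isLt; have := j.isLt; omega) ?_
    rw [pow_add, e', ← pow_add, Nat.add_sub_cancel' i.isLt.le, ω.pow5]
  have e1 := congrFun (congrFun hS 1) 0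
  have e2 := congrFun (congrFun hS 2) 1
  have e3 := congrFun (congrFun hS 3) 2
  have e4 := congrFun (congrFun hS 4) 3
  simp [sm, Matrix.mul_apply, Fin.sum_univ_five] at e1 e2 e3 e4
  ext i j
  fin_cases i <;> fin_cases j <;> simp [hk, e1, e2, e3, e4]

include ω in
theorem mem_center_iff_scalar {g : G5} : g ∈ Subgroup.center G5 ↔ (g : M5) = (g : M5) 0 0 • 1 := by
  constructor
  · intro h
    exact scalar_of_commute ω (congrArg Units.val (Subgroup.mem_center_iff.1 h (gD ω)).symm)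
      (congrArg Units.val (Subgroup.mem_center_iff.1 h (gS ω)).symm)
  · intro h
    refine Subgroup.mem_center_iff.2 fun w => Units.ext ?_
    rw [Units.val_mul, Units.val_mul, h]
    simp

/-- a central element of determinant one is a power of `μ` -/
theorem eq_gZ_pow {z : G5} (hz : z ∈ Subgroup.center G5) (hdet : (z : M5).det = 1) :
    ∃ k : ℕ, z = gZ ω ^ k := by
  have h := (mem_center_iff_scalar ω).1 hz
  rw [h, Matrix.det_smul, Matrix.det_one, mul_one, Fintype.card_fin] at hdet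
  have hprim : IsPrimitiveRoot ω.μ 5 := by
    haveI : Fact (Nat.Prime 5) := ⟨by norm_num⟩
    rw [← orderOf_eq_prime ω.pow5 ω.ne_one]
    exact IsPrimitiveRoot.orderOf _
  obtain ⟨k, -, hk⟩ := hprim.eq_pow_of_pow_eq_one hdet
  exact ⟨k, Units.ext (by rw [val_gZ_pow, hk, ← h])⟩

/-- the exponents of the phase -/
def sq5 : Fin 5 → ℕ := ![0, 1, 4, 4, 1]

theorem qd_entry (i : Fin 5) : ![1, ω.μ, ω.μ ^ 4, ω.μ ^ 4, ω.μ] i = ω.μ ^ sq5 i := by
  fin_cases i <;> simp [sq5]

/-- a commutative space invariant under the frame and two of its normalising elements consists of scalars -/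
theorem scalar_of_invariant_five (V : Submodule F (Matrix (Fin 5) (Fin 5) F))
    (hc : ∀ x ∈ V, ∀ y ∈ V, x * y = y * x)
    (hi : ∀ g ∈ ({gD ω, gS ω, gQ ω, gP ω} : Set G5), ∀ x ∈ V, (g : M5) * x * ((g⁻¹ : G5) : M5) ∈ V) :
    ∀ x ∈ V, x = x 0 0 • (1 : M5) := by
  have h5 := ω.pow5
  have hDi : (((gD ω)⁻¹ : G5) : M5) = dm (ω.μ ^ 4) := by
    rw [show (gD ω)⁻¹ = gD ω ^ 4 from inv_eq_of_mul_eq_one_right (by rw [← pow_succ', gD_pow_five]), val_gD_pow]
  have hQi : (((gQ ω)⁻¹ : G5) : M5) = qd (ω.μ ^ 4) := by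
    rw [show (gQ ω)⁻¹ = gQ ω ^ 4 from inv_eq_of_mul_eq_one_right (by rw [← pow_succ', gQ_pow_five]), val_gQ_pow]
  have hSi : (((gS ω)⁻¹ : G5) : M5) = sm ^ 4 := by
    rw [show (gS ω)⁻¹ = gS ω ^ 4 from inv_eq_of_mul_eq_one_right (by rw [← pow_succ', gS_pow_five]),
      Units.val_pow_eq_pow_val, val_gS]
  -- powers
  have hk : ∀ k : ℕ, ∀ x ∈ V, Matrix.of (fun i j : Fin 5 => ω.μ ^ (((i : ℕ) + 4 * (j : ℕ)) * k) * x i j) ∈ V := by
    intro k
    induction k with
    | zero =>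
      intro x hx
      convert hx using 1
      ext i j; simp
    | succ k ih =>
      intro x hx
      have h := hi (gD ω) (by simp) _ (ih x hx)
      rw [hDi, val_gD] at h
      convert h using 1
      ext i j
      have e : ∀ (c : F) (l : Fin 5), ![1, c, c ^ 2, c ^ 3, c ^ 4] l = c ^ (l : ℕ) := fun c l => by fin_cases l <;> simp
      rw [dm, dm, Matrix.mul_diagonal, Matrix.diagonal_mul, e, e]
      simp only [Matrix.of_apply, ← pow_mul, mul_add, add_mul, mul_one, pow_add]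
      ring
  have hsh : ∀ x ∈ V, Matrix.of (fun i j : Fin 5 => x (i + 4) (j + 4)) ∈ V := by
    intro x hx
    have h := hi (gS ω) (by simp) x hx
    rw [hSi, val_gS] at h
    convert h using 1
    have hs2 : (sm : M5) * sm = !![0, 0, 0, 1, 0; 0, 0, 0, 0, 1; 1, 0, 0, 0, 0; 0, 1, 0, 0, 0; 0, 0, 1, 0, 0] := by
      ext i j
      fin_cases i <;> fin_cases j <;> simp [sm, Matrix.mul_apply, Fin.sum_univ_five]
    rw [show (sm : M5) ^ 4 = sm * sm * (sm * sm) by simp only [pow_succ, pow_zero, one_mul, mul_assoc], hs2]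
    ext i j
    fin_cases i <;> fin_cases j <;>
      simp [sm, Matrix.mul_apply, Matrix.vecMul, dotProduct, Fin.sum_univ_five] <;> rfl
  have hsht : ∀ t : Fin 5, ∀ x ∈ V, Matrix.of (fun i j : Fin 5 => x (i + t) (j + t)) ∈ V := by
    intro t x hx
    have h1 := hsh _ hx
    have h2 := hsh _ h1
    have h3 := hsh _ h2
    have h4 := hsh _ h3
    fin_cases t
    · convert hx using 1; ext i j; simp
    · convert h4 using 1; ext i j; fin_cases i <;> fin_cases j <;> rfl
    · convert h3 using 1; ext i j; fin_cases i <;> fin_cases j <;> rfl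
    · convert h2 using 1; ext i j; fin_cases i <;> fin_cases j <;> rfl
    · exact h1
  -- off the diagonal
  have hoff : ∀ x ∈ V, ∀ i j : Fin 5, i ≠ j → x i j = 0 := by
    intro x hx i₀ j₀ hne
    obtain ⟨d, hd⟩ : ∃ d, d = i₀ - j₀ := ⟨_, rfl⟩
    have hd0 : d ≠ 0 := by rw [hd]; exact sub_ne_zero.2 hne
    have hN : Matrix.of (fun i j : Fin 5 => if i = j + d then x i j else 0) ∈ V := by
      have h := V.smul_mem ((5 : F)⁻¹) (V.sum_mem (t := Finset.range 5) fun k _ =>
        V.smul_mem (ω.μ ^ ((5 - (d : ℕ)) * k)) (hk k x hx))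
      convert h using 1
      ext i j
      have ht : (∑ k ∈ Finset.range 5, ω.μ ^ ((5 - (d : ℕ)) * k) * (ω.μ ^ (((i : ℕ) + 4 * (j : ℕ)) * k) * x i j)) =
          (∑ k ∈ Finset.range 5, (ω.μ ^ (5 - (d : ℕ) + ((i : ℕ) + 4 * (j : ℕ)))) ^ k) * x i j := by
        rw [Finset.sum_mul]
        refine Finset.sum_congr rfl fun k _ => ?_
        simp only [← pow_mul, add_mul, pow_add]
        ring
      simp only [Matrix.smul_apply, Matrix.sum_apply, Matrix.of_apply, smul_eq_mul, ht]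
      have hmod : ∀ i j d : Fin 5, (i = j + d ↔ (5 - (d : ℕ) + ((i : ℕ) + 4 * (j : ℕ))) % 5 = 0) := by decide
      by_cases e : i = j + d
      · rw [if_pos e, ω.pow_mod, (hmod _ _ _).1 e, pow_zero]
        simp [ω.five]
      · rw [if_neg e]
        have ht1 : ω.μ ^ (5 - (d : ℕ) + ((i : ℕ) + 4 * (j : ℕ))) ≠ 1 := ω.pow_ne_one fun h => e ((hmod _ _ _).2 h)
        rw [geom_sum_eq ht1, ← pow_mul, mul_comm _ 5, pow_mul, h5, one_pow, sub_self, zero_div, zero_mul, mul_zero]
    obtain ⟨N, hNe⟩ : ∃ N, N = Matrix.of (fun i j : Fin 5 => if i = j + d then x i j else 0) := ⟨_, rfl⟩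
    rw [← hNe] at hN
    obtain ⟨v, hv⟩ : ∃ v : Fin 5 → F, v = fun j => N (j + d) j := ⟨_, rfl⟩
    have hz : ∀ i j : Fin 5, i ≠ j + d → N i j = 0 := fun i j h => by rw [hNe]; simp [h]
    have hprod : ∀ A B : M5, (∀ i j : Fin 5, i ≠ j + d → B i j = 0) → ∀ j : Fin 5,
        (A * B) (j + d + d) j = A (j + d + d) (j + d) * B (j + d) j := fun A B hB j => by
      rw [Matrix.mul_apply]
      exact Finset.sum_eq_single (j + d) (fun k _ hk => by rw [hB k j hk, mul_zero]) (by simp)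
    -- against the phase
    have hQN := hi (gQ ω) (by simp) N hN
    rw [hQi, val_gQ] at hQN
    have hQz : ∀ i j : Fin 5, i ≠ j + d → (qd ω.μ * N * qd (ω.μ ^ 4)) i j = 0 := fun i j h => by
      rw [qd, qd, Matrix.mul_diagonal, Matrix.diagonal_mul, hz i j h]; simp
    have hvv : ∀ j : Fin 5, v (j + d) * v j = 0 := fun j => by
      have e := congrFun (congrFun (hc N hN _ hQN) (j + d + d)) j
      rw [hprod _ _ hQz, hprod _ _ hz, qd, qd, Matrix.mul_diagonal, Matrix.diagonal_mul, Matrix.mul_diagonal,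
        Matrix.diagonal_mul] at e
      have q4 : ∀ l : Fin 5, ![1, ω.μ ^ 4, (ω.μ ^ 4) ^ 4, (ω.μ ^ 4) ^ 4, ω.μ ^ 4] l = (ω.μ ^ 4) ^ sq5 l :=
        fun l => by fin_cases l <;> simp [sq5]
      rw [qd_entry, qd_entry, q4, q4] at e
      simp only [← pow_mul] at e
      have hne : ω.μ ^ (sq5 (j + d) + 4 * sq5 j) - ω.μ ^ (sq5 (j + d + d) + 4 * sq5 (j + d)) ≠ 0 := by
        refine sub_ne_zero.2 fun e' => ?_
        have key : ∀ j d : Fin 5, d ≠ 0 →
            (sq5 (j + d) + 4 * sq5 j + 4 * (sq5 (j + d + d) + 4 * sq5 (j + d))) % 5 ≠ 0 := by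
          decide
        refine ω.pow_ne_one (key j d hd0) ?_
        rw [pow_add _ (_ + _) (4 * _), e', ← pow_add, ω.pow_mod, show ∀ a : ℕ, (a + 4 * a) % 5 = 0 from fun a => by omega, pow_zero]
      refine (mul_eq_zero.1 (show (ω.μ ^ (sq5 (j + d) + 4 * sq5 j) - ω.μ ^ (sq5 (j + d + d) + 4 * sq5 (j + d))) *
        (v (j + d) * v j) = 0 from ?_)).resolve_left hne
      subst hv
      rw [pow_add, pow_add]
      linear_combination e
    -- against the shift
    have hSN := hsht d N hN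
    have hSz : ∀ i j : Fin 5, i ≠ j + d → Matrix.of (fun i j : Fin 5 => N (i + d) (j + d)) i j = 0 := fun i j h => by
      rw [Matrix.of_apply]
      exact hz _ _ fun e => h (add_right_cancel e)
    have hcube : ∀ j : Fin 5, v (j + d) = 0 := fun j => by
      have e := congrFun (congrFun (hc N hN _ hSN) (j + d + d)) j
      rw [hprod _ _ hSz, hprod _ _ hz, Matrix.of_apply, Matrix.of_apply] at e
      have e3 : v (j + d) * v (j + d) * v (j + d) = 0 := by
        have e2 : v (j + d) * v (j + d) = v (j + d + d) * v j := by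
          subst hv
          exact e
        linear_combination v (j + d) * e2 + v (j + d + d) * hvv j
      simpa using e3
    have e := hcube (j₀ - d)
    rw [hv, hNe] at e
    simpa [hd] using e
  intro x hx
  have hdiag : x = Matrix.diagonal (fun i => x i i) := by
    ext i j
    by_cases h : i = j
    · simp [h]
    · rw [Matrix.diagonal_apply_ne _ h, hoff x hx i j h]
  obtain ⟨y, hy⟩ : ∃ y, y = (gP ω : M5) * x * (((gP ω)⁻¹ : G5) : M5) := ⟨_, rfl⟩
  have hyV : y ∈ V := hy ▸ hi (gP ω) (by simp) x hx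
  have hydiag : y = Matrix.diagonal (fun i => y i i) := by
    ext i j
    by_cases h : i = j
    · simp [h]
    · rw [Matrix.diagonal_apply_ne _ h, hoff y hyV i j h]
  have hxD : x * dm ω.μ = dm ω.μ * x := by
    rw [hdiag, dm, Matrix.diagonal_mul_diagonal, Matrix.diagonal_mul_diagonal]
    simp only [mul_comm]
  have hyD : y * dm ω.μ = dm ω.μ * y := by
    rw [hydiag, dm, Matrix.diagonal_mul_diagonal, Matrix.diagonal_mul_diagonal]
    simp only [mul_comm]
  refine scalar_of_commute ω hxD ?_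
  have e : (((gP ω)⁻¹ : G5) : M5) * (y * (gD ω : M5)) * (gP ω : M5) =
      (((gP ω)⁻¹ : G5) : M5) * ((gD ω : M5) * y) * (gP ω : M5) := by rw [val_gD, hyD]
  rw [hy, ← gP_conj_gS, Units.val_mul, Units.val_mul] at e
  simp only [mul_assoc, Units.inv_mul, Units.inv_mul_cancel_left, mul_one] at e
  exact e

/-- elements of determinant one commuting with `D` and `S` modulo scalars are monomials -/
theorem exists_monomial {g : G5} (hg : (g : M5).det = 1)
    (hgd : g * gD ω * g⁻¹ * (gD ω)⁻¹ ∈ Subgroup.center G5)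
    (hgs : g * gS ω * g⁻¹ * (gS ω)⁻¹ ∈ Subgroup.center G5) :
    ∃ i j : ℕ, ((gS ω ^ i * gD ω ^ j)⁻¹ * g) ∈ Subgroup.center G5 := by
  have key : ∀ r : G5, g * r * g⁻¹ * r⁻¹ ∈ Subgroup.center G5 →
      ∃ k : ℕ, g * r * g⁻¹ = gZ ω ^ k * r := fun r hz => by
    obtain ⟨k, hk⟩ := eq_gZ_pow ω hz (by
      have h1 : Matrix.GeneralLinearGroup.det (g * r * g⁻¹ * r⁻¹) = 1 := by
        simp [map_mul, map_inv, mul_comm, mul_left_comm]
      rw [← Matrix.GeneralLinearGroup.val_det_apply, h1, Units.val_one])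
    exact ⟨k, by rw [← hk, inv_mul_cancel_right]⟩
  obtain ⟨a, ha⟩ := key _ hgd
  obtain ⟨b, hb⟩ := key _ hgs
  have hcZ : ∀ (k : ℕ) (w : G5), gZ ω ^ k * w = w * gZ ω ^ k := fun k w =>
    (Subgroup.mem_center_iff.1 (Subgroup.pow_mem _ (gZ_mem_center ω) k) w).symm
  have hDS : gD ω * gS ω * (gD ω)⁻¹ = gZ ω * gS ω := by rw [gD_mul_gS, ← mul_assoc, mul_inv_cancel_right]
  have hSD : gS ω * gD ω * (gS ω)⁻¹ = gZ ω ^ 4 * gD ω := by
    rw [mul_inv_eq_iff_eq_mul, mul_assoc, gD_mul_gS, ← mul_assoc, ← pow_succ, gZ_pow_five, one_mul]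
  have hDSn : ∀ n : ℕ, gD ω ^ n * gS ω * (gD ω ^ n)⁻¹ = gZ ω ^ n * gS ω := fun n => by
    induction n with
    | zero => simp
    | succ n ih =>
      rw [pow_succ' (gD ω), _root_.mul_inv_rev, show gD ω * gD ω ^ n * gS ω * ((gD ω ^ n)⁻¹ * (gD ω)⁻¹) =
        gD ω * (gD ω ^ n * gS ω * (gD ω ^ n)⁻¹) * (gD ω)⁻¹ by group, ih, ← mul_assoc, ← hcZ,
        mul_assoc (gZ ω ^ n), mul_assoc (gZ ω ^ n), hDS, ← mul_assoc, ← pow_succ]
  have hSDn : ∀ n : ℕ, gS ω ^ n * gD ω * (gS ω ^ n)⁻¹ = gZ ω ^ (4 * n) * gD ω := fun n => by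
    induction n with
    | zero => simp
    | succ n ih =>
      rw [pow_succ' (gS ω), _root_.mul_inv_rev, show gS ω * gS ω ^ n * gD ω * ((gS ω ^ n)⁻¹ * (gS ω)⁻¹) =
        gS ω * (gS ω ^ n * gD ω * (gS ω ^ n)⁻¹) * (gS ω)⁻¹ by group, ih, ← mul_assoc, ← hcZ,
        mul_assoc (gZ ω ^ (4 * n)), mul_assoc (gZ ω ^ (4 * n)), hSD, ← mul_assoc, ← pow_add, Nat.mul_succ]
  refine ⟨4 * a, b, ?_⟩
  obtain ⟨m, hm⟩ : ∃ m, m = gS ω ^ (4 * a) * gD ω ^ b := ⟨_, rfl⟩
  rw [← hm]
  have hmD : m * gD ω * m⁻¹ = gZ ω ^ a * gD ω := by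
    rw [show m * gD ω * m⁻¹ = gS ω ^ (4 * a) * gD ω * (gS ω ^ (4 * a))⁻¹ by rw [hm]; group, hSDn,
      pow_eq_pow_mod (4 * (4 * a)) (gZ_pow_five ω), pow_eq_pow_mod a (gZ_pow_five ω)]
    congr 2
    omega
  have hmS : m * gS ω * m⁻¹ = gZ ω ^ b * gS ω := by
    rw [show m * gS ω * m⁻¹ = gS ω ^ (4 * a) * (gD ω ^ b * gS ω * (gD ω ^ b)⁻¹) * (gS ω ^ (4 * a))⁻¹ by
      rw [hm]; group, hDSn, ← mul_assoc, ← hcZ]
    group
  have hcomm : ∀ r : G5, g * r * g⁻¹ = m * r * m⁻¹ → Commute (m⁻¹ * g) r := fun r h => by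
    have h' : m⁻¹ * g * r * (m⁻¹ * g)⁻¹ = r := by
      rw [show m⁻¹ * g * r * (m⁻¹ * g)⁻¹ = m⁻¹ * (g * r * g⁻¹) * m by group, h]; group
    exact mul_inv_eq_iff_eq_mul.1 h'
  exact (mem_center_iff_scalar ω).2 (scalar_of_commute ω
    (congrArg Units.val (hcomm _ (ha.trans hmD.symm)).eq) (congrArg Units.val (hcomm _ (hb.trans hmS.symm)).eq))

/-- the group of the frame -/
def gR : Subgroup G5 := Subgroup.closure {gD ω, gS ω}

theorem gD_mem : gD ω ∈ gR ω := Subgroup.subset_closure (by simp)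

theorem gS_mem : gS ω ∈ gR ω := Subgroup.subset_closure (by simp)

theorem gZ_mem : gZ ω ∈ gR ω := by
  rw [← mul_inv_cancel_right (gZ ω) (gS ω * gD ω), ← gD_mul_gS]
  exact mul_mem (mul_mem (gD_mem ω) (gS_mem ω)) (inv_mem (mul_mem (gS_mem ω) (gD_mem ω)))

/-- an element of order five in a set of exponent five fixed by two commuting elements of order five -/
theorem exists_fixed_pair {G : Type*} [Group G] [Finite G] {A : Subgroup G} (hAc : ∀ x ∈ A, ∀ y ∈ A, x * y = y * x)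
    {d s : G} (hd : d ^ 5 = 1) (hs : s ^ 5 = 1) (hds : Commute d s) (hnd : ∀ x ∈ A, d * x * d⁻¹ ∈ A)
    (hns : ∀ x ∈ A, s * x * s⁻¹ ∈ A) {u : G} (hu : u ∈ A) (hu5 : u ^ 5 = 1) (hu1 : u ≠ 1) :
    ∃ v ∈ A, v ≠ 1 ∧ Commute v d ∧ Commute v s := by
  classical
  haveI : Fact (Nat.Prime 5) := ⟨by norm_num⟩
  let B : Subgroup G :=
    { carrier := {x | x ∈ A ∧ x ^ 5 = 1}
      mul_mem' := fun {x y} hx hy => ⟨mul_mem hx.1 hy.1, by
        rw [(show Commute x y from hAc x hx.1 y hy.1).mul_pow, hx.2, hy.2, one_mul]⟩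
      one_mem' := ⟨one_mem _, one_pow _⟩
      inv_mem' := fun {x} hx => ⟨inv_mem hx.1, by rw [inv_pow, hx.2, inv_one]⟩ }
  obtain ⟨E, hE⟩ : ∃ E, E = Subgroup.closure ({d, s} : Set G) := ⟨_, rfl⟩
  have hEB : ∀ e ∈ E, ∀ x ∈ B, e * x * e⁻¹ ∈ B := by
    subst hE
    intro e he
    induction he using Subgroup.closure_induction'' with
    | mem w hw =>
      rcases hw with e | e <;> subst w <;> intro x hx
      · exact ⟨hnd x hx.1, by rw [conj_pow, hx.2, mul_one, mul_inv_cancel]⟩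
      · exact ⟨hns x hx.1, by rw [conj_pow, hx.2, mul_one, mul_inv_cancel]⟩
    | inv_mem w hw =>
      rcases hw with e | e <;> subst w <;> intro x hx
      · rw [inv_eq_of_mul_eq_one_right (show d * d ^ 4 = 1 by rw [← pow_succ', hd])]
        exact ⟨by
          have h := hnd _ (hnd _ (hnd _ (hnd _ hx.1)))
          simpa [pow_succ, pow_zero, mul_assoc] using h, by rw [conj_pow, hx.2, mul_one, mul_inv_cancel]⟩
      · rw [inv_eq_of_mul_eq_one_right (show s * s ^ 4 = 1 by rw [← pow_succ', hs])]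
        exact ⟨by
          have h := hns _ (hns _ (hns _ (hns _ hx.1)))
          simpa [pow_succ, pow_zero, mul_assoc] using h, by rw [conj_pow, hx.2, mul_one, mul_inv_cancel]⟩
    | one => intro x hx; simpa using hx
    | mul a b _ _ ha hb =>
      intro x hx
      rw [show a * b * x * (a * b)⁻¹ = a * (b * x * b⁻¹) * a⁻¹ by group]
      exact ha _ (hb _ hx)
  have hcent : ∀ e ∈ E, Commute e d ∧ Commute e s := by
    subst hE
    intro e he
    induction he using Subgroup.closure_induction with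
    | mem w hw =>
      rcases hw with rfl | rfl
      · exact ⟨Commute.refl _, hds⟩
      · exact ⟨hds.symm, Commute.refl _⟩
    | one => exact ⟨Commute.one_left _, Commute.one_left _⟩
    | mul a b _ _ ha hb => exact ⟨ha.1.mul_left hb.1, ha.2.mul_left hb.2⟩
    | inv a _ ha => exact ⟨ha.1.inv_left, ha.2.inv_left⟩
  have hE5 : ∀ e ∈ E, e ^ 5 = 1 := by
    intro e he
    have hc := hcent
    subst hE
    induction he using Subgroup.closure_induction with
    | mem w hw => rcases hw with rfl | rfl <;> assumption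
    | one => simp
    | mul a b ha hb' iha ihb =>
      have hab : Commute a b := by
        have hle : Subgroup.closure ({d, s} : Set G) ≤ Subgroup.centralizer {a} := by
          rw [Subgroup.closure_le]
          rintro w (rfl | rfl)
          · exact Subgroup.mem_centralizer_singleton_iff.2 (hc a ha).1.eq.symm
          · exact Subgroup.mem_centralizer_singleton_iff.2 (hc a ha).2.eq.symm
        exact (Subgroup.mem_centralizer_singleton_iff.1 (hle hb')).symm
      rw [hab.mul_pow, iha, ihb, one_mul]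
    | inv a _ iha => rw [inv_pow, iha, inv_one]
  have hEp : IsPGroup 5 E := fun e => ⟨1, Subtype.ext (by simpa using hE5 e e.2)⟩
  letI : MulAction E B :=
    { smul := fun e x => ⟨e * x * (e : G)⁻¹, hEB e e.2 x x.2⟩
      one_smul := fun x => Subtype.ext (show (1 : G) * x * (1 : G)⁻¹ = x by simp)
      mul_smul := fun a b x => Subtype.ext (show ((a : G) * b) * x * ((a : G) * b)⁻¹ = a * (b * x * (b : G)⁻¹) * (a : G)⁻¹ by group) }
  have h5B : 5 ∣ Nat.card B := by
    have : orderOf (⟨u, hu, hu5⟩ : B) = 5 :=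
      orderOf_eq_prime (Subtype.ext (by simpa using hu5)) fun e => hu1 (congrArg Subtype.val e)
    have h' := orderOf_dvd_natCard (⟨u, hu, hu5⟩ : B)
    rwa [this] at h'
  obtain ⟨v, hv, hv1⟩ := hEp.exists_fixed_point_of_prime_dvd_card_of_fixed_point B h5B
    (a := 1) (fun e => Subtype.ext (show (e : G) * 1 * (e : G)⁻¹ = 1 by simp))
  have hfix : ∀ e ∈ E, Commute (v : G) e := fun e he => by
    have h : e * (v : G) * e⁻¹ = v := congrArg Subtype.val (hv ⟨e, he⟩)
    exact (mul_inv_eq_iff_eq_mul.1 h).symm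
  exact ⟨v, v.2.1, fun e => hv1 (Subtype.ext e.symm),
    hfix d (hE ▸ Subgroup.subset_closure (by simp)), hfix s (hE ▸ Subgroup.subset_closure (by simp))⟩

variable [Finite F]

/-- a normal solvable noncentral subgroup makes `⟨D, S⟩` normal -/
theorem le_normalizer_of_solvable {H K : Subgroup G5} (hdet : ∀ g ∈ H, (g : M5).det = 1)
    (hD : gD ω ∈ H) (hS : gS ω ∈ H) (hQ : gQ ω ∈ H) (hP : gP ω ∈ H)
    (hKH : K ≤ H) (hn : H ≤ Subgroup.normalizer (K : Set G5))
    (hsol : Group.IsSolvable K) (hnc : ¬ K ≤ Subgroup.center G5) :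
    H ≤ Subgroup.normalizer (gR ω : Set G5) := by
  classical
  -- a term of the derived series with central commutators
  obtain ⟨A, hAH, hnA, hAc, hAnc⟩ : ∃ A : Subgroup G5, A ≤ H ∧ H ≤ Subgroup.normalizer (A : Set G5) ∧
      (∀ x ∈ A, ∀ y ∈ A, x * y * x⁻¹ * y⁻¹ ∈ Subgroup.center G5) ∧ ¬ A ≤ Subgroup.center G5 := by
    let D : ℕ → Subgroup G5 := fun k => (derivedSeries K k).map K.subtype
    have hex : ∃ k, D k ≤ Subgroup.center G5 := by
      obtain ⟨k, hk⟩ := hsol.solvable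
      exact ⟨k, by simp only [D, hk, Subgroup.map_bot, bot_le]⟩
    obtain ⟨j, hj⟩ : ∃ j, Nat.find hex = j + 1 := Nat.exists_eq_succ_of_ne_zero fun e => hnc (by
      have := Nat.find_spec hex
      rw [e] at this
      simpa [D, ← MonoidHom.range_eq_map] using this)
    refine ⟨D j, (Subgroup.map_subtype_le _).trans hKH,
      hn.trans (Coprime.SquareFixed.normalizer_le_normalizer_map K (derivedSeries K j)),
      fun x hx y hy => ?_, Nat.find_min hex (by omega)⟩
    have hsp := Nat.find_spec hex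
    rw [hj] at hsp
    obtain ⟨x', hx', rfl⟩ := hx
    obtain ⟨y', hy', rfl⟩ := hy
    refine hsp ⟨x' * y' * x'⁻¹ * y'⁻¹, ?_, rfl⟩
    rw [← commutatorElement_def, derivedSeries_succ]
    exact Subgroup.commutator_mem_commutator hx' hy'
  have hcj : ∀ g ∈ H, ∀ x ∈ A, g * x * g⁻¹ ∈ A := fun g hg x hx =>
    (Subgroup.mem_normalizer_iff.1 (hnA hg) x).1 hx
  let π := QuotientGroup.mk' (Subgroup.center G5)
  have hπ : ∀ g : G5, π g = 1 ↔ g ∈ Subgroup.center G5 := fun g => QuotientGroup.eq_one_iff g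
  -- an element of order five modulo scalars
  obtain ⟨u, hu, hu5, hu1⟩ : ∃ u ∈ A.map π, u ^ 5 = 1 ∧ u ≠ 1 := by
    by_contra hno
    refine hAnc fun a ha => (mem_center_iff_scalar ω).2 ?_
    have habel : ∀ x ∈ A, ∀ y ∈ A, x * y = y * x := by
      intro x hx y hy
      have hz := hAc x hx y hy
      obtain ⟨z, hze⟩ : ∃ z, z = x * y * x⁻¹ * y⁻¹ := ⟨_, rfl⟩
      rw [← hze] at hz
      obtain ⟨k, hk⟩ := eq_gZ_pow ω hz (hdet _ (hze ▸ mul_mem (mul_mem (mul_mem (hAH hx) (hAH hy))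
        (inv_mem (hAH hx))) (inv_mem (hAH hy))))
      have hz5 : z ^ 5 = 1 := by rw [hk, ← pow_mul, mul_comm, pow_mul, gZ_pow_five, one_pow]
      have hxy : x * y * x⁻¹ = z * y := by rw [hze]; group
      have hxn : ∀ n : ℕ, x ^ n * y * (x ^ n)⁻¹ = z ^ n * y := fun n => by
        induction n with
        | zero => simp
        | succ n ih =>
          rw [pow_succ' x, _root_.mul_inv_rev, show x * x ^ n * y * ((x ^ n)⁻¹ * x⁻¹) =
            x * (x ^ n * y * (x ^ n)⁻¹) * x⁻¹ by group, ih, ← mul_assoc, Subgroup.mem_center_iff.1 (pow_mem hz n) x,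
            mul_assoc (z ^ n), mul_assoc (z ^ n), hxy, ← mul_assoc, ← pow_succ]
      have h5 : ¬ 5 ∣ orderOf (π x) := fun h => by
        obtain ⟨c, hc⟩ := h
        have hpos := orderOf_pos (π x)
        refine hno ⟨π x ^ c, pow_mem (Subgroup.mem_map_of_mem π hx) c, ?_, fun e => ?_⟩
        · rw [← pow_mul, mul_comm, ← hc, pow_orderOf_eq_one]
        · have := Nat.le_of_dvd (by omega) (orderOf_dvd_of_pow_eq_one e)
          omega
      have hzm : z ^ orderOf (π x) = 1 := by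
        have hcen : x ^ orderOf (π x) ∈ Subgroup.center G5 :=
          (hπ _).1 (by rw [map_pow, pow_orderOf_eq_one])
        have h := hxn (orderOf (π x))
        rw [← Subgroup.mem_center_iff.1 hcen y, mul_inv_cancel_right] at h
        exact (mul_eq_right.1 h.symm)
      have hz1 : z = 1 := by
        rw [← orderOf_eq_one_iff]
        haveI : Fact (Nat.Prime 5) := ⟨by norm_num⟩
        rcases (Nat.dvd_prime (by norm_num : Nat.Prime 5)).1 (orderOf_dvd_of_pow_eq_one hz5) with e | e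
        · exact e
        · have h6 := orderOf_dvd_of_pow_eq_one hzm
          rw [e] at h6
          exact absurd h6 h5
      rw [hze, mul_inv_eq_one, mul_inv_eq_iff_eq_mul] at hz1
      exact hz1
    obtain ⟨S, hSe⟩ : ∃ S : Set M5, S = (fun g : G5 => (g : M5)) '' (A : Set G5) := ⟨_, rfl⟩
    refine scalar_of_invariant_five ω (Submodule.span F S) ?_ ?_ _ (Submodule.subset_span (hSe ▸ ⟨a, ha, rfl⟩))
    · have h0 : ∀ x ∈ S, ∀ y ∈ S, x * y = y * x := by
        subst hSe
        rintro _ ⟨x, hx, rfl⟩ _ ⟨y, hy, rfl⟩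
        rw [← Units.val_mul, ← Units.val_mul, habel x hx y hy]
      have h1 : ∀ x ∈ S, ∀ y ∈ Submodule.span F S, x * y = y * x := by
        intro x hx y hy
        induction hy using Submodule.span_induction with
        | mem m hm => exact h0 x hx m hm
        | zero => simp
        | add a b _ _ ha hb => rw [mul_add, add_mul, ha, hb]
        | smul c a _ ha => rw [Matrix.mul_smul, Matrix.smul_mul, ha]
      intro x hx y hy
      induction hx using Submodule.span_induction with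
      | mem m hm => exact h1 m hm y hy
      | zero => simp
      | add a b _ _ ha hb => rw [mul_add, add_mul, ha, hb]
      | smul c a _ ha => rw [Matrix.mul_smul, Matrix.smul_mul, ha]
    · intro g hg x hx
      have hgH : g ∈ H := by rcases hg with rfl | rfl | rfl | rfl <;> assumption
      induction hx using Submodule.span_induction with
      | mem m hm =>
        subst hSe
        obtain ⟨b, hb, rfl⟩ := hm
        rw [← Units.val_mul, ← Units.val_mul]
        exact Submodule.subset_span ⟨_, hcj g hgH b hb, rfl⟩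
      | zero => simp
      | add a b _ _ ha hb => rw [mul_add, add_mul]; exact add_mem ha hb
      | smul c a _ ha => rw [Matrix.mul_smul, Matrix.smul_mul]; exact Submodule.smul_mem _ c ha
  -- the image modulo scalars
  obtain ⟨Ā, hĀ⟩ : ∃ Ā, Ā = A.map π := ⟨_, rfl⟩
  rw [← hĀ] at hu
  have hĀc : ∀ u ∈ Ā, ∀ v ∈ Ā, u * v = v * u := by
    subst hĀ
    rintro _ ⟨x, hx, rfl⟩ _ ⟨y, hy, rfl⟩
    have := (hπ _).2 (hAc x hx y hy)
    rw [map_mul, map_mul, map_mul, map_inv, map_inv, mul_inv_eq_one, mul_inv_eq_iff_eq_mul] at this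
    exact this
  obtain ⟨d, hd⟩ : ∃ d, d = π (gD ω) := ⟨_, rfl⟩
  obtain ⟨s, hs⟩ : ∃ s, s = π (gS ω) := ⟨_, rfl⟩
  have hd5 : d ^ 5 = 1 := by rw [hd, ← map_pow, gD_pow_five, map_one]
  have hs5 : s ^ 5 = 1 := by rw [hs, ← map_pow, gS_pow_five, map_one]
  have hds : Commute d s := by
    show d * s = s * d
    rw [hd, hs, ← map_mul, gD_mul_gS, map_mul, (hπ _).2 (gZ_mem_center ω), one_mul, map_mul]
  have hnĀ : ∀ g ∈ H, ∀ u ∈ Ā, π g * u * (π g)⁻¹ ∈ Ā := by
    subst hĀ
    rintro g hg _ ⟨x, hx, rfl⟩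
    exact ⟨_, hcj g hg x hx, by simp [map_mul]⟩
  haveI : Finite (G5 ⧸ Subgroup.center G5) := inferInstance
  obtain ⟨v, hv, hv1, hvd, hvs⟩ := exists_fixed_pair hĀc hd5 hs5 hds (hd ▸ hnĀ _ hD) (hs ▸ hnĀ _ hS) hu hu5 hu1
  have hmono : ∀ g ∈ H, Commute (π g) d → Commute (π g) s → ∃ i j : ℕ, π g = s ^ i * d ^ j := by
    intro g hg hgd hgs
    have hc : ∀ r : G5, Commute (π g) (π r) → g * r * g⁻¹ * r⁻¹ ∈ Subgroup.center G5 := fun r h => (hπ _).1 (by
      rw [map_mul, map_mul, map_mul, map_inv, map_inv, h.eq, mul_inv_cancel_right, mul_inv_cancel])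
    obtain ⟨i, j, h⟩ := exists_monomial ω (hdet g hg) (hc _ (hd ▸ hgd)) (hc _ (hs ▸ hgs))
    refine ⟨i, j, ?_⟩
    have := (hπ _).2 h
    rw [map_mul, map_inv, inv_mul_eq_one, map_mul, map_pow, map_pow] at this
    rw [hd, hs]
    exact this.symm
  obtain ⟨v', hv', rfl⟩ : ∃ v' ∈ A, π v' = v := by rw [hĀ] at hv; exact hv
  obtain ⟨i, j, hij⟩ := hmono v' (hAH hv') hvd hvs
  have ha : s ^ i * d ^ j ∈ Ā := hij ▸ hv
  have hroot : ∀ (t : G5 ⧸ Subgroup.center G5) (n : ℕ), t ^ 5 = 1 → t ^ n ∈ Ā → n % 5 ≠ 0 → t ∈ Ā := by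
    intro t n ht htn hn5
    have h := pow_mem htn (n ^ 3)
    rw [← pow_mul, pow_eq_pow_mod _ ht, show n * n ^ 3 % 5 = 1 by
      rw [Nat.mul_mod, Nat.pow_mod]
      have := Nat.mod_lt n (show 5 > 0 by norm_num)
      interval_cases n % 5 <;> simp_all, pow_one] at h
    exact h
  have hPd : π (gP ω) * d * (π (gP ω))⁻¹ = s⁻¹ := by
    rw [hd, hs, ← map_inv, ← map_mul, ← map_mul, gP_conj_gD, map_inv]
  have hdĀ : d ∈ Ā := by
    by_cases hi0 : i % 5 = 0
    · rw [pow_eq_pow_mod i hs5, hi0, pow_zero, one_mul] at ha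
      refine hroot d j hd5 ha fun hj0 => hv1 ?_
      rw [hij, pow_eq_pow_mod i hs5, hi0, pow_eq_pow_mod j hd5, hj0, pow_zero, pow_zero, one_mul]
    · have hb := hnĀ _ hQ _ ha
      rw [← conj_mul, ← conj_pow, ← conj_pow] at hb
      rw [show π (gQ ω) * d * (π (gQ ω))⁻¹ = d by rw [hd, ← map_inv, ← map_mul, ← map_mul, gQ_conj_gD],
        show π (gQ ω) * s * (π (gQ ω))⁻¹ = s * d ^ 2 by
          rw [hd, hs, ← map_inv, ← map_mul, ← map_mul, gQ_conj_gS, map_mul, (hπ _).2 (gZ_mem_center ω), one_mul,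
            map_mul, map_pow],
        (hds.symm.pow_right 2).mul_pow, ← pow_mul, mul_assoc, ← pow_add] at hb
      have hq := mul_mem (inv_mem ha) hb
      rw [_root_.mul_inv_rev, mul_assoc, inv_mul_cancel_left, add_comm (2 * i), pow_add, inv_mul_cancel_left] at hq
      exact hroot d (2 * i) hd5 hq (by omega)
  have hsĀ : s ∈ Ā := by
    have h := hnĀ _ hP _ hdĀ
    rw [hPd] at h
    simpa using inv_mem h
  -- `H` normalizes `⟨D, S⟩`
  have hgen : ∀ g ∈ H, ∀ r : G5, r ∈ H → π r ∈ Ā → g * r * g⁻¹ ∈ gR ω := by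
    intro g hg r hr hrA
    obtain ⟨w, hw⟩ : ∃ w, w = g * r * g⁻¹ := ⟨_, rfl⟩
    have hwH : w ∈ H := hw ▸ mul_mem (mul_mem hg hr) (inv_mem hg)
    have hwA : π w ∈ Ā := by
      rw [hw, map_mul, map_mul, map_inv]
      exact hnĀ g hg _ hrA
    obtain ⟨a, b, hab⟩ := hmono w hwH (hĀc _ hwA _ hdĀ) (hĀc _ hwA _ hsĀ)
    have hmR : gS ω ^ a * gD ω ^ b ∈ gR ω := mul_mem (pow_mem (gS_mem ω) _) (pow_mem (gD_mem ω) _)
    have hc : (gS ω ^ a * gD ω ^ b)⁻¹ * w ∈ Subgroup.center G5 := (hπ _).1 (by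
      rw [map_mul, map_inv, map_mul, map_pow, map_pow, ← hd, ← hs, ← hab, inv_mul_cancel])
    obtain ⟨k, hk⟩ := eq_gZ_pow ω hc (hdet _ (mul_mem (inv_mem (mul_mem (pow_mem hS _) (pow_mem hD _))) hwH))
    rw [← hw, ← mul_inv_cancel_left (gS ω ^ a * gD ω ^ b) w, hk]
    exact mul_mem hmR (pow_mem (gZ_mem ω) _)
  have hle : ∀ g ∈ H, ∀ r ∈ gR ω, g * r * g⁻¹ ∈ gR ω := by
    intro g hg r hr
    induction hr using Subgroup.closure_induction with
    | mem x hx =>
      rcases hx with rfl | rfl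
      · exact hgen g hg _ hD (hd ▸ hdĀ)
      · exact hgen g hg _ hS (hs ▸ hsĀ)
    | one => simp
    | mul x y _ _ hx hy =>
      rw [← conj_mul]
      exact mul_mem hx hy
    | inv x _ hx =>
      rw [← conj_inv]
      exact inv_mem hx
  intro g hg
  refine Subgroup.mem_normalizer_iff.2 fun r => ⟨hle g hg r, fun h => ?_⟩
  have := hle g⁻¹ (inv_mem hg) _ h
  simpa [mul_assoc] using this

variable {ω} {p : ℕ} {H : Subgroup (GL (Fin 5) F)}

/-- without elementary transvections the group of the frame is normal -/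
theorem Ctx.le_normalizer (hC : Ctx ω p H) : H ≤ Subgroup.normalizer (gR ω : Set G5) := by
  obtain ⟨K, hKH, hn, hsol, hDK, -⟩ := hC.exists_solvable_normal
  refine le_normalizer_of_solvable ω hC.det hC.memD hC.memS hC.memQ hC.memP hKH hn hsol fun h => ω.ne_one ?_
  have e := (mem_center_iff_scalar ω).1 (h hDK)
  have e1 := congrFun (congrFun e 1) 1
  simp [val_gD, dm] at e1
  exact e1

end CfsgLib.Perm.Trans.FiveDim.Pauli
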