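import Mathlib

/-!
# Three by three orthogonal groups with a half turn and an element of order `p`

The normal closure of the half turn contains the whole torus.
-/

set_option autoImplicit false
set_option linter.all false

namespace CfsgLib.Perm.Trans.FiveDim.Pauli

open Matrix

variable {F : Type*} [Field F]

/-- the form `x₀² + 4x₁x₂` -/
def qM : Matrix (Fin 3) (Fin 3) F := !![1, 0, 0; 0, 0, 2; 0, 2, 0]

/-- the skew nilpotent matrices -/
def Lm (s r h : F) : Matrix (Fin 3) (Fin 3) F := !![0, -2 * r, -2 * s; s, h, 0; r, 0, -h]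

/-- truncated exponentials -/
def Ex (L : Matrix (Fin 3) (Fin 3) F) (t : F) : Matrix (Fin 3) (Fin 3) F :=
  1 + t • L + (t * t / 2) • (L * L)

theorem Ex_zero (L : Matrix (Fin 3) (Fin 3) F) : Ex L 0 = 1 := by simp [Ex]

theorem Ex_mul (h2 : (2 : F) ≠ 0) {L : Matrix (Fin 3) (Fin 3) F} (h3 : L * L * L = 0) (a b : F) :
    Ex L a * Ex L b = Ex L (a + b) := by
  simp only [Ex, add_mul, mul_add, one_mul, mul_one, Matrix.smul_mul, Matrix.mul_smul, smul_smul, ← mul_assoc, h3,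
    zero_mul, smul_zero, add_zero]
  match_scalars <;> field_simp <;> ring

theorem Lm_sub (s r : F) (hsr : r = 0 ∨ s = 0) :
    Lm s r 0 * Lm s r 0 * Lm s r (0 : F) = 0 := by
  rcases hsr with rfl | rfl <;>
    (ext i j; fin_cases i <;> fin_cases j <;> simp [Lm, Matrix.mul_apply, Fin.sum_univ_three])

theorem conj_entry (h2 : (2 : F) ≠ 0) {s r h t μ ν : F} (hμν : μ * ν = 1) (hh : h * h = 4 * r * s)
    (ht : t * (h * (1 - ν)) = 2) :
    (Ex (Lm (μ * s) (ν * r) h) t * Lm s r h * Ex (Lm (μ * s) (ν * r) h) (-t)) 2 0 = 0 := by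
  simp [Ex, Lm, Matrix.mul_apply, Matrix.vecMul, dotProduct, Fin.sum_univ_three]
  field_simp
  grind

section Prime

variable {p : ℕ} [hp : Fact p.Prime] [CharP F p]

/-- the logarithm of an orthogonal element of order `p` -/
theorem exists_log (h2 : (2 : F) ≠ 0) {u : GL (Fin 3) F} (hup : u ^ p = 1)
    (hq : (u : Matrix (Fin 3) (Fin 3) F)ᵀ * qM * (u : Matrix (Fin 3) (Fin 3) F) = qM) :
    ∃ s r h : F, h * h = 4 * r * s ∧
      Lm s r h = ((u : Matrix (Fin 3) (Fin 3) F) - 1) - (2 : F)⁻¹ • (((u : Matrix (Fin 3) (Fin 3) F) - 1) * ((u : Matrix (Fin 3) (Fin 3) F) - 1)) ∧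
      (Lm s r h * Lm s r h * Lm s r h = 0) ∧
      ∀ k : ℕ, ((u ^ k : GL (Fin 3) F) : Matrix (Fin 3) (Fin 3) F) = Ex (Lm s r h) k := by
  obtain ⟨N, hN⟩ : ∃ N, N = (u : Matrix (Fin 3) (Fin 3) F) - 1 := ⟨_, rfl⟩
  have hnil : IsNilpotent N := ⟨p, by
    haveI : CharP (Matrix (Fin 3) (Fin 3) F) p :=
      charP_of_injective_ringHom (f := Matrix.scalar (Fin 3)) (fun a b h => Matrix.scalar_inj.1 h) p
    rw [hN, sub_pow_char_of_commute p (Commute.one_right _), one_pow, ← Units.val_pow_eq_pow_val, hup, Units.val_one, sub_self]⟩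
  have hN3 : N * N * N = 0 := by
    have h := Matrix.aeval_self_charpoly N
    rw [sub_eq_zero.1 (IsNilpotent.eq_zero (Matrix.isNilpotent_charpoly_sub_pow_of_isNilpotent hnil)),
      Polynomial.aeval_X_pow, Fintype.card_fin, pow_succ, pow_two] at h
    exact h
  rw [← hN]
  obtain ⟨L, hL⟩ : ∃ L, L = N - (2 : F)⁻¹ • (N * N) := ⟨_, rfl⟩
  have hL2 : L * L = N * N := by
    rw [hL]
    simp only [sub_mul, mul_sub, Matrix.smul_mul, Matrix.mul_smul, ← mul_assoc, hN3, zero_mul, smul_zero, sub_zero]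
  have hL3 : L * L * L = 0 := by
    rw [hL2, hL, mul_sub, Matrix.mul_smul, ← mul_assoc, hN3, zero_mul, smul_zero, sub_zero]
  have hu : (u : Matrix (Fin 3) (Fin 3) F) = Ex L 1 := by
    rw [Ex, hL2, hL, hN]; simp; abel
  have hpow : ∀ k : ℕ, ((u ^ k : GL (Fin 3) F) : Matrix (Fin 3) (Fin 3) F) = Ex L k := fun k => by
    induction k with
    | zero => simp [Ex_zero]
    | succ k ih => rw [pow_succ, Units.val_mul, ih, hu, Ex_mul h2 hL3, Nat.cast_succ]
  have hinv : (u : Matrix (Fin 3) (Fin 3) F) * Ex L (-1) = 1 := by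
    rw [hu, Ex_mul h2 hL3, add_neg_cancel, Ex_zero]
  have h1 : (u : Matrix (Fin 3) (Fin 3) F)ᵀ * qM = qM * Ex L (-1) := by
    conv_rhs => rw [← hq, mul_assoc, hinv, mul_one]
  have h1' : Nᵀ * qM = qM * (Ex L (-1) - 1) := by
    rw [hN, Matrix.transpose_sub, Matrix.transpose_one, sub_mul, h1, mul_sub, one_mul, mul_one]
  have h2' : (N * N)ᵀ * qM = qM * ((Ex L (-1) - 1) * (Ex L (-1) - 1)) := by
    rw [Matrix.transpose_mul, mul_assoc, h1', ← mul_assoc, h1', mul_assoc]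
  have hskew : Lᵀ * qM = -(qM * L) := by
    have e : (Ex L (-1) - 1) - (2 : F)⁻¹ • ((Ex L (-1) - 1) * (Ex L (-1) - 1)) = -L := by
      have e0 : Ex L (-1) - 1 = (-1 : F) • L + (1 / 2 : F) • (L * L) := by
        rw [Ex]
        match_scalars <;> ring
      simp only [e0, add_mul, mul_add, Matrix.smul_mul, Matrix.mul_smul, ← mul_assoc, hL3, zero_mul, smul_zero,
        add_zero]
      match_scalars <;> field_simp <;> ring
    conv_lhs => rw [hL, Matrix.transpose_sub, Matrix.transpose_smul, sub_mul, Matrix.smul_mul, h1', h2']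
    rw [← Matrix.mul_smul, ← mul_sub, e, mul_neg]
  have q := fun i j => congrFun (congrFun hskew i) j
  have q00 := q 0 0
  have q01 := q 0 1
  have q02 := q 0 2
  have q11 := q 1 1
  have q12 := q 1 2
  have q22 := q 2 2
  simp [qM, Matrix.mul_apply, Matrix.vecMul, dotProduct, Fin.sum_univ_three, Matrix.transpose_apply] at q00 q01 q02 q11 q12 q22
  have h4 : (4 : F) ≠ 0 := by
    rw [show (4 : F) = 2 * 2 by norm_num]; exact mul_ne_zero h2 h2
  have hLm : L = Lm (L 1 0) (L 2 0) (L 1 1) := by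
    ext i j
    fin_cases i <;> fin_cases j <;> simp [Lm] <;> grind
  refine ⟨L 1 0, L 2 0, L 1 1, ?_, by rw [← hLm, hL], by rw [← hLm]; exact hL3, fun k => by rw [← hLm]; exact hpow k⟩
  have hnil2 : IsNilpotent (L * L) := ⟨2, by rw [pow_two, ← mul_assoc, hL3, zero_mul]⟩
  have htr := (Matrix.isNilpotent_trace_of_isNilpotent hnil2).eq_zero
  rw [hLm] at htr
  simp [Lm, Matrix.trace, Fin.sum_univ_three, Matrix.mul_apply] at htr
  exact mul_left_cancel₀ h2 (by linear_combination htr)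

variable [Finite F]

/-- the torus lies in every normalised subgroup containing the half turn -/
theorem torus_mem (h2 : (2 : F) ≠ 0) (hsurj : ∀ x : F, ∃ k : ℕ, x = (k : F)) {X K : Subgroup (GL (Fin 3) F)}
    (hX : ∀ g ∈ X, (g : Matrix (Fin 3) (Fin 3) F)ᵀ * qM * (g : Matrix (Fin 3) (Fin 3) F) = qM)
    (hn : ∀ g ∈ X, ∀ k ∈ K, g * k * g⁻¹ ∈ K) {δ W a : GL (Fin 3) F} {μ ν : F} (hμν : μ * ν = 1) (hν1 : ν ≠ 1)
    (hδ : δ ∈ X) (hδv : (δ : Matrix (Fin 3) (Fin 3) F) = Matrix.diagonal ![1, μ, ν])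
    (hW : W ∈ X) (hWv : (W : Matrix (Fin 3) (Fin 3) F) = !![-1, 0, 0; 0, 0, -1; 0, -1, 0])
    (ha : a ∈ K) (hav : (a : Matrix (Fin 3) (Fin 3) F) = Matrix.diagonal ![1, -1, -1])
    (hdvd : p ∣ Nat.card X) {x : F} (hx : x ≠ 0) :
    ∃ g ∈ K, (g : Matrix (Fin 3) (Fin 3) F) = Matrix.diagonal ![1, x * x, (x * x)⁻¹] := by
  classical
  obtain ⟨e, he⟩ := exists_prime_orderOf_dvd_card' p hdvd
  have he1 : (e : GL (Fin 3) F) ≠ 1 := fun h => hp.out.ne_one (by
    rw [← he, ← Subgroup.orderOf_coe, h, orderOf_one])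
  have hep : (e : GL (Fin 3) F) ^ p = 1 := by
    rw [← SubgroupClass.coe_pow, ← he, pow_orderOf_eq_one]; rfl
  -- from a nilpotent with vanishing torus part
  have hpure : ∀ s r : F, ∀ u ∈ X, (s ≠ 0 ∨ r ≠ 0) → (r = 0 ∨ s = 0) →
      (u : Matrix (Fin 3) (Fin 3) F) = Ex (Lm s r 0) 1 → ∀ c, ∃ g ∈ K, (g : Matrix (Fin 3) (Fin 3) F) = Ex (Lm s r 0) c := by
    intro s r u hu _ hsr huv
    have hL3 := Lm_sub s r hsr
    have hai : a⁻¹ = a := inv_eq_of_mul_eq_one_right (Units.ext (by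
      rw [Units.val_mul, hav, Matrix.diagonal_mul_diagonal, Units.val_one, ← Matrix.diagonal_one]
      congr 1; funext i; fin_cases i <;> simp))
    have hui : ((u⁻¹ : GL (Fin 3) F) : Matrix (Fin 3) (Fin 3) F) = Ex (Lm s r 0) (-1) := by
      refine left_inv_eq_right_inv (a := (u : Matrix (Fin 3) (Fin 3) F)) (Units.inv_mul u) ?_
      rw [huv, Ex_mul h2 hL3, add_neg_cancel, Ex_zero]
    have h := mul_mem ha (hn u hu a⁻¹ (inv_mem ha))
    have hv : ((a * (u * a⁻¹ * u⁻¹) : GL (Fin 3) F) : Matrix (Fin 3) (Fin 3) F) = Ex (Lm s r 0) (-2) := by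
      rw [← mul_assoc, ← mul_assoc, Units.val_mul, Units.val_mul, Units.val_mul, hai, huv, hui, hav]
      have : Matrix.diagonal ![(1 : F), -1, -1] * Ex (Lm s r 0) 1 * Matrix.diagonal ![1, -1, -1] = Ex (Lm s r 0) (-1) := by
        ext i j
        fin_cases i <;> fin_cases j <;>
          simp [Ex, Lm, Matrix.mul_apply, Matrix.vecMul, dotProduct, Fin.sum_univ_three, Matrix.diagonal_apply]
      rw [this, Ex_mul h2 hL3]
      norm_num
    intro c
    obtain ⟨k, hk⟩ := hsurj (-c / 2)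
    refine ⟨(a * (u * a⁻¹ * u⁻¹)) ^ k, pow_mem h k, ?_⟩
    have hp' : ∀ n : ℕ, (((a * (u * a⁻¹ * u⁻¹)) ^ n : GL (Fin 3) F) : Matrix (Fin 3) (Fin 3) F) = Ex (Lm s r 0) ((n : F) * -2) := fun n => by
      induction n with
      | zero => simp [Ex_zero]
      | succ n ih => rw [pow_succ, Units.val_mul, ih, hv, Ex_mul h2 hL3]; congr 1; push_cast; ring
    rw [hp', ← hk]
    congr 1
    field_simp
  -- the flip
  have hflip : ∀ s r c : F, (∃ g ∈ K, (g : Matrix (Fin 3) (Fin 3) F) = Ex (Lm s r 0) c) →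
      ∃ g ∈ K, (g : Matrix (Fin 3) (Fin 3) F) = Ex (Lm r s 0) c := by
    rintro s r c ⟨g, hg, hgv⟩
    refine ⟨W * g * W⁻¹, hn W hW g hg, ?_⟩
    have hWi : W⁻¹ = W := inv_eq_of_mul_eq_one_right (Units.ext (by
      rw [Units.val_mul, hWv, Units.val_one]
      ext i j; fin_cases i <;> fin_cases j <;> simp [Matrix.mul_apply, Fin.sum_univ_three]))
    rw [hWi, Units.val_mul, Units.val_mul, hgv, hWv]
    ext i j
    fin_cases i <;> fin_cases j <;>
      simp [Ex, Lm, Matrix.mul_apply, Matrix.vecMul, dotProduct, Fin.sum_univ_three] <;>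
      first | ring1 | (left; ring1) | ring
  -- all elements of the two root groups
  have hroot : ∃ s : F, s ≠ 0 ∧ ∀ c, ∃ g ∈ K, (g : Matrix (Fin 3) (Fin 3) F) = Ex (Lm s 0 0) c := by
    obtain ⟨s, r, h, hh, hLeq, hL3, hpow⟩ := exists_log h2 hep (hX _ e.2)
    have hev : ((e : GL (Fin 3) F) : Matrix (Fin 3) (Fin 3) F) = Ex (Lm s r h) 1 := by
      rw [← pow_one (e : GL (Fin 3) F), hpow]; simp
    have hne : s ≠ 0 ∨ r ≠ 0 ∨ h ≠ 0 := by
      by_contra hcon
      push Not at hcon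
      obtain ⟨rfl, rfl, rfl⟩ := hcon
      refine he1 (Units.ext ?_)
      rw [hev, Units.val_one]
      ext i j; fin_cases i <;> fin_cases j <;> simp [Ex, Lm]
    have fin : ∀ u ∈ X, ∀ s r : F, (s ≠ 0 ∨ r ≠ 0) → (r = 0 ∨ s = 0) →
        (u : Matrix (Fin 3) (Fin 3) F) = Ex (Lm s r 0) 1 →
        ∃ s : F, s ≠ 0 ∧ ∀ c, ∃ g ∈ K, (g : Matrix (Fin 3) (Fin 3) F) = Ex (Lm s 0 0) c := by
      intro u hu s r hne hsr huv
      rcases hsr with rfl | rfl
      · exact ⟨s, hne.resolve_right (by simp), hpure s 0 u hu hne (Or.inl rfl) huv⟩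
      · exact ⟨r, hne.resolve_left (by simp), fun c => hflip 0 r c (hpure 0 r u hu hne (Or.inr rfl) huv c)⟩
    by_cases hh0 : h = 0
    · subst hh0
      have hrs : r = 0 ∨ s = 0 := by
        have : (4 : F) * (r * s) = 0 := by linear_combination -hh
        rcases mul_eq_zero.1 ((mul_eq_zero.1 this).resolve_left (by
          rw [show (4 : F) = 2 * 2 by norm_num]; exact mul_ne_zero h2 h2)) with h' | h'
        · exact Or.inl h'
        · exact Or.inr h'
      exact fin _ e.2 s r (by rcases hne with h' | h' | h'; exacts [Or.inl h', Or.inr h', absurd rfl h']) hrs hev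
    -- move the fixed line to a coordinate line
    obtain ⟨t, ht⟩ : ∃ t, t * (h * (1 - ν)) = 2 :=
      ⟨2 / (h * (1 - ν)), div_mul_cancel₀ _ (mul_ne_zero hh0 (sub_ne_zero.2 (Ne.symm hν1)))⟩
    obtain ⟨k, hk⟩ := hsurj t
    set g := δ * (e : GL (Fin 3) F) ^ k * δ⁻¹ with hg
    have hgX : g ∈ X := mul_mem (mul_mem hδ (pow_mem e.2 k)) (inv_mem hδ)
    have hδi : ((δ⁻¹ : GL (Fin 3) F) : Matrix (Fin 3) (Fin 3) F) = Matrix.diagonal ![1, ν, μ] := by
      refine left_inv_eq_right_inv (a := (δ : Matrix (Fin 3) (Fin 3) F)) (Units.inv_mul δ) ?_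
      rw [hδv, Matrix.diagonal_mul_diagonal, ← Matrix.diagonal_one]
      congr 1; funext i; fin_cases i <;> simp <;> linear_combination hμν
    have hgv : (g : Matrix (Fin 3) (Fin 3) F) = Ex (Lm (μ * s) (ν * r) h) t := by
      rw [hg, Units.val_mul, Units.val_mul, hpow, hδv, hδi, ← hk]
      ext i j
      fin_cases i <;> fin_cases j <;>
        simp [Ex, Lm, Matrix.mul_apply, Matrix.vecMul, dotProduct, Fin.sum_univ_three, Matrix.diagonal_apply] <;> grind
    have hL3' : Lm (μ * s) (ν * r) h * Lm (μ * s) (ν * r) h * Lm (μ * s) (ν * r) h = 0 := by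
      have e' : Lm (μ * s) (ν * r) h = Matrix.diagonal ![1, μ, ν] * Lm s r h * Matrix.diagonal ![1, ν, μ] := by
        ext i j
        fin_cases i <;> fin_cases j <;>
          simp [Lm, Matrix.mul_apply, Matrix.vecMul, dotProduct, Fin.sum_univ_three, Matrix.diagonal_apply] <;> grind
      have hinv : Matrix.diagonal ![1, ν, μ] * Matrix.diagonal ![(1 : F), μ, ν] = 1 := by
        rw [Matrix.diagonal_mul_diagonal, ← Matrix.diagonal_one]
        congr 1; funext i; fin_cases i <;> simp <;> linear_combination hμν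
      rw [e']
      simp only [mul_assoc]
      rw [← mul_assoc (Matrix.diagonal ![1, ν, μ]) (Matrix.diagonal ![1, μ, ν]), hinv, one_mul,
        ← mul_assoc (Matrix.diagonal ![1, ν, μ]) (Matrix.diagonal ![1, μ, ν]), hinv, one_mul,
        ← mul_assoc (Lm s r h) (Lm s r h), ← mul_assoc (Lm s r h * Lm s r h), hL3, zero_mul, mul_zero]
    have hgi : ((g⁻¹ : GL (Fin 3) F) : Matrix (Fin 3) (Fin 3) F) = Ex (Lm (μ * s) (ν * r) h) (-t) := by
      refine left_inv_eq_right_inv (a := (g : Matrix (Fin 3) (Fin 3) F)) (Units.inv_mul g) ?_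
      rw [hgv, Ex_mul h2 hL3', add_neg_cancel, Ex_zero]
    have hwp : (g * (e : GL (Fin 3) F) * g⁻¹) ^ p = 1 := by rw [conj_pow, hep, mul_one, mul_inv_cancel]
    have hwX : g * (e : GL (Fin 3) F) * g⁻¹ ∈ X := mul_mem (mul_mem hgX e.2) (inv_mem hgX)
    obtain ⟨s', r', h', hh', hLeq', -, hpow'⟩ := exists_log h2 hwp (hX _ hwX)
    have hL' : Lm s' r' h' = (g : Matrix (Fin 3) (Fin 3) F) * Lm s r h * ((g⁻¹ : GL (Fin 3) F) : Matrix (Fin 3) (Fin 3) F) := by
      have hsub : ((g * (e : GL (Fin 3) F) * g⁻¹ : GL (Fin 3) F) : Matrix (Fin 3) (Fin 3) F) - 1 =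
          (g : Matrix (Fin 3) (Fin 3) F) * (((e : GL (Fin 3) F) : Matrix (Fin 3) (Fin 3) F) - 1) * ((g⁻¹ : GL (Fin 3) F) : Matrix (Fin 3) (Fin 3) F) := by
        rw [Units.val_mul, Units.val_mul, mul_sub, sub_mul, mul_one, Units.mul_inv]
      rw [hLeq', hLeq, hsub]
      simp only [Matrix.mul_smul, Matrix.smul_mul, mul_sub, sub_mul, mul_assoc, Units.inv_mul_cancel_left, mul_one,
        one_mul, Units.mul_inv]
    have hr' : r' = 0 := by
      have h20 := congrFun (congrFun hL' 2) 0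
      rw [hgv, hgi, conj_entry h2 hμν hh ht] at h20
      simpa [Lm] using h20
    subst hr'
    obtain rfl : h' = 0 := by
      have : h' * h' = 0 := by linear_combination hh'
      exact mul_self_eq_zero.1 this
    have hwv : ((g * (e : GL (Fin 3) F) * g⁻¹ : GL (Fin 3) F) : Matrix (Fin 3) (Fin 3) F) = Ex (Lm s' 0 0) 1 := by
      rw [← pow_one (g * (e : GL (Fin 3) F) * g⁻¹), hpow']; simp
    refine fin _ hwX s' 0 (Or.inl fun h0 => ?_) (Or.inl rfl) hwv
    subst h0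
    have h1 : g * (e : GL (Fin 3) F) * g⁻¹ = 1 := Units.ext (by
      rw [hwv, Units.val_one]
      ext i j; fin_cases i <;> fin_cases j <;> simp [Ex, Lm])
    exact he1 (conj_eq_one_iff.1 h1)
  obtain ⟨s, hs, hS⟩ := hroot
  have key : ∀ y : F, y ≠ 0 → ∃ g ∈ K, (g : Matrix (Fin 3) (Fin 3) F) = !![-1, 0, 0; 0, 0, -(y * y); 0, -(y * y)⁻¹, 0] := by
    intro y hy
    obtain ⟨g₁, hg₁, hv₁⟩ := hS (y / s)
    obtain ⟨g₂, hg₂, hv₂⟩ := hflip s 0 _ (hS (1 / (y * s)))
    refine ⟨g₁ * g₂ * g₁, mul_mem (mul_mem hg₁ hg₂) hg₁, ?_⟩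
    rw [Units.val_mul, Units.val_mul, hv₁, hv₂]
    ext i j
    fin_cases i <;> fin_cases j <;>
      simp [Ex, Lm, Matrix.mul_apply, Matrix.vecMul, dotProduct, Fin.sum_univ_three] <;> field_simp <;> ring
  obtain ⟨g₁, hg₁, hv₁⟩ := key x hx
  obtain ⟨g₂, hg₂, hv₂⟩ := key 1 one_ne_zero
  refine ⟨g₁ * g₂, mul_mem hg₁ hg₂, ?_⟩
  rw [Units.val_mul, hv₁, hv₂]
  ext i j
  fin_cases i <;> fin_cases j <;> simp [Matrix.mul_apply, Fin.sum_univ_three, Matrix.diagonal_apply]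

end Prime

end CfsgLib.Perm.Trans.FiveDim.Pauli
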