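import Cfsg.Agent.Lib.Perm.Trans.FiveDim.Pauli.Basic
import Cfsg.Agent.Lib.Perm.Trans.FiveDim.Pauli.Lift
import Cfsg.Agent.Lib.Perm.Trans.FiveDim.Pauli.Orth

/-!
# The centraliser of the parity: nothing but the identity commutes with the phase and fixes the differences
-/

set_option autoImplicit false
set_option linter.all false

namespace CfsgLib.Perm.Trans.FiveDim.Pauli

open Matrix

variable {F : Type*} [Field F]

local notation "M5" => Matrix (Fin 5) (Fin 5) F
local notation "G5" => GL (Fin 5) F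

/-- the centraliser of the parity -/
def Dt (ω : Root F) (H : Subgroup G5) : Subgroup G5 := H ⊓ Subgroup.centralizer {gT ω}

variable {ω : Root F} {p : ℕ}
variable {H : Subgroup (GL (Fin 5) F)}

theorem mem_Dt {g : G5} : g ∈ Dt ω H ↔ g ∈ H ∧ g * gT ω = gT ω * g := by
  rw [Dt, Subgroup.mem_inf, Subgroup.mem_centralizer_singleton_iff]

theorem sym_Dt (g : Dt ω H) : Sym ((g : G5) : M5) :=
  sym_of_comm (by simpa [val_gT] using congrArg Units.val (mem_Dt.1 g.2).2)

theorem mem_Dt_of_sym {g : G5} (hg : g ∈ H) (hs : Sym (g : M5)) : g ∈ Dt ω H :=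
  mem_Dt.2 ⟨hg, Units.ext (by rw [Units.val_mul, Units.val_mul, val_gT, comm_of_sym hs])⟩

/-- the part on the sums as a homomorphism -/
def prA (ω : Root F) (H : Subgroup G5) : Dt ω H →* GL (Fin 3) F :=
  MonoidHom.toHomUnits
    { toFun := fun g => Am ((g : G5) : M5)
      map_one' := by rw [OneMemClass.coe_one, Units.val_one, Am_one]
      map_mul' := fun g h => by rw [Subgroup.coe_mul, Units.val_mul, Am_mul _ (sym_Dt h)] }

/-- the part on the differences as a homomorphism -/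
def prB (ω : Root F) (H : Subgroup G5) : Dt ω H →* GL (Fin 2) F :=
  MonoidHom.toHomUnits
    { toFun := fun g => Bm ((g : G5) : M5)
      map_one' := by rw [OneMemClass.coe_one, Units.val_one, Bm_one]
      map_mul' := fun g h => by rw [Subgroup.coe_mul, Units.val_mul, Bm_mul _ (sym_Dt h)] }

theorem val_prA (g : Dt ω H) : (prA ω H g : Matrix (Fin 3) (Fin 3) F) = Am ((g : G5) : M5) := rfl
theorem val_prB (g : Dt ω H) : (prB ω H g : Matrix (Fin 2) (Fin 2) F) = Bm ((g : G5) : M5) := rfl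

theorem eq_of_pr {g h : Dt ω H} (hA : prA ω H g = prA ω H h) (hB : prB ω H g = prB ω H h) : g = h :=
  Subtype.ext (Units.ext (eq_of_parts ω.two (sym_Dt g) (sym_Dt h) (congrArg Units.val hA) (congrArg Units.val hB)))

/-- `Q` in the centraliser of the parity -/
def dQ (hC : Ctx ω p H) : Dt ω H := ⟨gQ ω, mem_Dt_of_sym hC.memQ (by rw [val_gQ]; exact sym_qd _)⟩

/-- `W` in the centraliser of the parity -/
def dW (hC : Ctx ω p H) : Dt ω H := ⟨gW ω, mem_Dt_of_sym hC.memW (by rw [val_gW]; exact sym_wm)⟩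

/-- `P` in the centraliser of the parity -/
def dP (hC : Ctx ω p H) : Dt ω H := ⟨gP ω, mem_Dt_of_sym hC.memP (by rw [val_gP]; exact sym_fm ω)⟩

theorem prA_dQ_pow (hC : Ctx ω p H) (k : ℕ) :
    (prA ω H (dQ hC ^ k) : Matrix (Fin 3) (Fin 3) F) = Matrix.diagonal ![1, ω.μ ^ k, (ω.μ ^ k) ^ 4] := by
  rw [val_prA, SubgroupClass.coe_pow]
  show Am ((gQ ω ^ k : G5) : M5) = _
  rw [val_gQ_pow, Am_qd]

theorem prA_dQ (hC : Ctx ω p H) : (prA ω H (dQ hC) : Matrix (Fin 3) (Fin 3) F) = Matrix.diagonal ![1, ω.μ, ω.μ ^ 4] := by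
  rw [val_prA]; exact Am_qd _

theorem prA_dW (hC : Ctx ω p H) : (prA ω H (dW hC) : Matrix (Fin 3) (Fin 3) F) = !![-1, 0, 0; 0, 0, -1; 0, -1, 0] := by
  rw [val_prA]; exact Am_wm

theorem prA_dP (hC : Ctx ω p H) : (prA ω H (dP hC) : Matrix (Fin 3) (Fin 3) F) =
    (-ω.η⁻¹) • !![1, 2, 2; 1, ω.γ1, ω.γ2; 1, ω.γ2, ω.γ1] := by
  rw [val_prA]; exact Am_fm ω

theorem prB_dQ (hC : Ctx ω p H) : (prB ω H (dQ hC) : Matrix (Fin 2) (Fin 2) F) = Matrix.diagonal ![ω.μ, ω.μ ^ 4] := by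
  rw [val_prB]; exact Bm_qd _

theorem prB_dW (hC : Ctx ω p H) : (prB ω H (dW hC) : Matrix (Fin 2) (Fin 2) F) = !![0, 1; -1, 0] := by
  rw [val_prB]; exact Bm_wm

theorem prB_dP (hC : Ctx ω p H) : (prB ω H (dP hC) : Matrix (Fin 2) (Fin 2) F) =
    (-ω.η⁻¹) • !![ω.μ - ω.μ ^ 4, ω.μ ^ 2 - ω.μ ^ 3; ω.μ ^ 2 - ω.μ ^ 3, ω.μ ^ 4 - ω.μ] := by
  rw [val_prB]; exact Bm_fm ω

theorem Am_fm_orth : (Am (fm ω))ᵀ * qM * Am (fm ω) = qM := by
  have h := ω.η_sq
  have hm := ω.γ_mul
  have hs := ω.γ_add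
  have h0 := ω.η_ne_zero
  rw [Am_fm]
  ext i j
  fin_cases i <;> fin_cases j <;>
    simp [qM, Matrix.mul_apply, Matrix.vecMul, dotProduct, Matrix.transpose_apply, Fin.sum_univ_three] <;>
    field_simp <;> grind

theorem fourier_phase_cube (ω : Root F) :
    ((-ω.η⁻¹) • !![1, 2, 2; 1, ω.γ1, ω.γ2; 1, ω.γ2, ω.γ1] * Matrix.diagonal ![1, ω.μ ^ 2, ω.μ ^ 3]) ^ 3 =
      (1 : Matrix (Fin 3) (Fin 3) F) := by
  have hN : (!![1, 2 * ω.μ ^ 2, 2 * ω.μ ^ 3; 1, ω.γ1 * ω.μ ^ 2, ω.γ2 * ω.μ ^ 3;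
      1, ω.γ2 * ω.μ ^ 2, ω.γ1 * ω.μ ^ 3] : Matrix (Fin 3) (Fin 3) F) ^ 3 =
      (-(5 * ω.η)) • (1 : Matrix (Fin 3) (Fin 3) F) := by
    have he := ω.eq
    rw [pow_succ, pow_two]
    ext i j
    fin_cases i <;> fin_cases j <;>
      simp [Root.γ1, Root.γ2, Root.η, Matrix.mul_apply, Fin.sum_univ_three] <;> grind
  have e : (!![1, 2, 2; 1, ω.γ1, ω.γ2; 1, ω.γ2, ω.γ1] : Matrix (Fin 3) (Fin 3) F) *
      Matrix.diagonal ![1, ω.μ ^ 2, ω.μ ^ 3] = !![1, 2 * ω.μ ^ 2, 2 * ω.μ ^ 3; 1, ω.γ1 * ω.μ ^ 2, ω.γ2 * ω.μ ^ 3;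
      1, ω.γ2 * ω.μ ^ 2, ω.γ1 * ω.μ ^ 3] := by
    ext i j
    fin_cases i <;> fin_cases j <;> simp [Matrix.mul_apply, Matrix.diagonal_apply, Fin.sum_univ_three]
  have h0 := ω.η_ne_zero
  rw [Matrix.smul_mul, e, smul_pow, hN, smul_smul, show (-ω.η⁻¹) ^ 3 * -(5 * ω.η) = 1 by
    field_simp; linear_combination -ω.η_sq, one_smul]

variable [Finite F]

/-- no element of the group is minus one on two of the lines of the sums and fixes the rest -/
theorem Ctx.no_half_turn (hC : Ctx ω p H) (g : Dt ω H)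
    (hA : (prA ω H g : Matrix (Fin 3) (Fin 3) F) = Matrix.diagonal ![1, -1, -1]) (hB : prB ω H g = 1) : False := by
  classical
  haveI : Fact p.Prime := ⟨hC.prime⟩
  haveI := hC.char
  have h5 := ω.pow5
  set Q₂ := dQ hC ^ 2 with hQ₂
  obtain ⟨X₀, hX₀⟩ : ∃ X₀, X₀ = Subgroup.closure ({Q₂, dW hC, dP hC, g} : Set (Dt ω H)) := ⟨_, rfl⟩
  have m1 : Q₂ ∈ X₀ := hX₀ ▸ Subgroup.subset_closure (by simp)
  have m2 : dW hC ∈ X₀ := hX₀ ▸ Subgroup.subset_closure (by simp)
  have m3 : dP hC ∈ X₀ := hX₀ ▸ Subgroup.subset_closure (by simp)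
  have m4 : g ∈ X₀ := hX₀ ▸ Subgroup.subset_closure (by simp)
  obtain ⟨X, hX⟩ : ∃ X, X = X₀.map (prA ω H) := ⟨_, rfl⟩
  have hδv : (prA ω H Q₂ : Matrix (Fin 3) (Fin 3) F) = Matrix.diagonal ![1, ω.μ ^ 2, ω.μ ^ 3] := by
    rw [hQ₂, prA_dQ_pow, show (ω.μ ^ 2) ^ 4 = ω.μ ^ 3 by linear_combination (ω.μ ^ 3) * h5]
  have hWv := prA_dW hC
  have hΦv := prA_dP hC
  have hη := ω.η_sq
  have hη0 := ω.η_ne_zero
  have hm := ω.γ_mul
  have hs := ω.γ_add
  have hdvd : p ∣ Nat.card X := by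
    refine dvd_card_of_half_turn (δ := prA ω H Q₂) (W := prA ω H (dW hC)) (Φ := prA ω H (dP hC)) (a := prA ω H g)
      (hX ▸ Subgroup.mem_map_of_mem _ m1) (hX ▸ Subgroup.mem_map_of_mem _ m2) (hX ▸ Subgroup.mem_map_of_mem _ m3)
      (hX ▸ Subgroup.mem_map_of_mem _ m4) ?_ ?_ ?_ ?_ ?_ ?_ ?_ ?_ ?_ ?_ ?_
    · rw [hQ₂, ← map_pow, ← pow_mul]
      refine Units.ext ?_
      rw [prA_dQ_pow, pow_mul', h5, one_pow, one_pow, Units.val_one, ← Matrix.diagonal_one]
      congr 1; funext i; fin_cases i <;> simp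
    · refine Units.ext ?_
      rw [Units.val_mul, hWv, Units.val_one]
      ext i j; fin_cases i <;> fin_cases j <;> simp [Matrix.mul_apply, Fin.sum_univ_three]
    · refine Units.ext ?_
      rw [Units.val_mul, Units.val_mul, Units.val_mul, hWv, hδv, Units.val_one]
      ext i j; fin_cases i <;> fin_cases j <;>
        simp [Matrix.mul_apply, Matrix.vecMul, dotProduct, Fin.sum_univ_three, Matrix.diagonal_apply] <;>
        linear_combination h5
    · refine Units.ext ?_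
      rw [Units.val_mul, Units.val_mul, hA, hδv, Matrix.diagonal_mul_diagonal, Matrix.diagonal_mul_diagonal]
      simp only [mul_comm]
    · refine Units.ext ?_
      rw [Units.val_mul, Units.val_mul, hA, hWv]
      ext i j; fin_cases i <;> fin_cases j <;>
        simp [Matrix.mul_apply, Matrix.vecMul, dotProduct, Fin.sum_univ_three, Matrix.diagonal_apply]
    · refine Units.ext ?_
      rw [Units.val_mul, hA, Matrix.diagonal_mul_diagonal, Units.val_one, ← Matrix.diagonal_one]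
      congr 1; funext i; fin_cases i <;> simp
    · refine Units.ext ?_
      rw [Units.val_mul, val_prA]
      show Am (fm ω) * Am (fm ω) = _
      rw [← Am_mul _ (sym_fm ω), fm_sq, Am_tm, Units.val_one]
    · refine Units.ext ?_
      rw [Units.val_mul, Units.val_mul, hWv, hΦv]
      ext i j; fin_cases i <;> fin_cases j <;>
        simp [Matrix.mul_apply, Matrix.vecMul, dotProduct, Fin.sum_univ_three] <;> ring
    · refine Units.ext ?_
      rw [Units.val_pow_eq_pow_val, Units.val_mul, hδv, hΦv, Units.val_one]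
      exact fourier_phase_cube ω
    · intro e
      have := congrArg (fun x : GL (Fin 3) F => (x : Matrix (Fin 3) (Fin 3) F) 0 1) e
      rw [Units.val_mul, Units.val_mul, hδv, hΦv] at this
      simp [Matrix.mul_apply, Matrix.vecMul, dotProduct, Fin.sum_univ_three, Matrix.diagonal_apply, hη0, ω.two] at this
      exact ω.pow_ne_one (k := 2) (by norm_num) (by rcases this with h | h <;> simp [h])
    · intro e
      have := congrArg (fun x : GL (Fin 3) F => (x : Matrix (Fin 3) (Fin 3) F) 0 1) e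
      rw [Units.val_mul, Units.val_mul, hA, hΦv] at this
      simp [Matrix.mul_apply, Matrix.vecMul, dotProduct, Fin.sum_univ_three, Matrix.diagonal_apply, hη0, ω.two] at this
      refine mul_ne_zero (mul_ne_zero ω.two ω.two) (inv_ne_zero hη0) ?_
      linear_combination -this
  -- the group is orthogonal
  have horth : ∀ x ∈ X, (x : Matrix (Fin 3) (Fin 3) F)ᵀ * qM * (x : Matrix (Fin 3) (Fin 3) F) = qM := by
    subst hX hX₀
    rintro _ ⟨y, hy, rfl⟩
    induction hy using Subgroup.closure_induction with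
    | mem x hx =>
      rcases hx with rfl | rfl | rfl | rfl
      · rw [hδv]
        ext i j; fin_cases i <;> fin_cases j <;>
          simp [qM, Matrix.mul_apply, Matrix.vecMul, dotProduct, Fin.sum_univ_three, Matrix.diagonal_apply, Matrix.transpose_apply] <;>
          linear_combination 2 * h5
      · rw [hWv]
        ext i j; fin_cases i <;> fin_cases j <;>
          simp [qM, Matrix.mul_apply, Matrix.vecMul, dotProduct, Fin.sum_univ_three, Matrix.transpose_apply]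
      · rw [val_prA]; exact Am_fm_orth
      · rw [hA]
        ext i j; fin_cases i <;> fin_cases j <;>
          simp [qM, Matrix.mul_apply, Matrix.vecMul, dotProduct, Fin.sum_univ_three, Matrix.diagonal_apply, Matrix.transpose_apply]
    | one => simp
    | mul x y _ _ hx hy =>
      rw [map_mul, Units.val_mul, Matrix.transpose_mul]
      calc _ = (prA ω H y : Matrix (Fin 3) (Fin 3) F)ᵀ * ((prA ω H x : Matrix (Fin 3) (Fin 3) F)ᵀ * qM * (prA ω H x : Matrix (Fin 3) (Fin 3) F)) * (prA ω H y : Matrix (Fin 3) (Fin 3) F) := by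
            simp only [mul_assoc]
        _ = _ := by rw [hx, hy]
    | inv x _ hx =>
      rw [map_inv]
      conv_lhs => rw [← hx]
      calc _ = ((prA ω H x : Matrix (Fin 3) (Fin 3) F) * (((prA ω H x)⁻¹ : GL (Fin 3) F) : Matrix (Fin 3) (Fin 3) F))ᵀ * qM *
            ((prA ω H x : Matrix (Fin 3) (Fin 3) F) * (((prA ω H x)⁻¹ : GL (Fin 3) F) : Matrix (Fin 3) (Fin 3) F)) := by
            simp only [Matrix.transpose_mul, mul_assoc]
        _ = _ := by rw [Units.mul_inv, Matrix.transpose_one, one_mul, mul_one]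
  -- the torus in the kernel
  obtain ⟨K, hK⟩ : ∃ K, K = (prB ω H).ker.map (prA ω H) := ⟨_, rfl⟩
  have hn : ∀ x ∈ X, ∀ k ∈ K, x * k * x⁻¹ ∈ K := by
    subst hX hK
    rintro _ ⟨x, -, rfl⟩ _ ⟨k, hk, rfl⟩
    exact ⟨x * k * x⁻¹, (inferInstance : (prB ω H).ker.Normal).conj_mem k hk x, by simp⟩
  obtain ⟨a, ha0, ha⟩ := hC.big
  obtain ⟨z, hz, hzv⟩ := torus_mem (p := p) ω.two hC.surj horth hn (δ := prA ω H Q₂) (W := prA ω H (dW hC))
    (a := prA ω H g) (μ := ω.μ ^ 2) (ν := ω.μ ^ 3) (by linear_combination h5) (ω.pow_ne_one (by norm_num))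
    (hX ▸ Subgroup.mem_map_of_mem _ m1) hδv (hX ▸ Subgroup.mem_map_of_mem _ m2) hWv
    (hK ▸ Subgroup.mem_map_of_mem _ hB) hA hdvd ha0
  rw [hK] at hz
  obtain ⟨y, hy, rfl⟩ := hz
  have hy1 : prB ω H y = 1 := hy
  have hcomm : y * dQ hC = dQ hC * y := by
    refine eq_of_pr ?_ ?_
    · rw [map_mul, map_mul]
      refine Units.ext ?_
      rw [Units.val_mul, Units.val_mul, hzv, prA_dQ, Matrix.diagonal_mul_diagonal, Matrix.diagonal_mul_diagonal]
      simp only [mul_comm]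
    · rw [map_mul, map_mul, hy1, one_mul, mul_one]
  have h := hC.first_pair (mem_Dt.1 y.2).1 (congrArg Subtype.val hcomm) (sym_Dt y)
  have a11 := congrFun (congrFun hzv 1) 1
  have b11 := congrArg (fun x : GL (Fin 2) F => (x : Matrix (Fin 2) (Fin 2) F) 0 0) hy1
  simp [val_prA, Am] at a11
  simp [val_prB, Bm] at b11
  refine ha (sub_eq_zero.1 ?_)
  linear_combination 4 * h - (((y : G5) : M5) 1 1 + ((y : G5) : M5) 1 4 + a * a) * a11 +
    (((y : G5) : M5) 1 1 - ((y : G5) : M5) 1 4 + 1) * b11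

/-- in the centraliser of the phase nothing else fixes the differences -/
theorem Ctx.eq_one_of_comm (hC : Ctx ω p H) (y : Dt ω H) (hB : prB ω H y = 1)
    (hcomm : y * dQ hC = dQ hC * y) : y = 1 := by
  by_contra hy
  have hq : (y : G5) * gQ ω = gQ ω * (y : G5) := congrArg Subtype.val hcomm
  obtain ⟨h1, h2⟩ := hC.both_pairs (mem_Dt.1 y.2).1 hq (sym_Dt y)
  obtain ⟨z1, z2, z3, z4, z5, z6, z7, z8, z9, w1, w2, w3, w4, w5, w6, w7⟩ :=
    blocked_of_comm (ω := ω) (g := ((y : G5) : M5)) (by simpa [val_gQ] using congrArg Units.val hq)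
  have hBv := congrArg Units.val hB
  have b00 := congrFun (congrFun hBv 0) 0
  have b11 := congrFun (congrFun hBv 1) 1
  simp [val_prB, Bm] at b00 b11
  obtain ⟨a, b, c, hA, hb, hc⟩ : ∃ a b c : F, (prA ω H y : Matrix (Fin 3) (Fin 3) F) = Matrix.diagonal ![a, b, c] ∧
      b * b = 1 ∧ c * c = 1 := by
    refine ⟨((y : G5) : M5) 0 0, ((y : G5) : M5) 1 1 + ((y : G5) : M5) 1 4,
      ((y : G5) : M5) 2 2 + ((y : G5) : M5) 2 3, ?_, ?_, ?_⟩
    · rw [val_prA]
      ext i j; fin_cases i <;> fin_cases j <;> simp [Am, *]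
    · linear_combination (((y : G5) : M5) 1 1 - ((y : G5) : M5) 1 4 + 1) * b00 + 4 * h1
    · linear_combination (((y : G5) : M5) 2 2 - ((y : G5) : M5) 2 3 + 1) * b11 + 4 * h2
  have hdet : a * b * c = 1 := by
    have h := hC.det _ (mem_Dt.1 y.2).1
    rw [det_parts ω.two (sym_Dt y), ← val_prA, ← val_prB, hA, hB, Units.val_one, Matrix.det_one, mul_one,
      Matrix.det_diagonal, Fin.prod_univ_three] at h
    simpa using h
  have hb' := mul_self_eq_one_iff.1 hb
  have hc' := mul_self_eq_one_iff.1 hc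
  have hswap : (prA ω H (dW hC * y * (dW hC)⁻¹) : Matrix (Fin 3) (Fin 3) F) = Matrix.diagonal ![a, c, b] := by
    have e : (((prA ω H (dW hC))⁻¹ : GL (Fin 3) F) : Matrix (Fin 3) (Fin 3) F) = !![-1, 0, 0; 0, 0, -1; 0, -1, 0] := by
      refine left_inv_eq_right_inv (a := (prA ω H (dW hC) : Matrix (Fin 3) (Fin 3) F)) (Units.inv_mul _) ?_
      rw [prA_dW]
      ext i j; fin_cases i <;> fin_cases j <;> simp [Matrix.mul_apply, Fin.sum_univ_three]
    rw [map_mul, map_mul, map_inv, Units.val_mul, Units.val_mul, e, prA_dW, hA]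
    ext i j; fin_cases i <;> fin_cases j <;>
      simp [Matrix.mul_apply, Matrix.vecMul, dotProduct, Fin.sum_univ_three, Matrix.diagonal_apply]
  have hBswap : prB ω H (dW hC * y * (dW hC)⁻¹) = 1 := by simp [hB]
  rcases hb' with rfl | rfl <;> rcases hc' with rfl | rfl
  · refine hy (eq_of_pr (Units.ext ?_) (by rw [hB, map_one]))
    obtain rfl : a = 1 := by simpa using hdet
    rw [hA, map_one, Units.val_one, ← Matrix.diagonal_one]
    congr 1; funext i; fin_cases i <;> simp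
  · refine hC.no_half_turn (y * (dW hC * y * (dW hC)⁻¹)) ?_ (by rw [map_mul, hB, hBswap, mul_one])
    obtain rfl : a = -1 := by linear_combination -hdet
    rw [map_mul, Units.val_mul, hA, hswap, Matrix.diagonal_mul_diagonal]
    congr 1; funext i; fin_cases i <;> simp
  · refine hC.no_half_turn (y * (dW hC * y * (dW hC)⁻¹)) ?_ (by rw [map_mul, hB, hBswap, mul_one])
    obtain rfl : a = -1 := by linear_combination -hdet
    rw [map_mul, Units.val_mul, hA, hswap, Matrix.diagonal_mul_diagonal]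
    congr 1; funext i; fin_cases i <;> simp
  · refine hC.no_half_turn y ?_ hB
    obtain rfl : a = 1 := by linear_combination hdet
    exact hA

end CfsgLib.Perm.Trans.FiveDim.Pauli
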